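import Mathlib

/-!
# Groups acting on a pair of dual spaces over the field with two elements

`Duo G E E'` : a finite group `G` acting on two spaces over `ZMod 2` in perfect duality.  The
basic tool is Fourier inversion: a function on `E'` invariant under a subgroup is controlled by
the orbit structure of that subgroup on `E`.
-/

namespace CfsgLib.LinTwo

abbrev K2 := ZMod 2

lemma k2_eq_one {a : K2} (h : a ≠ 0) : a = 1 := by
  revert h; revert a; decide

lemma k2_ne_zero_iff {a : K2} : a ≠ 0 ↔ a = 1 := by
  revert a; decide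

section Char2

variable {E : Type*} [AddCommGroup E] [Module K2 E]

lemma vadd_self (x : E) : x + x = 0 := ZModModule.add_self x

lemma add_add_cancel_right' (x y : E) : x + y + y = x := by
  rw [add_assoc, vadd_self, add_zero]

lemma add_add_cancel_left' (x y : E) : x + (x + y) = y := by
  rw [← add_assoc, vadd_self, zero_add]

lemma add_eq_zero_iff_eq' {x y : E} : x + y = 0 ↔ x = y := by
  constructor
  · intro h
    have := congrArg (· + y) h
    simpa [add_assoc, vadd_self] using this
  · rintro rfl; exact vadd_self x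

lemma sub_eq_add' (x y : E) : x - y = x + y := ZModModule.sub_eq_add x y

lemma k2_smul_cases (a : K2) (x : E) : a • x = 0 ∨ a • x = x := by
  rcases (show a = 0 ∨ a = 1 by revert a; decide) with rfl | rfl
  · exact Or.inl (zero_smul _ _)
  · exact Or.inr (one_smul _ _)

lemma mem_span_one {x z : E} : z ∈ Submodule.span K2 ({x} : Set E) ↔ z = 0 ∨ z = x := by
  rw [Submodule.mem_span_singleton]
  constructor
  · rintro ⟨a, rfl⟩; exact k2_smul_cases a x
  · rintro (rfl | rfl)
    · exact ⟨0, zero_smul _ _⟩
    · exact ⟨1, one_smul _ _⟩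

lemma mem_span_two {x y z : E} :
    z ∈ Submodule.span K2 ({x, y} : Set E) ↔ z = 0 ∨ z = x ∨ z = y ∨ z = x + y := by
  rw [Submodule.mem_span_pair]
  constructor
  · rintro ⟨a, b, rfl⟩
    rcases k2_smul_cases a x with h | h <;> rcases k2_smul_cases b y with h' | h' <;> simp [h, h']
  · rintro (rfl | rfl | rfl | rfl)
    · exact ⟨0, 0, by simp⟩
    · exact ⟨1, 0, by simp⟩
    · exact ⟨0, 1, by simp⟩
    · exact ⟨1, 1, by simp⟩

lemma card_top_submodule : Nat.card (⊤ : Submodule K2 E) = Nat.card E :=
  Nat.card_congr (Submodule.topEquiv (R := K2) (M := E)).toEquiv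

end Char2

/-- The sign character of `ZMod 2`. -/
def sgn (a : K2) : ℤ := if a = 0 then 1 else -1

lemma sgn_zero : sgn 0 = 1 := rfl
lemma sgn_one : sgn 1 = -1 := rfl

lemma sgn_add (a b : K2) : sgn (a + b) = sgn a * sgn b := by
  revert a b; decide

lemma sgn_mul_self (a : K2) : sgn a * sgn a = 1 := by
  revert a; decide

/-- A group acting on two spaces over `ZMod 2` in perfect duality. -/
structure Duo (G E E' : Type*) [Group G] [AddCommGroup E] [Module K2 E] [AddCommGroup E']
    [Module K2 E'] where
  act : G →* (E ≃ₗ[K2] E)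
  act' : G →* (E' ≃ₗ[K2] E')
  pair : E →ₗ[K2] E' →ₗ[K2] K2
  inv : ∀ g z l, pair (act g z) (act' g l) = pair z l
  nd : ∀ z, (∀ l, pair z l = 0) → z = 0
  nd' : ∀ l, (∀ z, pair z l = 0) → l = 0

namespace Duo

variable {G E E' : Type*} [Group G] [AddCommGroup E] [Module K2 E] [AddCommGroup E'] [Module K2 E']
variable (D : Duo G E E')

/-- Exchange the two spaces. -/
def flip : Duo G E' E where
  act := D.act'
  act' := D.act
  pair := D.pair.flip
  inv g z l := D.inv g l z
  nd := D.nd'
  nd' := D.nd

@[simp] lemma flip_act : D.flip.act = D.act' := rfl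
@[simp] lemma flip_act' : D.flip.act' = D.act := rfl
@[simp] lemma flip_pair (l : E') (z : E) : D.flip.pair l z = D.pair z l := rfl

lemma act_mul (g h : G) (z : E) : D.act (g * h) z = D.act g (D.act h z) := by
  simp [map_mul]

lemma act'_mul (g h : G) (l : E') : D.act' (g * h) l = D.act' g (D.act' h l) :=
  D.flip.act_mul g h l

lemma act_one (z : E) : D.act 1 z = z := by simp

lemma act'_one (l : E') : D.act' 1 l = l := by simp

lemma act_inv_act (g : G) (z : E) : D.act g⁻¹ (D.act g z) = z := by
  rw [← act_mul, inv_mul_cancel, act_one]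

lemma act'_inv_act (g : G) (l : E') : D.act' g⁻¹ (D.act' g l) = l := D.flip.act_inv_act g l

lemma act_act_inv (g : G) (z : E) : D.act g (D.act g⁻¹ z) = z := by
  rw [← act_mul, mul_inv_cancel, act_one]

lemma act'_act_inv (g : G) (l : E') : D.act' g (D.act' g⁻¹ l) = l := D.flip.act_act_inv g l

lemma pair_act_left (g : G) (z : E) (l : E') :
    D.pair (D.act g z) l = D.pair z (D.act' g⁻¹ l) := by
  conv_lhs => rw [← D.act'_act_inv g l]
  rw [D.inv]

lemma pair_act_right (g : G) (z : E) (l : E') :
    D.pair z (D.act' g l) = D.pair (D.act g⁻¹ z) l :=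
  D.flip.pair_act_left g l z

variable [Finite E] [Finite E']

lemma pair_bijective : Function.Bijective (fun l : E' => D.pair.flip l) := by
  have h1 : Function.Injective (D.pair.flip) := by
    rw [injective_iff_map_eq_zero]
    intro l hl
    exact D.nd' l fun z => by simpa using LinearMap.congr_fun hl z
  have h2 : Function.Injective (D.pair) := by
    rw [injective_iff_map_eq_zero]
    intro z hz
    exact D.nd z fun l => by simp [hz]
  haveI : Module.Finite K2 E := Module.Finite.of_finite
  haveI : Module.Finite K2 E' := Module.Finite.of_finite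
  have e1 := LinearMap.finrank_le_finrank_of_injective h1
  have e2 := LinearMap.finrank_le_finrank_of_injective h2
  rw [Subspace.dual_finrank_eq] at e1 e2
  refine ⟨h1, ?_⟩
  exact (LinearMap.injective_iff_surjective_of_finrank_eq_finrank
    (by rw [Subspace.dual_finrank_eq]; omega)).1 h1

/-- A functional vanishing on a subspace and not at a given point outside it. -/
lemma exists_fun {P : Submodule K2 E} {z : E} (hz : z ∉ P) :
    ∃ l, (∀ p ∈ P, D.pair p l = 0) ∧ D.pair z l = 1 := by
  haveI : Module.Finite K2 E := Module.Finite.of_finite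
  obtain ⟨f, hf, hP⟩ := P.exists_dual_map_eq_bot_of_notMem hz inferInstance
  obtain ⟨l, hl⟩ := D.pair_bijective.2 f
  have hl' : ∀ w, D.pair w l = f w := fun w => by rw [← hl]; rfl
  refine ⟨l, fun p hp => ?_, ?_⟩
  · rw [hl']
    have : f p ∈ P.map f := Submodule.mem_map_of_mem hp
    rwa [hP, Submodule.mem_bot] at this
  · rw [hl']; exact k2_eq_one hf

lemma exists_pair_one {z : E} (hz : z ≠ 0) : ∃ l, D.pair z l = 1 := by
  obtain ⟨l, -, hl⟩ := D.exists_fun (P := ⊥) (z := z) (by simpa using hz)
  exact ⟨l, hl⟩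

/-- Orthogonal of a subspace of `E`. -/
def perp (P : Submodule K2 E) : Submodule K2 E' where
  carrier := {l | ∀ p ∈ P, D.pair p l = 0}
  zero_mem' := fun p _ => by simp
  add_mem' := fun ha hb p hp => by simp [ha p hp, hb p hp]
  smul_mem' := fun c _ ha p hp => by simp [ha p hp]

lemma mem_perp {P : Submodule K2 E} {l : E'} : l ∈ D.perp P ↔ ∀ p ∈ P, D.pair p l = 0 := Iff.rfl

lemma card_perp (P : Submodule K2 E) :
    Nat.card (D.perp P) * Nat.card P = Nat.card E := by
  haveI : Module.Finite K2 E := Module.Finite.of_finite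
  have e : D.perp P ≃ P.dualAnnihilator :=
    Equiv.subtypeEquiv (Equiv.ofBijective _ D.pair_bijective) fun l => by
      simp only [Submodule.mem_dualAnnihilator, mem_perp, Equiv.ofBijective_apply,
        LinearMap.flip_apply]
  rw [Nat.card_congr e]
  have h1 := Subspace.finrank_add_finrank_dualAnnihilator_eq P
  haveI : Finite (Module.Dual K2 E) :=
    Finite.of_injective (fun f => (f : E → K2)) DFunLike.coe_injective
  haveI : Module.Finite K2 P.dualAnnihilator := Module.Finite.of_finite
  haveI : Module.Finite K2 P := Module.Finite.of_finite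
  rw [Module.natCard_eq_pow_finrank (K := K2) (V := P.dualAnnihilator),
    Module.natCard_eq_pow_finrank (K := K2) (V := P),
    Module.natCard_eq_pow_finrank (K := K2) (V := E), ← pow_add]
  congr 1
  omega

include D in
lemma card_eq : Nat.card E' = Nat.card E := by
  have h := D.card_perp ⊥
  have : D.perp ⊥ = ⊤ := by
    ext l
    simp [mem_perp]
  rw [this, card_top_submodule] at h
  simpa using h

lemma perp_perp (P : Submodule K2 E) : D.flip.perp (D.perp P) = P := by
  refine le_antisymm ?_ ?_
  · intro z hz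
    by_contra hzP
    obtain ⟨l, hl, hl1⟩ := D.exists_fun hzP
    have := hz l hl
    simp [hl1] at this
  · intro z hz l hl
    exact hl z hz

lemma perp_anti {P Q : Submodule K2 E} (h : P ≤ Q) : D.perp Q ≤ D.perp P :=
  fun _ hl p hp => hl p (h hp)

lemma perp_sup (P Q : Submodule K2 E) : D.perp (P ⊔ Q) = D.perp P ⊓ D.perp Q := by
  refine le_antisymm (le_inf (D.perp_anti le_sup_left) (D.perp_anti le_sup_right)) ?_
  rintro l ⟨h1, h2⟩ z hz
  obtain ⟨a, ha, b, hb, rfl⟩ := Submodule.mem_sup.1 hz
  simp [h1 a ha, h2 b hb]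

lemma sum_sgn [Fintype E'] {z : E} (hz : z ≠ 0) : ∑ l : E', sgn (D.pair z l) = 0 := by
  obtain ⟨m, hm⟩ := D.exists_pair_one hz
  have h : ∑ l : E', sgn (D.pair z l) = ∑ l : E', sgn (D.pair z (l + m)) :=
    (Equiv.sum_comp (Equiv.addRight m) (fun l => sgn (D.pair z l))).symm
  have h' : ∑ l : E', sgn (D.pair z (l + m)) = -∑ l : E', sgn (D.pair z l) := by
    rw [← Finset.sum_neg_distrib]
    refine Finset.sum_congr rfl fun l _ => ?_
    rw [map_add, sgn_add, hm, sgn_one]
    ring
  omega

/-- Fourier transform of a function on `E'`. -/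
noncomputable def hat (f : E' → ℤ) (z : E) : ℤ := by
  classical exact letI := Fintype.ofFinite E'; ∑ l : E', f l * sgn (D.pair z l)

lemma hat_eq [Fintype E'] (f : E' → ℤ) (z : E) :
    D.hat f z = ∑ l : E', f l * sgn (D.pair z l) := by
  classical
  unfold hat
  congr 1
  exact Finset.ext fun _ => by simp

lemma inversion [Fintype E] [Fintype E'] (f : E' → ℤ) (m : E') :
    ∑ z : E, D.hat f z * sgn (D.pair z m) = Fintype.card E * f m := by
  classical
  simp only [hat_eq, Finset.sum_mul]
  rw [Finset.sum_comm]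
  have : ∀ l : E', ∑ z : E, f l * sgn (D.pair z l) * sgn (D.pair z m) =
      if l = m then (Fintype.card E : ℤ) * f m else 0 := by
    intro l
    have hr : ∀ z : E, f l * sgn (D.pair z l) * sgn (D.pair z m) =
        f l * sgn (D.pair z (l + m)) := fun z => by rw [map_add, sgn_add]; ring
    simp only [hr, ← Finset.mul_sum]
    split
    · next h => subst h; simp [vadd_self, sgn_zero, mul_comm]
    · next h =>
      have h0 := D.flip.sum_sgn (z := l + m) (by rwa [Ne, add_eq_zero_iff_eq'])
      simp only [flip_pair] at h0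
      rw [h0, mul_zero]
  simp [this]

lemma hat_act (f : E' → ℤ) (g : G) (hf : ∀ l, f (D.act' g l) = f l) (z : E) :
    D.hat f (D.act g z) = D.hat f z := by
  classical
  letI := Fintype.ofFinite E'
  simp only [hat_eq]
  rw [← Equiv.sum_comp (D.act' g).toEquiv (fun l => f l * sgn (D.pair (D.act g z) l))]
  simp [hf, D.inv]

/-- A function on `E'` whose transform is invariant under `g` is invariant under `g`. -/
lemma inv_of_hat (f : E' → ℤ) (g : G) (h : ∀ z, D.hat f (D.act g z) = D.hat f z) (l : E') :
    f (D.act' g l) = f l := by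
  classical
  letI := Fintype.ofFinite E
  letI := Fintype.ofFinite E'
  have h1 := D.inversion f (D.act' g l)
  rw [← Equiv.sum_comp (D.act g).toEquiv (fun z => D.hat f z * sgn (D.pair z (D.act' g l)))] at h1
  simp only [LinearEquiv.coe_toEquiv, h, D.inv] at h1
  rw [D.inversion f l] at h1
  exact (mul_left_cancel₀ (by exact_mod_cast Fintype.card_ne_zero) h1).symm

/-- A function on `E'` whose transform is constant outside a subspace `P` depends on
`m ≠ 0` only through the restriction of `m` to `P`. -/
lemma eq_of_hat_const (f : E' → ℤ) (P : Submodule K2 E)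
    (h : ∀ z w : E, z ∉ P → w ∉ P → D.hat f z = D.hat f w)
    {m m' : E'} (hm : m ≠ 0) (hm' : m' ≠ 0) (hP : ∀ p ∈ P, D.pair p m = D.pair p m') :
    f m = f m' := by
  classical
  letI := Fintype.ofFinite E
  letI := Fintype.ofFinite E'
  obtain ⟨c, hc⟩ : ∃ c, ∀ z, z ∉ P → D.hat f z = c := by
    by_cases he : ∃ z₀, z₀ ∉ P
    · obtain ⟨z₀, hz₀⟩ := he
      exact ⟨_, fun z hz => h z z₀ hz hz₀⟩
    · exact ⟨0, fun z hz => absurd ⟨z, hz⟩ he⟩
  have key : ∀ k : E', k ≠ 0 → (Fintype.card E : ℤ) * f k =
      ∑ z : E, (if z ∈ P then (D.hat f z - c) * sgn (D.pair z k) else 0) := by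
    intro k hk
    have h0 := D.flip.sum_sgn hk
    simp only [flip_pair] at h0
    have e : ∀ z : E, (if z ∈ P then (D.hat f z - c) * sgn (D.pair z k) else 0) =
        D.hat f z * sgn (D.pair z k) - c * sgn (D.pair z k) := by
      intro z
      split
      · ring
      · next hz => rw [hc z hz]; ring
    rw [← D.inversion f k]
    simp only [e, Finset.sum_sub_distrib, ← Finset.mul_sum, h0, mul_zero, sub_zero]
  have h1 := key m hm
  have h2 := key m' hm'
  have h3 : ∑ z : E, (if z ∈ P then (D.hat f z - c) * sgn (D.pair z m) else 0) =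
      ∑ z : E, (if z ∈ P then (D.hat f z - c) * sgn (D.pair z m') else 0) := by
    refine Finset.sum_congr rfl fun z _ => ?_
    split
    · next hz => rw [hP z hz]
    · rfl
  rw [h3, ← h2] at h1
  exact mul_left_cancel₀ (by exact_mod_cast Fintype.card_ne_zero) h1

/-- If the subgroup `K` is transitive outside `P`, then it is transitive on the nonzero
functionals with given restriction to `P`. -/
lemma trans_dual_of_trans (K : Subgroup G) (P : Submodule K2 E)
    (h : ∀ z w : E, z ∉ P → w ∉ P → ∃ k ∈ K, D.act k z = w)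
    {m m' : E'} (hm : m ≠ 0) (hm' : m' ≠ 0) (hP : ∀ p ∈ P, D.pair p m = D.pair p m') :
    ∃ k ∈ K, D.act' k m = m' := by
  classical
  let f : E' → ℤ := fun l => if ∃ k ∈ K, D.act' k m = l then 1 else 0
  have hf : ∀ k ∈ K, ∀ l, f (D.act' k l) = f l := by
    intro k hk l
    simp only [f]
    refine if_congr ⟨?_, ?_⟩ rfl rfl
    · rintro ⟨a, ha, e⟩
      exact ⟨k⁻¹ * a, K.mul_mem (K.inv_mem hk) ha, by rw [D.act'_mul, e, D.act'_inv_act]⟩
    · rintro ⟨a, ha, rfl⟩
      exact ⟨k * a, K.mul_mem hk ha, D.act'_mul k a m⟩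
  have := D.eq_of_hat_const f P (fun z w hz hw => by
    obtain ⟨k, hk, rfl⟩ := h z w hz hw
    exact (D.hat_act f k (hf k hk) z).symm) hm hm' hP
  have h1 : f m = 1 := if_pos ⟨1, K.one_mem, D.act'_one m⟩
  rw [h1] at this
  by_contra hne
  rw [show f m' = 0 from if_neg hne] at this
  exact one_ne_zero this

/-- If `g`-images of functionals with equal restriction to `⟨x, y⟩` (not both zero) are conjugate
under `K`, then the `K`-orbit of a point outside `⟨x, y⟩` is closed under adding `y`. -/
lemma coset_of_traces (K : Subgroup G) {x y : E}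
    (hfix : ∀ k ∈ K, D.act k x = x ∧ D.act k y = y)
    (h : ∀ l l' : E', D.pair x l = D.pair x l' → D.pair y l = D.pair y l' →
      D.pair y l = 1 → ∃ k ∈ K, D.act' k l = l')
    {z : E} (hz : z ∉ Submodule.span K2 ({x, y} : Set E)) :
    ∃ k ∈ K, D.act k z = z + y := by
  classical
  letI := Fintype.ofFinite E
  letI := Fintype.ofFinite E'
  let f : E → ℤ := fun w => if ∃ k ∈ K, D.act k z = w then 1 else 0
  have hf : ∀ k ∈ K, ∀ w, f (D.act k w) = f w := by
    intro k hk w
    simp only [f]
    refine if_congr ⟨?_, ?_⟩ rfl rfl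
    · rintro ⟨a, ha, e⟩
      exact ⟨k⁻¹ * a, K.mul_mem (K.inv_mem hk) ha, by rw [D.act_mul, e, D.act_inv_act]⟩
    · rintro ⟨a, ha, rfl⟩
      exact ⟨k * a, K.mul_mem hk ha, D.act_mul k a z⟩
  let d : E → ℤ := fun w => f w - f (w + y)
  -- the transform of `d`
  have hd : ∀ l, D.flip.hat d l = D.flip.hat f l * (1 - sgn (D.pair y l)) := by
    intro l
    simp only [hat_eq, flip_pair, d, sub_mul, Finset.sum_sub_distrib, Finset.sum_mul]
    rw [← Finset.sum_sub_distrib,
      show (∑ w : E, f w * sgn (D.pair w l) * (1 - sgn (D.pair y l))) =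
        ∑ w : E, f w * sgn (D.pair w l) - ∑ w : E, f w * sgn (D.pair w l) * sgn (D.pair y l) by
        rw [← Finset.sum_sub_distrib]; exact Finset.sum_congr rfl fun w _ => by ring,
      Finset.sum_sub_distrib]
    congr 1
    rw [← Equiv.sum_comp (Equiv.addRight y) (fun w => f (w + y) * sgn (D.pair w l))]
    refine Finset.sum_congr rfl fun w _ => ?_
    simp only [Equiv.coe_addRight, add_add_cancel_right', map_add, LinearMap.add_apply, sgn_add]
    ring
  have hconst : ∀ l l', D.pair x l = D.pair x l' → D.pair y l = D.pair y l' →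
      D.flip.hat d l = D.flip.hat d l' := by
    intro l l' hx hy
    rw [hd, hd, ← hy]
    by_cases h0 : D.pair y l = 0
    · simp [h0, sgn_zero]
    · obtain ⟨k, hk, rfl⟩ := h l l' hx hy (k2_eq_one h0)
      congr 1
      exact (D.flip.hat_act f k (hf k hk) l).symm
  obtain ⟨μ, hμ, hμz⟩ := D.exists_fun hz
  have hμx : D.pair x μ = 0 := hμ x (Submodule.subset_span (by simp))
  have hμy : D.pair y μ = 0 := hμ y (Submodule.subset_span (by simp))
  have hinv := D.flip.inversion d z
  have hneg : ∑ l : E', D.flip.hat d l * sgn (D.flip.pair l z) =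
      -∑ l : E', D.flip.hat d l * sgn (D.flip.pair l z) := by
    conv_lhs => rw [← Equiv.sum_comp (Equiv.addRight μ)
      (fun l => D.flip.hat d l * sgn (D.flip.pair l z))]
    rw [← Finset.sum_neg_distrib]
    refine Finset.sum_congr rfl fun l _ => ?_
    simp only [Equiv.coe_addRight, flip_pair]
    rw [map_add, sgn_add, hμz, sgn_one]
    rw [hconst (l + μ) l (by simp [hμx]) (by simp [hμy])]
    ring
  have h0 : (Fintype.card E' : ℤ) * d z = 0 := by rw [← hinv]; omega
  have hdz : d z = 0 := (mul_eq_zero.1 h0).resolve_left (by exact_mod_cast Fintype.card_ne_zero)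
  have h1 : f z = 1 := if_pos ⟨1, K.one_mem, D.act_one z⟩
  by_contra hne
  have h2 : f (z + y) = 0 := if_neg hne
  simp only [d, h1, h2] at hdz
  omega

/-- The stabiliser of a point of `E`. -/
def stab (x : E) : Subgroup G where
  carrier := {g | D.act g x = x}
  mul_mem' := fun {a b} ha hb => by
    show D.act (a * b) x = x
    rw [act_mul, show D.act b x = x from hb, show D.act a x = x from ha]
  one_mem' := D.act_one x
  inv_mem' := fun {a} ha => by
    show D.act a⁻¹ x = x
    conv_lhs => rw [← show D.act a x = x from ha]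
    exact D.act_inv_act a x

lemma mem_stab {x : E} {g : G} : g ∈ D.stab x ↔ D.act g x = x := Iff.rfl

end Duo

/-- Orbits of coprime size: the stabiliser of a point of one is transitive on the other. -/
lemma coprime_move {K α β : Type*} [Group K] [Finite K] [MulAction K α] [MulAction K β]
    (a : α) {b b' : β}
    (hc : (Nat.card (MulAction.orbit K a)).Coprime (Nat.card (MulAction.orbit K b)))
    (hb : b' ∈ MulAction.orbit K b) :
    ∃ k : K, k • a = a ∧ k • b = b' := by
  classical
  haveI : Finite (MulAction.orbit K a) := Set.finite_range _ |>.to_subtype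
  haveI : Finite (MulAction.orbit K b) := Set.finite_range _ |>.to_subtype
  haveI : Finite (MulAction.orbit K (a, b)) := Set.finite_range _ |>.to_subtype
  let ι : MulAction.orbit K (a, b) → MulAction.orbit K a × MulAction.orbit K b := fun p =>
    (⟨p.1.1, by obtain ⟨_, k, rfl⟩ := p; exact ⟨k, rfl⟩⟩,
     ⟨p.1.2, by obtain ⟨_, k, rfl⟩ := p; exact ⟨k, rfl⟩⟩)
  have hι : Function.Injective ι := by
    intro p q h
    simp only [ι, Prod.mk.injEq, Subtype.mk.injEq] at h
    exact Subtype.ext (Prod.ext h.1 h.2)
  have hle := Nat.card_le_card_of_injective ι hι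
  rw [Nat.card_prod] at hle
  have hdiv : Nat.card (MulAction.orbit K a) * Nat.card (MulAction.orbit K b) ∣
      Nat.card (MulAction.orbit K (a, b)) := by
    refine hc.mul_dvd_of_dvd_of_dvd ?_ ?_
    · simp only [Nat.card_coe_set_eq, ← MulAction.index_stabilizer]
      exact Subgroup.index_dvd_of_le fun k hk => congrArg Prod.fst hk
    · simp only [Nat.card_coe_set_eq, ← MulAction.index_stabilizer]
      exact Subgroup.index_dvd_of_le fun k hk => congrArg Prod.snd hk
  haveI : Nonempty (MulAction.orbit K (a, b)) := ⟨⟨_, MulAction.mem_orbit_self _⟩⟩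
  have heq := le_antisymm hle (Nat.le_of_dvd Nat.card_pos hdiv)
  have hsurj : Function.Surjective ι :=
    (hι.bijective_of_nat_card_le (by rw [Nat.card_prod]; omega)).2
  obtain ⟨⟨p, k, hk⟩, hp⟩ := hsurj (⟨a, MulAction.mem_orbit_self a⟩, ⟨b', hb⟩)
  simp only [ι, Prod.mk.injEq, Subtype.mk.injEq] at hp
  refine ⟨k, ?_, ?_⟩
  · exact (congrArg Prod.fst hk).trans hp.1
  · exact (congrArg Prod.snd hk).trans hp.2

end CfsgLib.LinTwo
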