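import Cfsg.Agent.Lib.LinTwo.Count

/-!
# Spans of three vectors
-/

namespace CfsgLib.LinTwo

variable {E : Type*} [AddCommGroup E] [Module K2 E]

/-- The span of three vectors. -/
def sp3 (x y z : E) : Submodule K2 E :=
  Submodule.span K2 ({x, y} : Set E) ⊔ Submodule.span K2 {z}

lemma mem_sup_one {P : Submodule K2 E} {z p : E} :
    p ∈ P ⊔ Submodule.span K2 {z} ↔ p ∈ P ∨ p + z ∈ P := by
  constructor
  · intro h
    obtain ⟨a, ha, b, hb, rfl⟩ := Submodule.mem_sup.1 h
    rcases mem_span_one.1 hb with rfl | rfl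
    · exact Or.inl (by rwa [add_zero])
    · exact Or.inr (by rwa [add_add_cancel_right'])
  · rintro (h | h)
    · exact Submodule.mem_sup_left h
    · refine Submodule.mem_sup.2 ⟨p + z, h, z, Submodule.mem_span_singleton_self z, ?_⟩
      exact add_add_cancel_right' p z

lemma sp3_le {x y z : E} {P : Submodule K2 E} (hx : x ∈ P) (hy : y ∈ P) (hz : z ∈ P) :
    sp3 x y z ≤ P :=
  sup_le (Submodule.span_le.2 (by simp [Set.insert_subset_iff, hx, hy]))
    ((Submodule.span_singleton_le_iff_mem _ _).2 hz)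

lemma mem_sp3_1 {x y z : E} : x ∈ sp3 x y z :=
  Submodule.mem_sup_left (Submodule.subset_span (by simp))

lemma mem_sp3_2 {x y z : E} : y ∈ sp3 x y z :=
  Submodule.mem_sup_left (Submodule.subset_span (by simp))

lemma mem_sp3_3 {x y z : E} : z ∈ sp3 x y z :=
  Submodule.mem_sup_right (Submodule.mem_span_singleton_self z)

lemma span_pair_le {x y : E} {P : Submodule K2 E} (hx : x ∈ P) (hy : y ∈ P) :
    Submodule.span K2 ({x, y} : Set E) ≤ P :=
  Submodule.span_le.2 (by simp [Set.insert_subset_iff, hx, hy])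

lemma Ind3.add3' {x y z : E} (h : Ind3 x y z) : Ind3 x y (y + z) := by
  refine (ind3_iff h.ind2).2 fun e => (ind3_iff h.ind2).1 h ?_
  have := add_mem (Submodule.subset_span (by simp) : y ∈ Submodule.span K2 ({x, y} : Set E)) e
  rwa [add_add_cancel_left'] at this

variable [Finite E]

lemma card_sup_one {P : Submodule K2 E} {z : E} (hz : z ∉ P) :
    Nat.card ↥(P ⊔ Submodule.span K2 {z}) = 2 * Nat.card P := by
  have h := card_sup_mul_inf P (Submodule.span K2 {z})
  have hb : P ⊓ Submodule.span K2 {z} = ⊥ := by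
    rw [eq_bot_iff]
    rintro p ⟨hp, hp'⟩
    rcases mem_span_one.1 hp' with rfl | rfl
    · exact zero_mem _
    · exact absurd hp hz
  rw [hb, show Nat.card (⊥ : Submodule K2 E) = 1 from Nat.card_unique, mul_one,
    Duo.card_span_one (fun h0 => hz (by rw [h0]; exact zero_mem P)), mul_comm] at h
  exact h

lemma card_sp3 {x y z : E} (h : Ind3 x y z) : Nat.card (sp3 x y z) = 8 := by
  rw [sp3, card_sup_one ((ind3_iff h.ind2).1 h), Duo.card_span_two h.ind2]

lemma exists_not_mem_sub {P Q : Submodule K2 E} (h : Nat.card P < Nat.card Q) : ∃ q ∈ Q, q ∉ P := by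
  by_contra hne
  push Not at hne
  have := Nat.card_mono (Set.toFinite _) (hne : (Q : Set E) ⊆ P)
  simp only [SetLike.coe_sort_coe] at this
  omega

end CfsgLib.LinTwo
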