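import Cfsg.Agent.Lib.LinTwo.Plane
import Cfsg.Agent.Lib.LinTwo.Span

/-!
# Every `U x y` is closed: `U x z = U x y` for `z` in `U x y`

The only hard case is `a = 3`, excluded by an argument on planes.
-/

namespace CfsgLib.LinTwo
namespace Duo
namespace Sys

variable {G E E' : Type*} [Group G] [AddCommGroup E] [Module K2 E] [AddCommGroup E'] [Module K2 E']
variable [Finite G] [Finite E] [Finite E'] {D : Duo G E E'}
variable (Y : D.Sys)

/-- A quadruple `x, y, z, w` with `w ∈ U x z` and `z, w ∈ U x y` does not occur. -/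
def NoNT : Prop :=
  ∀ x y z w, Ind3 x y z → w ∉ sp3 x y z → z ∈ Y.H.U x y → w ∈ Y.H.U x y → w ∉ Y.H.U x z

/-- `u` is a partner of the point `v` of the plane `P`. -/
def Mid (P : Submodule K2 E) (v u : E) : Prop :=
  v ∈ P ∧ v ≠ 0 ∧ u ∉ P ∧ P ≤ Y.H.U v u

variable {Y} {P : Submodule K2 E} {v r u u' : E}

lemma Mid.ind2 (h : Y.Mid P v u) : Ind2 v u :=
  ⟨h.2.1, fun e => h.2.2.1 (e ▸ zero_mem P), fun e => h.2.2.1 (e ▸ h.1)⟩

lemma Mid.ind3 (h : Y.Mid P v u) {p : E} (hp : p ∈ P) (hvp : Ind2 v p) : Ind3 v p u :=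
  (ind3_iff hvp).2 fun hu => h.2.2.1 (span_pair_le h.1 hp hu)

lemma Mid.mem (h : Y.Mid P v u) {p : E} (hp : p ∈ P) (hvp : Ind2 v p) : u ∈ Y.H.U v p :=
  Y.H.U_sym (h.ind3 hp hvp).swap23 (h.2.2.2 hp)

lemma Mid.bad (hNT : Y.NoNT) (h : Y.Mid P v u) {p q : E} (hp : p ∈ P) (hq : q ∈ P)
    (h3 : Ind3 v p q) : q ∉ Y.H.U v p := by
  intro hqU
  refine hNT v p u q (h.ind3 hp h3.ind2) ?_ (h.mem hp h3.ind2) hqU (h.2.2.2 hq)
  rw [sp3, mem_sup_one]
  rintro (e | e)
  · exact (ind3_iff h3.ind2).1 h3 e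
  · refine h.2.2.1 ?_
    have := add_mem hq (span_pair_le h.1 hp e)
    rwa [add_add_cancel_left'] at this

lemma Mid.disjoint (hNT : Y.NoNT) (hP : Nat.card P = 8) (h : Y.Mid P v u) (h' : Y.Mid P r u) :
    v = r := by
  by_contra hne
  have hvr : Ind2 v r := ⟨h.2.1, h'.2.1, hne⟩
  obtain ⟨q, hq, hqvr⟩ := exists_not_mem_sub (P := Submodule.span K2 ({v, r} : Set E)) (Q := P)
    (by rw [card_span_two hvr, hP]; norm_num)
  have hU := Y.H.U_comm h.ind2
  have hU' := Y.H.U_comm h'.ind2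
  refine hNT u v r q (h.ind3 h'.1 hvr).swap23.swap12 ?_ (hU ▸ h.2.2.2 h'.1) (hU ▸ h.2.2.2 hq)
    (hU' ▸ h'.2.2.2 hq)
  rw [sp3, mem_sup_one]
  have key : ∀ {a}, a ∈ Submodule.span K2 ({u, v} : Set E) → a ∈ P → a ∈ Submodule.span K2 ({v} : Set E) := by
    intro a ha haP
    rcases mem_span_two.1 ha with rfl | rfl | rfl | rfl
    · exact zero_mem _
    · exact absurd haP h.2.2.1
    · exact Submodule.mem_span_singleton_self _
    · refine absurd ?_ h.2.2.1
      have := add_mem haP h.1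
      rwa [add_add_cancel_right'] at this
  have hle : Submodule.span K2 ({v} : Set E) ≤ Submodule.span K2 ({v, r} : Set E) :=
    Submodule.span_mono (by simp)
  rintro (e | e)
  · exact hqvr (hle (key e hq))
  · refine hqvr ?_
    have := add_mem (hle (key e (add_mem hq h'.1))) (Submodule.subset_span (by simp) :
      r ∈ Submodule.span K2 ({v, r} : Set E))
    rwa [add_add_cancel_right'] at this

lemma Mid.addv (h : Y.Mid P v u) : Y.Mid P v (u + v) := by
  refine ⟨h.1, h.2.1, fun e => h.2.2.1 ?_, ?_⟩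
  · have := add_mem e h.1
    rwa [add_add_cancel_right'] at this
  · rw [add_comm, Y.H.U_add h.ind2]; exact h.2.2.2

lemma Mid.map (h : Y.Mid P v u) {g : G} (hg : ∀ p ∈ P, D.act g p ∈ P) :
    Y.Mid P (D.act g v) (D.act g u) := by
  have hmap : P.map (D.act g).toLinearMap = P := by
    refine eq_of_le_of_card (fun a ha => ?_) ?_
    · obtain ⟨p, hp, rfl⟩ := Submodule.mem_map.1 ha
      exact hg p hp
    · rw [← Nat.card_congr (Submodule.equivMapOfInjective _ (D.act g).injective P).toEquiv]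
  refine ⟨hg v h.1, by simpa using h.2.1, fun e => h.2.2.1 ?_, fun a ha => ?_⟩
  · rw [← hmap] at e
    obtain ⟨p, hp, hpe⟩ := Submodule.mem_map.1 e
    rwa [← (D.act g).injective hpe]
  · rw [← hmap] at ha
    obtain ⟨p, hp, rfl⟩ := Submodule.mem_map.1 ha
    exact Y.H.U_act g h.ind2 (h.2.2.2 hp)

lemma stable_of_three (hP : Nat.card P = 8) {a b c : E} (h : Ind3 a b c) (ha : a ∈ P) (hb : b ∈ P)
    (hc : c ∈ P) {g : G} (ga : D.act g a ∈ P) (gb : D.act g b ∈ P) (gc : D.act g c ∈ P) :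
    ∀ p ∈ P, D.act g p ∈ P := by
  have e : sp3 a b c = P := eq_of_le_of_card (sp3_le ha hb hc) (by rw [hP, card_sp3 h])
  intro p hp
  have : sp3 a b c ≤ P.comap (D.act g).toLinearMap := sp3_le ga gb gc
  exact this (e.symm ▸ hp)

lemma exists_swap (Y : D.Sys) (hP : Nat.card P = 8) (hv : v ∈ P) (hr : r ∈ P) (hvr : Ind2 v r) :
    ∃ g, D.act g v = r ∧ D.act g r = v ∧ ∀ p ∈ P, D.act g p ∈ P := by
  obtain ⟨q, hq, hqvr⟩ := exists_not_mem_sub (P := Submodule.span K2 ({v, r} : Set E)) (Q := P)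
    (by rw [card_span_two hvr, hP]; norm_num)
  have h3 : Ind3 q v r := ((ind3_iff hvr).2 hqvr).swap23.swap12
  obtain ⟨g, g1, g2, g3⟩ := Y.tt.swap h3
  exact ⟨g, g2, g3, stable_of_three hP h3 hq hv hr (g1.symm ▸ hq) (g2.symm ▸ hr) (g3.symm ▸ hv)⟩

lemma Mid.exists_at (hP : Nat.card P = 8) (h : Y.Mid P v u) (hr : r ∈ P) (hr0 : r ≠ 0) :
    ∃ w, Y.Mid P r w := by
  by_cases e : v = r
  · exact ⟨u, e ▸ h⟩
  · obtain ⟨g, g1, -, g3⟩ := Y.exists_swap hP h.1 hr ⟨h.2.1, hr0, e⟩
    exact ⟨_, g1 ▸ h.map g3⟩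

lemma Mid.unique (hNT : Y.NoNT) (ha : Y.H.a = 3) (hP : Nat.card P = 8) (h : Y.Mid P v u)
    (h' : Y.Mid P v u') : u' = u ∨ u' = u + v := by
  by_contra hne
  push Not at hne
  have h3 : Ind3 v u u' := by
    refine (ind3_iff h.ind2).2 ?_
    simp only [mem_span_two, not_or]
    exact ⟨h'.ind2.2.1, h'.ind2.2.2.symm, hne.1, by rw [add_comm]; exact hne.2⟩
  obtain ⟨p, hp, hvp⟩ := exists_ind2_mem h.2.1 (P := P) (by omega)
  obtain ⟨g, g1, g2, g3⟩ := Y.exists_swap hP h.1 hp hvp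
  have k : Y.Mid P p (D.act g u) := g1 ▸ h.map g3
  have k' : Y.Mid P p (D.act g u') := g1 ▸ h'.map g3
  -- a member of the plane lying in all `U v q`
  have meet : ∀ {a w : E}, Y.Mid P a w → ∀ e ∈ P, (∀ q ∈ P, Ind2 a q → e ∈ Y.H.U a q) →
      e = 0 ∨ e = a := by
    intro a w hw e he hall
    by_contra hh
    push Not at hh
    have hae : Ind2 a e := ⟨hw.2.1, hh.1, hh.2.symm⟩
    obtain ⟨q, hq, hqae⟩ := exists_not_mem_sub (P := Submodule.span K2 ({a, e} : Set E)) (Q := P)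
      (by rw [card_span_two hae, hP]; norm_num)
    have h4 : Ind3 a q e := ((ind3_iff hae).2 hqae).swap23
    exact hw.bad hNT hq he h4 (hall q hq h4.ind2)
  have hQ : ∀ q ∈ P, Ind2 v q → sp3 v u u' ≤ Y.H.U v q := fun q hq hvq =>
    sp3_le (Y.H.memU_left hvq) (h.mem hq hvq) (h'.mem hq hvq)
  have hR : ∀ q ∈ P, Ind2 p q → sp3 p (D.act g u) (D.act g u') ≤ Y.H.U p q := fun q hq hpq =>
    sp3_le (Y.H.memU_left hpq) (k.mem hq hpq) (k'.mem hq hpq)
  have hgv : Ind3 p (D.act g u) (D.act g u') := g1 ▸ D.ind3_act h3 g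
  have hle : sp3 v u u' ⊔ sp3 p (D.act g u) (D.act g u') ≤ Y.H.U v p :=
    sup_le (hQ p hp hvp) (Y.H.U_comm hvp ▸ hR v h.1 hvp.symm)
  obtain ⟨e, he, he0⟩ := exists_not_mem_sub (P := (⊥ : Submodule K2 E))
    (Q := sp3 v u u' ⊓ sp3 p (D.act g u) (D.act g u')) (by
    have h1 := Nat.card_mono (Set.toFinite _) (hle : (_ : Set E) ⊆ _)
    simp only [SetLike.coe_sort_coe] at h1
    rw [Y.H.cardU hvp, ha] at h1
    have h2 := card_sup_mul_inf (sp3 v u u') (sp3 p (D.act g u) (D.act g u'))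
    rw [card_sp3 h3, card_sp3 hgv] at h2
    rw [show Nat.card (⊥ : Submodule K2 E) = 1 from Nat.card_unique]
    by_contra hle1
    have := Nat.mul_le_mul h1 (not_lt.1 hle1)
    rw [h2] at this
    norm_num at this)
  rw [Submodule.mem_bot] at he0
  have heP : e ∉ P := fun hh => by
    rcases meet h e hh (fun q hq hvq => hQ q hq hvq he.1) with e1 | e1
    · exact he0 e1
    · rcases meet k e hh (fun q hq hpq => hR q hq hpq he.2) with e2 | e2
      · exact he0 e2
      · exact hvp.2.2 (e1.symm.trans e2)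
  have mk : ∀ {a w : E}, Y.Mid P a w → (∀ q ∈ P, Ind2 a q → e ∈ Y.H.U a q) → Y.Mid P a e := by
    intro a w hw hall
    refine ⟨hw.1, hw.2.1, heP, fun q hq => ?_⟩
    have hae : Ind2 a e := ⟨hw.2.1, he0, fun hh => heP (hh ▸ hw.1)⟩
    by_cases hqa : Ind2 a q
    · refine Y.H.U_sym ((ind3_iff hqa).2 fun hh => heP (span_pair_le hw.1 hq hh)) (hall q hq hqa)
    · rcases (show q = 0 ∨ q = a by
        by_contra hh
        push Not at hh
        exact hqa ⟨hw.2.1, hh.1, hh.2.symm⟩) with rfl | rfl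
      · exact zero_mem _
      · exact Y.H.memU_left hae
  exact hvp.2.2 ((mk h fun q hq hvq => hQ q hq hvq he.1).disjoint hNT hP
    (mk k fun q hq hpq => hR q hq hpq he.2))

lemma Mid.ne_class (hNT : Y.NoNT) (hP : Nat.card P = 8) (h : Y.Mid P v u) (h' : Y.Mid P r u')
    (hne : v ≠ r) : u + u' ∉ Submodule.span K2 ({v, r} : Set E) := by
  intro hm
  apply hne
  rcases mem_span_two.1 hm with e | e | e | e
  · exact h.disjoint hNT hP (add_eq_zero_iff_eq'.1 e ▸ h')
  · have e' : u + v = u' := by rw [← e, add_add_cancel_left']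
    exact h.addv.disjoint hNT hP (e' ▸ h')
  · have e' : u' + r = u := by rw [← e, add_comm u u', add_add_cancel_left']
    exact h.disjoint hNT hP (e' ▸ h'.addv)
  · have e' : u' + r = u + v := by
      rw [← sub_eq_zero, sub_eq_add',
        show u' + r + (u + v) = (u + u') + (v + r) by abel, e, vadd_self]
    exact h.addv.disjoint hNT hP (e' ▸ h'.addv)

lemma Mid.sum (hNT : Y.NoNT) (ha : Y.H.a = 3) (hP : Nat.card P = 8) (h : Y.Mid P v u)
    (h' : Y.Mid P r u') {w : E} (h'' : Y.Mid P (v + r) w) (hne : v ≠ r) :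
    u + u' + w ∈ Submodule.span K2 ({v, r} : Set E) := by
  have hvr : Ind2 v r := ⟨h.2.1, h'.2.1, hne⟩
  have hu : u ∉ Submodule.span K2 ({v, r} : Set E) := fun e => h.2.2.1 (span_pair_le h.1 h'.1 e)
  have hu'ℓ : u' ∉ Submodule.span K2 ({v, r} : Set E) := fun e => h'.2.2.1 (span_pair_le h.1 h'.1 e)
  have hu' : u' ∉ sp3 v r u := by
    rw [sp3, mem_sup_one]
    rintro (e | e)
    · exact hu'ℓ e
    · exact h.ne_class hNT hP h' hne (by rwa [add_comm])
  have hw1 : w ∈ Y.H.U v r := by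
    have := h''.mem h.1 hvr.add_right.symm
    rwa [Y.H.U_comm hvr.add_right, Y.H.U_add hvr] at this
  have hw2 : u' ∈ Y.H.U v r := by
    have := h'.mem h.1 hvr.symm
    rwa [Y.H.U_comm hvr] at this
  have e : sp3 v r u ⊔ Submodule.span K2 {u'} = Y.H.U v r := by
    refine eq_of_le_of_card (sup_le (sp3_le (Y.H.memU_left hvr) (Y.H.memU_right hvr) (h.mem h'.1 hvr))
      ((Submodule.span_singleton_le_iff_mem _ _).2 hw2)) ?_
    rw [Y.H.cardU hvr, card_sup_one hu', card_sp3 ((ind3_iff hvr).2 hu), ha]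
    norm_num
  rw [← e, mem_sup_one, sp3, mem_sup_one, mem_sup_one] at hw1
  have l1 : Submodule.span K2 ({v + r, v} : Set E) ≤ Submodule.span K2 ({v, r} : Set E) :=
    span_pair_le (add_mem (Submodule.subset_span (by simp)) (Submodule.subset_span (by simp)))
      (Submodule.subset_span (by simp))
  have l1' : Submodule.span K2 ({v, r} : Set E) ≤ Submodule.span K2 ({v + r, v} : Set E) := by
    refine span_pair_le (Submodule.subset_span (by simp)) ?_
    have : v + (v + r) ∈ Submodule.span K2 ({v + r, v} : Set E) :=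
      add_mem (Submodule.subset_span (by simp)) (Submodule.subset_span (by simp))
    rwa [add_add_cancel_left'] at this
  have l2' : Submodule.span K2 ({v, r} : Set E) ≤ Submodule.span K2 ({v + r, r} : Set E) := by
    refine span_pair_le ?_ (Submodule.subset_span (by simp))
    have : v + r + r ∈ Submodule.span K2 ({v + r, r} : Set E) :=
      add_mem (Submodule.subset_span (by simp)) (Submodule.subset_span (by simp))
    rwa [add_add_cancel_right'] at this
  rcases hw1 with (e1 | e1) | (e1 | e1)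
  · exact absurd (span_pair_le h.1 h'.1 e1) h''.2.2.1
  · exact absurd (l1' e1) (h''.ne_class hNT hP h fun e2 => hvr.add_right.2.2 e2.symm)
  · exact absurd (l2' e1) (h''.ne_class hNT hP h' fun e2 => h.2.1 (by simpa using e2))
  · convert e1 using 1
    abel

/-- An element acting as a transposition on a plane moves the partner of a fixed point. -/
lemma Mid.flip_of_swap (hNT : Y.NoNT) (ha : Y.H.a = 3) (hP : Nat.card P = 8) (h : Y.Mid P v u)
    {p q : E} (hp : p ∈ P) (hq : q ∈ P) (h3 : Ind3 v p q) {g : G} (gv : D.act g v = v)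
    (gp : D.act g p = q) (gq : D.act g q = p) : D.act g u = u + v := by
  have gP : ∀ x ∈ P, D.act g x ∈ P :=
    stable_of_three hP h3 h.1 hp hq (gv.symm ▸ h.1) (gp.symm ▸ hq) (gq.symm ▸ hp)
  rcases h.unique hNT ha hP (gv ▸ h.map gP) with gu | gu
  swap
  · exact gu
  exfalso
  have hpq : Ind2 p q := h3.ind2''
  set ℓ := Submodule.span K2 ({p, q} : Set E) with hℓdef
  have hpℓ : p ∈ ℓ := Submodule.subset_span (by simp)
  have hqℓ : q ∈ ℓ := Submodule.subset_span (by simp)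
  have hℓP : ℓ ≤ P := span_pair_le hp hq
  have hgℓ : ∀ x ∈ ℓ, D.act g x ∈ ℓ := by
    intro x hx
    rcases mem_span_two.1 hx with rfl | rfl | rfl | rfl
    · simp
    · rw [gp]; exact hqℓ
    · rw [gq]; exact hpℓ
    · rw [map_add, gp, gq]; exact add_mem hqℓ hpℓ
  obtain ⟨k, hk⟩ := h.exists_at hP hp hpq.1
  have hk' : Y.Mid P q (D.act g k) := gp ▸ hk.map gP
  have hk'' : D.act g (D.act g k) + k ∈ ℓ := by
    rcases hk.unique hNT ha hP (gq ▸ hk'.map gP) with e | e
    · rw [e, vadd_self]; exact zero_mem _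
    · rw [e, add_comm k p, add_add_cancel_right']; exact hpℓ
  have hkk : k + D.act g k ∉ ℓ := hk.ne_class hNT hP hk' hpq.2.2
  have hkU : k ∈ Y.H.U p q := hk.mem hq hpq
  have hk'U : D.act g k ∈ Y.H.U p q := by
    have := hk'.mem hp hpq.symm
    rwa [Y.H.U_comm hpq] at this
  have hUpq : sp3 p q k ⊔ Submodule.span K2 {D.act g k} = Y.H.U p q := by
    refine eq_of_le_of_card (sup_le (sp3_le (Y.H.memU_left hpq) (Y.H.memU_right hpq) hkU)
      ((Submodule.span_singleton_le_iff_mem _ _).2 hk'U)) ?_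
    rw [Y.H.cardU hpq, card_sup_one ?_, card_sp3 ((ind3_iff hpq).2 fun e => hk.2.2.1 (hℓP e)), ha]
    · norm_num
    · rw [sp3, mem_sup_one]
      rintro (e | e)
      · exact hk'.2.2.1 (hℓP e)
      · exact hkk (by rw [add_comm]; exact e)
  -- the fixed class
  have hfix : ∀ m ∈ Y.H.U p q, m ∉ ℓ → D.act g m + m ∈ ℓ → m + (k + D.act g k) ∈ ℓ := by
    intro m hm hmℓ hgm
    rw [← hUpq, mem_sup_one, sp3, mem_sup_one, mem_sup_one] at hm
    rcases hm with (e | e) | (e | e)
    · exact absurd e hmℓ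
    · refine absurd ?_ hkk
      have h1 := hgℓ _ e
      rw [map_add] at h1
      have := add_mem (add_mem h1 hgm) e
      rwa [show D.act g m + D.act g k + (D.act g m + m) + (m + k) =
        (D.act g m + D.act g m) + (m + m) + (k + D.act g k) by abel, vadd_self, vadd_self,
        add_zero, zero_add] at this
    · refine absurd ?_ hkk
      have h1 := hgℓ _ e
      rw [map_add] at h1
      have := add_mem (add_mem (add_mem h1 hgm) e) hk''
      rw [show D.act g m + D.act g (D.act g k) + (D.act g m + m) + (m + D.act g k) +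
        (D.act g (D.act g k) + k) = (D.act g m + D.act g m) + (m + m) +
        (D.act g (D.act g k) + D.act g (D.act g k)) + (k + D.act g k) by abel] at this
      simpa only [vadd_self, add_zero, zero_add] using this
    · convert e using 1
      abel
  -- the three planes through `p, q`
  set U₀ := Y.H.U v u
  have hline : ∀ a b : E, (a = v ∧ b = u) ∨ (a = u ∧ b = v + u) ∨ (a = v + u ∧ b = v) →
      Ind2 a b ∧ Y.H.U a b = U₀ ∧ D.act g a = a ∧ D.act g b = b := by
    rintro a b (⟨e1, e2⟩ | ⟨e1, e2⟩ | ⟨e1, e2⟩) <;> rw [e1, e2]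
    · exact ⟨h.ind2, rfl, gv, gu⟩
    · have i := h.ind2.symm.add_right
      rw [add_comm u v] at i
      refine ⟨i, ?_, gu, by rw [map_add, gv, gu]⟩
      have e := Y.H.U_add h.ind2.symm
      rw [add_comm u v] at e
      rw [e, Y.H.U_comm h.ind2]
    · exact ⟨h.ind2.add_right.symm, by rw [Y.H.U_comm h.ind2.add_right, Y.H.U_add h.ind2],
        by rw [map_add, gv, gu], gv⟩
  have hU₀ : sp3 v u p ⊔ Submodule.span K2 {q} ≤ U₀ := sup_le
    (sp3_le (Y.H.memU_left h.ind2) (Y.H.memU_right h.ind2) (h.2.2.2 hp))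
    ((Submodule.span_singleton_le_iff_mem _ _).2 (h.2.2.2 hq))
  have hvuℓ : ∀ x ∈ Submodule.span K2 ({v, u} : Set E), x ∈ ℓ → x = 0 := by
    intro x hx hxℓ
    rcases mem_span_two.1 hx with rfl | rfl | rfl | rfl
    · rfl
    · exact absurd hxℓ ((ind3_iff hpq).1 h3.rot)
    · exact absurd (hℓP hxℓ) h.2.2.1
    · refine absurd ?_ h.2.2.1
      have := add_mem h.1 (hℓP hxℓ)
      rwa [add_add_cancel_left'] at this
  have plane : ∀ a b : E, (a = v ∧ b = u) ∨ (a = u ∧ b = v + u) ∨ (a = v + u ∧ b = v) →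
      Nat.card (sp3 p q a) = 8 ∧ Y.Mid (sp3 p q a) a b := by
    intro a b hab
    obtain ⟨i, eU, -, -⟩ := hline a b hab
    have haL : a ∈ Submodule.span K2 ({v, u} : Set E) ∧ b ∈ Submodule.span K2 ({v, u} : Set E) := by
      have hv' : v ∈ Submodule.span K2 ({v, u} : Set E) := Submodule.subset_span (by simp)
      have hu' : u ∈ Submodule.span K2 ({v, u} : Set E) := Submodule.subset_span (by simp)
      rcases hab with ⟨e1, e2⟩ | ⟨e1, e2⟩ | ⟨e1, e2⟩ <;> rw [e1, e2]
      · exact ⟨hv', hu'⟩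
      · exact ⟨hu', add_mem hv' hu'⟩
      · exact ⟨add_mem hv' hu', hv'⟩
    refine ⟨card_sp3 ((ind3_iff hpq).2 fun e => i.1 (hvuℓ a haL.1 e)), mem_sp3_3, i.1, ?_, ?_⟩
    · rw [sp3, mem_sup_one]
      rintro (e | e)
      · exact i.2.1 (hvuℓ b haL.2 e)
      · exact i.add_ne_zero (by rw [add_comm]; exact hvuℓ _ (add_mem haL.2 haL.1) e)
    · rw [eU]; exact sp3_le (h.2.2.2 hp) (h.2.2.2 hq) (eU ▸ Y.H.memU_left i)
  have hr : p + q ≠ 0 := hpq.add_ne_zero
  have hgr : D.act g (p + q) = p + q := by rw [map_add, gp, gq, add_comm]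
  have hm : ∀ a b : E, (a = v ∧ b = u) ∨ (a = u ∧ b = v + u) ∨ (a = v + u ∧ b = v) →
      ∃ m, Y.Mid (sp3 p q a) (p + q) m ∧
        (m + (k + D.act g k) = 0 ∨ m + (k + D.act g k) = p) := by
    intro a b hab
    obtain ⟨hc, hM⟩ := plane a b hab
    obtain ⟨i, eU, ga, -⟩ := hline a b hab
    obtain ⟨m, hm⟩ := hM.exists_at hc (add_mem mem_sp3_1 mem_sp3_2) hr
    have gS : ∀ x ∈ sp3 p q a, D.act g x ∈ sp3 p q a := fun x hx => by
      have h' : sp3 p q a ≤ (sp3 p q a).comap (D.act g).toLinearMap := sp3_le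
        (show D.act g p ∈ sp3 p q a by rw [gp]; exact mem_sp3_2)
        (show D.act g q ∈ sp3 p q a by rw [gq]; exact mem_sp3_1)
        (show D.act g a ∈ sp3 p q a by rw [ga]; exact mem_sp3_3)
      exact h' hx
    have hgm : D.act g m + m ∈ ℓ := by
      rcases hm.unique hNT ha hc (hgr ▸ hm.map gS) with e | e
      · rw [e, vadd_self]; exact zero_mem _
      · rw [e, add_comm m (p + q), add_add_cancel_right']; exact add_mem hpℓ hqℓ
    have hmU : m ∈ Y.H.U p q := by
      have := hm.mem mem_sp3_1 hpq.add_right.symm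
      rwa [Y.H.U_comm hpq.add_right, Y.H.U_add hpq] at this
    rcases mem_span_two.1 (hfix m hmU (fun e => hm.2.2.1 (Submodule.mem_sup_left e)) hgm) with
      e | e | e | e
    · exact ⟨m, hm, Or.inl e⟩
    · exact ⟨m, hm, Or.inr e⟩
    · refine ⟨_, hm.addv, Or.inr ?_⟩
      rw [show m + (p + q) + (k + D.act g k) = m + (k + D.act g k) + (p + q) by abel, e,
        add_comm p q, add_add_cancel_left']
    · refine ⟨_, hm.addv, Or.inl ?_⟩
      rw [show m + (p + q) + (k + D.act g k) = m + (k + D.act g k) + (p + q) by abel, e, vadd_self]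
  -- two planes share a partner of `p + q`
  have key : ∀ a b : E, Ind2 a b → Y.H.U a b = U₀ → Nat.card (sp3 p q a) = 8 →
      Y.Mid (sp3 p q a) a b → ∀ m, Y.Mid (sp3 p q a) (p + q) m → b ∈ Y.H.U (p + q) m → False := by
    intro a b i eU hc hM m hm hb
    have h16 : Nat.card ↥(sp3 p q a ⊔ Submodule.span K2 {b}) = 16 := by
      rw [card_sup_one hM.2.2.1, hc]
    have e1 : sp3 p q a ⊔ Submodule.span K2 {b} = U₀ := by
      refine eq_of_le_of_card (sup_le (eU ▸ hM.2.2.2)
        ((Submodule.span_singleton_le_iff_mem _ _).2 (eU ▸ Y.H.memU_right i))) ?_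
      rw [h16, Y.H.cardU h.ind2, ha]; norm_num
    have e2 : sp3 p q a ⊔ Submodule.span K2 {b} = Y.H.U (p + q) m := by
      refine eq_of_le_of_card (sup_le hm.2.2.2
        ((Submodule.span_singleton_le_iff_mem _ _).2 hb)) ?_
      rw [h16, Y.H.cardU hm.ind2, ha]; norm_num
    have hmU₀ : m ∈ Y.H.U a b := by rw [eU, ← e1, e2]; exact Y.H.memU_right hm.ind2
    have hrP : p + q ∈ sp3 p q a := add_mem mem_sp3_1 mem_sp3_2
    have hra : Ind2 a (p + q) := ⟨i.1, hr, fun e => by
      have hcard : sp3 p q a ≤ Submodule.span K2 ({p, q} : Set E) :=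
        sp3_le (Submodule.subset_span (by simp)) (Submodule.subset_span (by simp))
          (by rw [e]; exact add_mem hpℓ hqℓ)
      have := Nat.card_mono (Set.toFinite _) hcard
      simp only [SetLike.coe_sort_coe] at this
      rw [hc, card_span_two hpq] at this
      omega⟩
    have hbU : b ∈ Y.H.U a (p + q) := hM.mem hrP hra
    have hmU : m ∈ Y.H.U a (p + q) := by
      have := hm.mem mem_sp3_3 hra.symm
      rwa [Y.H.U_comm hra] at this
    set S := sp3 a (p + q) b
    have hSU : S ≤ Y.H.U a (p + q) := sp3_le (Y.H.memU_left hra) (Y.H.memU_right hra) hbU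
    have hpS : p ∉ S := by
      rw [show S = Submodule.span K2 ({a, p + q} : Set E) ⊔ Submodule.span K2 {b} from rfl, mem_sup_one]
      rintro (e | e)
      · have hle : sp3 p q a ≤ Submodule.span K2 ({a, p + q} : Set E) := sp3_le e (by
          have := add_mem e (Submodule.subset_span (by simp) :
            p + q ∈ Submodule.span K2 ({a, p + q} : Set E))
          rwa [add_add_cancel_left'] at this) (Submodule.subset_span (by simp))
        have := Nat.card_mono (Set.toFinite _) hle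
        simp only [SetLike.coe_sort_coe] at this
        rw [hc, card_span_two hra] at this
        omega
      · refine hM.2.2.1 ?_
        have := add_mem (mem_sp3_1 (x := p) (y := q) (z := a))
          (span_pair_le mem_sp3_3 hrP e)
        rwa [add_add_cancel_left'] at this
    have h3r : Ind3 a b (p + q) := (hM.ind3 hrP hra).swap23
    have hpS' : p ∉ sp3 a b (p + q) := fun hh =>
      hpS (sp3_le (P := S) mem_sp3_1 mem_sp3_3 mem_sp3_2 hh)
    have hpU : p ∈ Y.H.U a b := hM.2.2.2 mem_sp3_1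
    have hnp : p ∉ Y.H.U a (p + q) :=
      hNT a b (p + q) p h3r hpS' (hM.2.2.2 hrP) hpU
    have e3 : S ⊔ Submodule.span K2 {p} = Y.H.U a b := by
      refine eq_of_le_of_card (sup_le (sp3_le (Y.H.memU_left i) (hM.2.2.2 hrP) (Y.H.memU_right i))
        ((Submodule.span_singleton_le_iff_mem _ _).2 hpU)) ?_
      rw [Y.H.cardU i, card_sup_one hpS, card_sp3 h3r.swap23, ha]
      norm_num
    rw [← e3, mem_sup_one] at hmU₀
    rcases hmU₀ with e | e
    · rw [show S = Submodule.span K2 ({a, p + q} : Set E) ⊔ Submodule.span K2 {b} from rfl,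
        mem_sup_one] at e
      rcases e with e | e
      · exact hm.2.2.1 (span_pair_le mem_sp3_3 hrP e)
      · exact hM.ne_class hNT hc hm hra.2.2 (by rw [add_comm b m]; exact e)
    · refine hnp ?_
      have := add_mem hmU (hSU e)
      rwa [add_add_cancel_left'] at this
  obtain ⟨m₁, hm₁, t₁⟩ := hm v u (Or.inl ⟨rfl, rfl⟩)
  obtain ⟨m₂, hm₂, t₂⟩ := hm u (v + u) (Or.inr (Or.inl ⟨rfl, rfl⟩))
  obtain ⟨m₃, hm₃, t₃⟩ := hm (v + u) v (Or.inr (Or.inr ⟨rfl, rfl⟩))
  obtain ⟨c₁, hM₁⟩ := plane v u (Or.inl ⟨rfl, rfl⟩)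
  obtain ⟨c₂, hM₂⟩ := plane u (v + u) (Or.inr (Or.inl ⟨rfl, rfl⟩))
  obtain ⟨c₃, hM₃⟩ := plane (v + u) v (Or.inr (Or.inr ⟨rfl, rfl⟩))
  obtain ⟨i₁, eU₁, -, -⟩ := hline v u (Or.inl ⟨rfl, rfl⟩)
  obtain ⟨i₂, eU₂, -, -⟩ := hline u (v + u) (Or.inr (Or.inl ⟨rfl, rfl⟩))
  obtain ⟨i₃, eU₃, -, -⟩ := hline (v + u) v (Or.inr (Or.inr ⟨rfl, rfl⟩))
  have tw : m₁ = m₂ ∨ m₂ = m₃ ∨ m₃ = m₁ := by
    rcases t₁ with s₁ | s₁ <;> rcases t₂ with s₂ | s₂ <;> rcases t₃ with s₃ | s₃ <;>
      first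
        | exact Or.inl (add_right_cancel (s₁.trans s₂.symm))
        | exact Or.inr (Or.inl (add_right_cancel (s₂.trans s₃.symm)))
        | exact Or.inr (Or.inr (add_right_cancel (s₃.trans s₁.symm)))
  rcases tw with rfl | rfl | rfl
  · exact key v u i₁ eU₁ c₁ hM₁ m₁ hm₁ (hm₂.2.2.2 mem_sp3_3)
  · exact key u (v + u) i₂ eU₂ c₂ hM₂ m₂ hm₂ (hm₃.2.2.2 mem_sp3_3)
  · exact key (v + u) v i₃ eU₃ c₃ hM₃ m₃ hm₃ (hm₁.2.2.2 mem_sp3_3)

variable (Y)

theorem not_noNT (ha : Y.H.a = 3) (hNT : Y.NoNT) {x y z : E} (h3 : Ind3 x y z)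
    (hz : z ∈ Y.H.U x y) : False := by
  obtain ⟨w, hw, hwz⟩ := exists_not_mem_sub (P := sp3 x y z) (Q := Y.H.U x y)
    (by rw [card_sp3 h3, Y.H.cardU h3.ind2, ha]; norm_num)
  have hxzw : Ind3 x z w := by
    refine (ind3_iff h3.ind2').2 fun e => hwz ?_
    exact span_pair_le mem_sp3_1 mem_sp3_3 e
  set P := sp3 x z w
  have hP : Nat.card P = 8 := card_sp3 hxzw
  have hyP : y ∉ P := by
    rw [show P = Submodule.span K2 ({x, z} : Set E) ⊔ Submodule.span K2 {w} from rfl, mem_sup_one]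
    rintro (e | e)
    · exact (ind3_iff h3.ind2').1 h3.swap23 e
    · refine hwz ?_
      have := add_mem (mem_sp3_2 (x := x) (y := y) (z := z)) (span_pair_le mem_sp3_1 mem_sp3_3 e)
      rwa [add_add_cancel_left'] at this
  have hx : Y.Mid P x y :=
    ⟨mem_sp3_1, h3.1, hyP, sp3_le (Y.H.memU_left h3.ind2) hz hw⟩
  have hxP : x ∈ P := mem_sp3_1
  have hcP : z ∈ P := mem_sp3_2
  have htP : w ∈ P := mem_sp3_3
  obtain ⟨yc, hc⟩ := hx.exists_at hP hcP h3.2.2.1
  obtain ⟨ys, hs⟩ := hx.exists_at hP (add_mem hxP hcP) h3.ind2'.add_ne_zero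
  have hsum := hx.sum hNT ha hP hc hs h3.ind2'.2.2
  have hd : Ind3 (x + z) z w := hxzw.add1
  obtain ⟨g₁, a1, a2, a3⟩ := Y.tt.colour' hxzw
  obtain ⟨g₂, b1, b2, b3⟩ := Y.tt.colour' hd
  have b1' : D.act g₂ x = x := by
    rw [map_add, b2] at b1
    exact add_right_cancel b1
  have c1 : D.act g₁ yc = yc + z := hc.flip_of_swap hNT ha hP htP (add_mem htP hxP)
    (by
      refine (ind3_iff hxzw.ind2'').2 fun e => ?_
      have : x ∈ Submodule.span K2 ({z, w} : Set E) := by
        have := add_mem (Submodule.subset_span (by simp) : w ∈ Submodule.span K2 ({z, w} : Set E)) e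
        rwa [add_add_cancel_left'] at this
      exact (ind3_iff hxzw.ind2'').1 hxzw.rot this)
    a2 a3 (by rw [map_add, a3, a1, add_add_cancel_right'])
  have c2 : D.act g₂ yc = yc + z := hc.flip_of_swap hNT ha hP htP (add_mem htP (add_mem hxP hcP))
    (by
      refine (ind3_iff hxzw.ind2'').2 fun e => ?_
      have : x + z ∈ Submodule.span K2 ({z, w} : Set E) := by
        have := add_mem (Submodule.subset_span (by simp) : w ∈ Submodule.span K2 ({z, w} : Set E)) e
        rwa [add_add_cancel_left'] at this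
      exact (ind3_iff hd.ind2'').1 hd.rot this)
    b2 b3 (by rw [map_add, b3, b1, add_add_cancel_right'])
  set g := g₂ * g₁
  have gx : D.act g x = x := by rw [D.act_mul, a1, b1']
  have gz : D.act g z = z := by rw [D.act_mul, a2, b2]
  have gw : D.act g w = w + z := by
    rw [D.act_mul, a3, map_add, b3, b1', show w + (x + z) + x = w + z + (x + x) by abel,
      vadd_self, add_zero]
  have gwz : D.act g (w + z) = w := by rw [map_add, gw, gz, add_add_cancel_right']
  have dyc : D.act g yc = yc := by rw [D.act_mul, c1, map_add, c2, b2, add_add_cancel_right']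
  have dx : D.act g y = y + x := hx.flip_of_swap hNT ha hP htP (add_mem htP hcP)
    hxzw.swap23.add3' gx gw gwz
  have ds : D.act g ys = ys + (x + z) := hs.flip_of_swap hNT ha hP htP (add_mem htP hcP)
    hd.swap23.add3' (by rw [map_add, gx, gz]) gw gwz
  have hfix : D.act g (y + yc + ys) = y + yc + ys := by
    rcases mem_span_two.1 hsum with e | e | e | e <;> rw [e] <;> simp [gx, gz]
  rw [map_add, map_add, dx, dyc, ds,
    show y + x + yc + (ys + (x + z)) = y + yc + ys + (x + x) + z by abel, vadd_self, add_zero,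
    add_eq_left] at hfix
  exact h3.2.2.1 hfix

end Sys
end Duo
end CfsgLib.LinTwo
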