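import Cfsg.Agent.Lib.LinTwo.Clique

/-!
# Transitivity outside lines
-/

namespace CfsgLib.LinTwo
namespace Duo
namespace Sys

variable {G E E' : Type*} [Group G] [AddCommGroup E] [Module K2 E] [AddCommGroup E'] [Module K2 E']
variable [Finite G] [Finite E] [Finite E'] {D : Duo G E E'}
variable (Y : D.Sys) {x y z w v : E} {l μ ν : E'}

lemma U_eq_of_four (ha : Y.H.a = 3) (h3 : Ind3 x y z) (hw : w ∉ sp3 x y z) (hz : z ∈ Y.H.U x y)
    (hwU : w ∈ Y.H.U x y) (hwz : w ∈ Y.H.U x z) :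
    Y.H.U x z = Y.H.U x y ∧ Y.H.U x w = Y.H.U x y := by
  have hyz : y ∈ Y.H.U x z := Y.H.U_sym h3 hz
  have h3w : Ind3 x y w := (ind3_iff h3.ind2).2 fun e => hw (Submodule.mem_sup_left e)
  have hyw : y ∈ Y.H.U x w := Y.H.U_sym h3w hwU
  have hxzw : Ind3 x z w :=
    (ind3_iff h3.ind2').2 fun e => hw (span_pair_le mem_sp3_1 mem_sp3_3 e)
  have hzw : z ∈ Y.H.U x w := Y.H.U_sym hxzw hwz
  have hcard : Nat.card ↥(sp3 x y z ⊔ Submodule.span K2 {w}) = 2 ^ (Y.H.a + 1) := by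
    rw [card_sup_one hw, card_sp3 h3, ha]; norm_num
  have e : ∀ t, Ind2 x t → y ∈ Y.H.U x t → z ∈ Y.H.U x t → w ∈ Y.H.U x t →
      sp3 x y z ⊔ Submodule.span K2 {w} = Y.H.U x t := fun t ht a b c =>
    eq_of_le_of_card (sup_le (sp3_le (Y.H.memU_left ht) a b)
      ((Submodule.span_singleton_le_iff_mem _ _).2 c)) (by rw [hcard, Y.H.cardU ht])
  have e1 := e y h3.ind2 (Y.H.memU_right h3.ind2) hz hwU
  exact ⟨(e z h3.ind2' hyz (Y.H.memU_right h3.ind2') hwz).symm.trans e1,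
    (e w h3w.ind2' hyw hzw (Y.H.memU_right h3w.ind2')).symm.trans e1⟩

theorem clique (h3 : Ind3 x y z) (hz : z ∈ Y.H.U x y) : Y.H.U x z = Y.H.U x y := by
  obtain ⟨n, hn4, hn, han⟩ := Y.exists_dim
  by_cases ha : Y.H.a = 3
  · by_cases hNT : Y.NoNT
    · exact (Y.not_noNT ha hNT h3 hz).elim
    simp only [NoNT, not_forall, not_not] at hNT
    obtain ⟨x₀, y₀, z₀, w₀, h₀, hw₀, hz₀, hwU₀, hwz₀⟩ := hNT
    obtain ⟨e1, e2⟩ := Y.U_eq_of_four ha h₀ hw₀ hz₀ hwU₀ hwz₀
    have hall : ∀ t ∈ Y.H.U x₀ y₀, Ind3 x₀ y₀ t → Y.H.U x₀ t = Y.H.U x₀ y₀ := by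
      intro t ht ht3
      by_cases hts : t ∈ sp3 x₀ y₀ z₀
      · have h3w : Ind3 x₀ y₀ w₀ :=
          (ind3_iff h₀.ind2).2 fun e => hw₀ (Submodule.mem_sup_left e)
        refine (Y.U_eq_of_four ha h3w ?_ hwU₀ ht (e2 ▸ ht)).2
        intro htw
        rw [sp3, mem_sup_one] at htw hts
        have hnL := (ind3_iff ht3.ind2).1 ht3
        rcases htw with e | e
        · exact hnL e
        rcases hts with e' | e'
        · exact hnL e'
        refine hw₀ ?_
        rw [sp3, mem_sup_one]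
        right
        have := add_mem e e'
        rwa [show t + w₀ + (t + z₀) = w₀ + z₀ + (t + t) by abel, vadd_self, add_zero] at this
      · exact (Y.U_eq_of_four ha h₀ hts hz₀ ht (e1 ▸ ht)).2
    obtain ⟨g, g1, g2⟩ := Y.tt.tt x y x₀ y₀ h3.ind2 h₀.ind2
    have ht : D.act g z ∈ Y.H.U x₀ y₀ := g1 ▸ g2 ▸ Y.H.U_act g h3.ind2 hz
    have ht3 : Ind3 x₀ y₀ (D.act g z) := g1 ▸ g2 ▸ D.ind3_act h3 g
    have hU := hall _ ht ht3
    refine eq_of_le_of_card (fun p hp => ?_) (by rw [Y.H.cardU h3.ind2, Y.H.cardU h3.ind2'])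
    have h1 := Y.H.U_act g h3.ind2' hp
    rw [g1, hU] at h1
    have h2 := Y.H.U_act g⁻¹ h₀.ind2 h1
    rwa [D.act_inv_act, ← g1, D.act_inv_act, ← g2, D.act_inv_act] at h2
  · have ha4 : 4 ≤ Y.H.a := by have := Y.three_le_a; omega
    refine (eq_of_le_of_card (fun w hw => ?_) (by rw [Y.H.cardU h3.ind2, Y.H.cardU h3.ind2'])).symm
    obtain ⟨p, hp, hpP⟩ := exists_not_mem_sub
      (P := Submodule.span K2 ({x, y} : Set E) ⊔ Submodule.span K2 ({z, w} : Set E))
      (Q := Y.H.U x y) (by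
        rw [Y.H.cardU h3.ind2]
        have h1 := card_sup_mul_inf (Submodule.span K2 ({x, y} : Set E))
          (Submodule.span K2 ({z, w} : Set E))
        rw [card_span_two h3.ind2] at h1
        have h2 : Nat.card (Submodule.span K2 ({z, w} : Set E)) ≤ 4 := by
          rw [← SetLike.coe_sort_coe, Nat.card_coe_set_eq,
            show ((Submodule.span K2 ({z, w} : Set E)) : Set E) = ({0, z, w, z + w} : Set E) by
              ext t; simp [mem_span_two]]
          refine (Set.ncard_insert_le _ _).trans (Nat.add_le_add_right ?_ 1)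
          refine (Set.ncard_insert_le _ _).trans (Nat.add_le_add_right ?_ 1)
          exact (Set.ncard_insert_le _ _).trans (by simp)
        have h3' : 0 < Nat.card ↥(Submodule.span K2 ({x, y} : Set E) ⊓
          Submodule.span K2 ({z, w} : Set E)) := Nat.card_pos
        have h5 : 2 ^ 5 ≤ 2 ^ (Y.H.a + 1) := Nat.pow_le_pow_right (by omega) (by omega)
        have h6 := Nat.le_mul_of_pos_right (Nat.card ↥(Submodule.span K2 ({x, y} : Set E) ⊔
          Submodule.span K2 ({z, w} : Set E))) h3'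
        omega)
    obtain ⟨ν, hν, hpν⟩ := D.exists_fun hpP
    have hxν : D.pair x ν = 0 := hν x (Submodule.mem_sup_left (Submodule.subset_span (by simp)))
    have hyν : D.pair y ν = 0 := hν y (Submodule.mem_sup_left (Submodule.subset_span (by simp)))
    have hzν : D.pair z ν = 0 := hν z (Submodule.mem_sup_right (Submodule.subset_span (by simp)))
    have hwν : D.pair w ν = 0 := hν w (Submodule.mem_sup_right (Submodule.subset_span (by simp)))
    obtain ⟨m, hm, -, hmem⟩ := Y.hyper_surj h3.ind2 hxν hyν ⟨p, hp, hpν⟩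
    exact Y.S_le_U hm (hmem z hz hzν) h3.ind2' (hmem w hw hwν)

lemma U_eq (hxy : Ind2 x y) (hxv : Ind2 x v) (hv : v ∈ Y.H.U x y) : Y.H.U x v = Y.H.U x y := by
  by_cases h : v ∈ Submodule.span K2 ({x, y} : Set E)
  · rcases mem_span_two.1 h with rfl | rfl | rfl | rfl
    · exact absurd rfl hxv.2.1
    · exact absurd rfl hxv.2.2
    · rfl
    · exact Y.H.U_add hxy
  · exact Y.clique ((ind3_iff hxy).2 h) hv

lemma S'_closed (h : D.Inc x l) (hν : ν ∈ Y.H'.S l x) (hν0 : ν ≠ 0) :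
    Y.H'.S ν x = Y.H'.S l x := by
  classical
  letI := Fintype.ofFinite E'
  obtain ⟨n, hn4, hn, han⟩ := Y.exists_dim
  have ha3 := Y.three_le_a
  have h4 : ∀ k, 2 ≤ k → 4 ≤ 2 ^ k := fun k hk =>
    (show 4 = 2 ^ 2 by norm_num) ▸ Nat.pow_le_pow_right (by omega) hk
  obtain ⟨y, hy, hxy⟩ := exists_ind2_mem h.1 (P := Y.H.S x l)
    (by rw [Y.card_S h]; exact h4 _ (by omega))
  set U := Y.H.U x y
  let A : Finset E' := Finset.univ.filter fun μ => D.Inc x μ ∧ Y.H.S x μ ≤ U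
  have hA : ∀ {μ}, μ ∈ A ↔ D.Inc x μ ∧ Y.H.S x μ ≤ U := fun {μ} => by simp [A]
  -- any two members of `A`
  have hpair : ∀ μ ∈ A, ∀ μ' ∈ A, μ' ∈ Y.H'.S μ x := by
    intro μ hμ μ' hμ'
    rw [hA] at hμ hμ'
    have h2 := card_sup_mul_inf (Y.H.S x μ) (Y.H.S x μ')
    rw [Y.card_S hμ.1, Y.card_S hμ'.1] at h2
    have h3 := Nat.card_mono (Set.toFinite _) (sup_le hμ.2 hμ'.2 : _ ≤ U)
    simp only [SetLike.coe_sort_coe] at h3
    rw [Y.H.cardU hxy] at h3
    obtain ⟨y', hy', hxy'⟩ := exists_ind2_mem h.1 (P := Y.H.S x μ ⊓ Y.H.S x μ') (by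
      by_contra hlt
      have h5 : Nat.card ↥(Y.H.S x μ ⊔ Y.H.S x μ') * Nat.card ↥(Y.H.S x μ ⊓ Y.H.S x μ') ≤
          2 ^ (Y.H.a + 1) * 3 := Nat.mul_le_mul h3 (by omega)
      rw [h2, pow_succ, mul_assoc] at h5
      have h6 : 2 ^ 3 ≤ 2 ^ Y.H.a := Nat.pow_le_pow_right (by omega) ha3
      have h7 := Nat.le_of_mul_le_mul_left h5 (by positivity)
      omega)
    exact Y.flip.mem_S_of_J hμ.1.flip hμ'.1.flip hy'.1 hy'.2 hxy'
  -- `A` is big
  let R : Finset E' := Finset.univ.filter fun k =>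
    k ∈ D.perp (Submodule.span K2 ({x} : Set E)) ∧ k ∉ D.perp U
  let F : E' → Finset E' := fun μ => Finset.univ.filter fun k =>
    k ∈ D.perp (Y.H.S x μ) ∧ k ∉ D.perp U
  have hcd : ∀ P : Submodule K2 E, P ≤ U →
      (Finset.univ.filter fun k => k ∈ D.perp P ∧ k ∉ D.perp U).card +
        Nat.card (D.perp U) = Nat.card (D.perp P) := by
    intro P hP
    rw [Nat.card_eq_fintype_card, Nat.card_eq_fintype_card, Fintype.card_subtype,
      Fintype.card_subtype, ← Finset.card_union_of_disjoint]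
    · congr 1
      ext k
      simp only [Finset.mem_union, Finset.mem_filter, Finset.mem_univ, true_and]
      have : k ∈ D.perp U → k ∈ D.perp P := fun h => D.perp_anti hP h
      tauto
    · simp only [Finset.disjoint_left, Finset.mem_filter, Finset.mem_univ, true_and]
      tauto
  have cU : Nat.card (D.perp U) = 2 ^ (n - Y.H.a - 1) := by
    have h := D.card_perp U
    rw [Y.H.cardU hxy, hn, show 2 ^ n = 2 ^ (n - Y.H.a - 1) * 2 ^ (Y.H.a + 1) by
      rw [← pow_add]; congr 1; omega] at h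
    exact Nat.eq_of_mul_eq_mul_right (by positivity) h
  have cx : Nat.card (D.perp (Submodule.span K2 ({x} : Set E))) = 2 ^ (n - 1) := by
    have h' := D.card_perp (Submodule.span K2 ({x} : Set E))
    rw [card_span_one h.1, hn, show 2 ^ n = 2 ^ (n - 1) * 2 by
      rw [← pow_succ]; congr 1; omega] at h'
    exact Nat.eq_of_mul_eq_mul_right (by norm_num) h'
  have hF : ∀ μ ∈ A, (F μ).card = 2 ^ (n - Y.H.a - 1) := by
    intro μ hμ
    rw [hA] at hμ
    have h1 := hcd _ hμ.2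
    have hS := D.card_perp (Y.H.S x μ)
    rw [Y.card_S hμ.1, hn, show 2 ^ n = 2 ^ (n - Y.H.a) * 2 ^ Y.H.a by
      rw [← pow_add]; congr 1; omega] at hS
    rw [Nat.eq_of_mul_eq_mul_right (by positivity) hS, cU] at h1
    have : 2 ^ (n - Y.H.a) = 2 * 2 ^ (n - Y.H.a - 1) := by rw [← pow_succ']; congr 1; omega
    simp only [F]
    omega
  have hcover : R ⊆ A.biUnion F := by
    intro k hk
    simp only [R, Finset.mem_filter, Finset.mem_univ, true_and] at hk
    have hxk : D.pair x k = 0 := D.mem_perp_one.1 hk.1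
    have hk0 : k ≠ 0 := fun e => hk.2 (by rw [e]; exact zero_mem _)
    set K := D.flip.perp (Submodule.span K2 ({k} : Set E'))
    have hK : Nat.card K = 2 ^ (n - 1) := card_W hn (by omega) hk0
    have hinf : 2 ^ Y.H.a ≤ Nat.card ↥(U ⊓ K) := by
      have h2 := card_sup_mul_inf U K
      rw [Y.H.cardU hxy, hK, ← pow_add, show Y.H.a + 1 + (n - 1) = n + Y.H.a by omega, pow_add] at h2
      have h3 : Nat.card ↥(U ⊔ K) ≤ 2 ^ n := by
        rw [← hn]
        exact Nat.card_le_card_of_injective (Subtype.val) Subtype.val_injective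
      exact Nat.le_of_mul_le_mul_left (h2 ▸ Nat.mul_le_mul_right _ h3) (by positivity)
    obtain ⟨y', hy', hxy'⟩ := exists_ind2_mem h.1 (P := U ⊓ K)
      (le_trans (h4 _ (by omega)) hinf)
    have e : Y.H.U x y' = U := Y.U_eq hxy hxy' hy'.1
    have hp : ∃ p ∈ Y.H.U x y', D.pair p k = 1 := by
      by_contra hne
      push Not at hne
      exact hk.2 fun p hp => by
        by_contra h1
        exact hne p (e.symm ▸ hp) (k2_eq_one h1)
    obtain ⟨m, hm, hym, hmem⟩ := Y.hyper_surj hxy' hxk (D.flip.mem_perp_one.1 hy'.2) hp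
    have hle : Y.H.S x m ≤ U := e ▸ Y.S_le_U hm hym hxy'
    have heq : U ⊓ K = Y.H.S x m := eq_of_le_of_card
      (fun p hp => hmem p (e.symm ▸ hp.1) (D.flip.mem_perp_one.1 hp.2)) (by rw [Y.card_S hm]; exact hinf)
    refine Finset.mem_biUnion.2 ⟨m, hA.2 ⟨hm, hle⟩, ?_⟩
    simp only [F, Finset.mem_filter, Finset.mem_univ, true_and]
    refine ⟨fun p hp => ?_, hk.2⟩
    rw [← heq] at hp
    exact D.flip.mem_perp_one.1 hp.2
  have hAc : 2 ^ Y.H.a ≤ A.card + 1 := by
    have h1 := (Finset.card_le_card hcover).trans Finset.card_biUnion_le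
    rw [Finset.sum_congr rfl hF, Finset.sum_const, smul_eq_mul] at h1
    have h2 := hcd (Submodule.span K2 ({x} : Set E))
      ((Submodule.span_singleton_le_iff_mem _ _).2 (Y.H.memU_left hxy))
    rw [cx, cU] at h2
    have e : 2 ^ (n - 1) = 2 ^ Y.H.a * 2 ^ (n - Y.H.a - 1) := by
      rw [← pow_add]; congr 1; omega
    refine Nat.le_of_mul_le_mul_right (?_ : _ * 2 ^ (n - Y.H.a - 1) ≤ _ * 2 ^ (n - Y.H.a - 1))
      (by positivity)
    rw [← e, add_mul, one_mul, ← h2]
    exact Nat.add_le_add_right h1 _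
  have hall : ∀ μ ∈ A, (Finset.univ.filter fun k => k ∈ Y.H'.S μ x) = insert 0 A := by
    intro μ hμ
    refine (Finset.eq_of_subset_of_card_le ?_ ?_).symm
    · intro k hk
      simp only [Finset.mem_filter, Finset.mem_univ, true_and]
      rcases Finset.mem_insert.1 hk with rfl | hk
      · exact zero_mem _
      · exact hpair μ hμ k hk
    · rw [Finset.card_insert_of_notMem (fun h0 => (hA.1 h0).1.2.1 rfl), ← Fintype.card_subtype,
        ← Nat.card_eq_fintype_card, Y.card_S' (hA.1 hμ).1]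
      exact hAc
  have hl : l ∈ A := hA.2 ⟨h, Y.S_le_U h hy hxy⟩
  have hνA : ν ∈ A := by
    have : ν ∈ insert 0 A := by rw [← hall l hl]; simp [hν]
    exact (Finset.mem_insert.1 this).resolve_left hν0
  ext k
  have := Finset.ext_iff.1 ((hall ν hνA).trans (hall l hl).symm) k
  simpa using this

lemma S_closed (h : D.Inc x l) (hy : y ∈ Y.H.S x l) (hy0 : y ≠ 0) : Y.H.S y l = Y.H.S x l :=
  Y.flip.S'_closed h.flip hy hy0

include Y in
theorem no_sys : False := by
  obtain ⟨x, l, h⟩ := Y.exists_flag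
  have ha3 := Y.three_le_a
  obtain ⟨y, hy, hxy⟩ := exists_ind2_mem h.1 (P := Y.H.S x l) (by
    rw [Y.card_S h]
    exact (show 4 = 2 ^ 2 by norm_num) ▸ Nat.pow_le_pow_right (by omega) (by omega))
  have hyl : D.pair y l = 0 := Y.H.S_perp h hy
  have hUl := ((Y.key h).1 y hxy hyl).1 (Y.S_le_Z h hy)
  obtain ⟨u, hu, huS⟩ := exists_not_mem_sub (P := Y.H.S x l) (Q := Y.H.U x y) (by
    rw [Y.card_S h, Y.H.cardU hxy]; exact Nat.pow_lt_pow_right (by omega) (by omega))
  have hxu : Ind2 x u := ⟨h.1, fun e => huS (e ▸ zero_mem _), fun e => huS (e ▸ Y.H.memS h)⟩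
  have hUu := Y.U_eq hxy hxu hu
  obtain ⟨g, g1, g2, g3⟩ := Y.tt.line_sw hxu h.2.2 (hUl u hu)
  have hu' : D.Inc u l := ⟨hxu.2.1, h.2.1, hUl u hu⟩
  have hSu : Y.H.S u l ≤ Y.H.U x y := by
    intro p hp
    have e1 : D.act g⁻¹ u = x := by conv_lhs => rw [← g1, D.act_inv_act]
    have e2 : D.act' g⁻¹ l = l := by conv_lhs => rw [← g3, D.act'_inv_act]
    have h1 := Y.H.S_act g⁻¹ hu' hp
    rw [e1, e2] at h1
    have h2 := Y.H.U_act g hxu (hUu.symm ▸ Y.S_le_U h hy hxy h1)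
    rwa [g1, g2, Y.H.U_comm hxu, hUu, D.act_act_inv] at h2
  have h2 := card_sup_mul_inf (Y.H.S x l) (Y.H.S u l)
  have h3 := Nat.card_mono (Set.toFinite _) (sup_le (Y.S_le_U h hy hxy) hSu : _ ≤ Y.H.U x y)
  simp only [SetLike.coe_sort_coe] at h3
  rw [Y.H.cardU hxy] at h3
  rw [Y.card_S h, Y.card_S hu'] at h2
  obtain ⟨w, hw, hw0⟩ := exists_not_mem_sub (P := (⊥ : Submodule K2 E))
    (Q := Y.H.S x l ⊓ Y.H.S u l) (by
      rw [show Nat.card (⊥ : Submodule K2 E) = 1 from Nat.card_unique]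
      by_contra hle
      have h5 := Nat.mul_le_mul h3 (not_lt.1 hle)
      rw [h2, mul_one, pow_succ] at h5
      have h7 := Nat.le_of_mul_le_mul_left h5 (by positivity)
      have h6 : 2 ^ 3 ≤ 2 ^ Y.H.a := Nat.pow_le_pow_right (by omega) ha3
      omega)
  rw [Submodule.mem_bot] at hw0
  apply huS
  rw [← Y.S_closed h hw.1 hw0, Y.S_closed hu' hw.2 hw0]
  exact Y.H.memS hu'

end Sys

variable {G E E' : Type*} [Group G] [AddCommGroup E] [Module K2 E] [AddCommGroup E'] [Module K2 E']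
variable [Finite G] [Finite E] [Finite E'] {D : Duo G E E'}

/-- A group transitive on independent pairs is transitive on independent triples with fixed
first two members, once the space has at least sixteen elements. -/
theorem TT.outside_line (hD : D.TT) (h16 : 16 ≤ Nat.card E) {x y z z' : E} (hz : Ind3 x y z)
    (hz' : Ind3 x y z') : ∃ g, D.act g x = x ∧ D.act g y = y ∧ D.act g z = z' := by
  by_contra hne
  obtain ⟨Y⟩ := hD.exists_sys h16 fun h => hne (h x y z z' hz hz')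
  exact Y.no_sys

end Duo
end CfsgLib.LinTwo
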