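import Cfsg.Agent.Lib.LinTwo.Basic

/-!
# No generic trilinear alternating symmetric form over the field with two elements

A symmetric alternating trilinear form `T` on a space of dimension at least four over `ZMod 2`
has some `x ≠ 0` for which the radical of `T x` is larger than `{0, x}` (Chevalley–Warning).
-/

namespace CfsgLib.LinTwo

open MvPolynomial Matrix

variable {ι : Type*} [Fintype ι] [DecidableEq ι]

lemma sum_sym_zero {R : Type*} [CommRing R] [CharP R 2] (f : ι → ι → R)
    (hs : ∀ i k, f i k = f k i) (hd : ∀ i, f i i = 0) : ∑ i, ∑ k, f i k = 0 := by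
  rw [← Finset.sum_product']
  refine Finset.sum_involution (fun p _ => (p.2, p.1)) (fun p _ => ?_) (fun p _ hp h => ?_)
    (fun p _ => Finset.mem_product.2 ⟨Finset.mem_univ _, Finset.mem_univ _⟩) (fun p _ => rfl)
  · rw [hs p.2 p.1]
    exact CharTwo.add_self_eq_zero _
  · apply hp
    rw [show p.2 = p.1 from congrArg Prod.fst h]
    exact hd _

theorem no_trilinear_coeff {n : ℕ} (hn : 4 ≤ n) (t : Fin n → Fin n → Fin n → K2)
    (h12 : ∀ i j k, t i j k = t j i k) (h23 : ∀ i j k, t i j k = t i k j)
    (hd : ∀ i j, t i i j = 0)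
    (hrad : ∀ x : Fin n → K2, x ≠ 0 → ∀ y : Fin n → K2,
      (∀ k, ∑ i, ∑ j, t i j k * x i * y j = 0) → y = 0 ∨ y = x) : False := by
  classical
  haveI : NeZero n := ⟨by omega⟩
  let A : Matrix (Fin n) (Fin n) (MvPolynomial (Fin n) K2) := fun j k => ∑ i, C (t i j k) * X i
  have hA : Aᵀ = A := by
    refine Matrix.ext fun j k => ?_
    show (∑ i, C (t i k j) * X i) = ∑ i, C (t i j k) * X i
    exact Finset.sum_congr rfl fun i _ => by rw [h23]
  haveI : CharP (MvPolynomial (Fin n) K2) 2 := inferInstance
  have hAX : A *ᵥ (fun i => X i) = 0 := by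
    funext j
    show ∑ k, (∑ i, C (t i j k) * X i) * X k = 0
    simp only [Finset.sum_mul]
    refine sum_sym_zero (fun k i => C (t i j k) * X i * X k) (fun k i => ?_) (fun k => ?_)
    · rw [h23 i j k, h12 i k j, h23 k i j]; ring
    · rw [h23 k j k, hd k j]; simp
  -- the adjugate
  have hadj : ∀ i j k, X k * A.adjugate i j = X i * A.adjugate k j := by
    intro i j k
    have hv : ∀ v : Fin n → (MvPolynomial (Fin n) K2), v ⬝ᵥ (fun i => X i) = 0 → (A.updateRow j v).det = 0 := by
      intro v hv
      refine exists_mulVec_eq_zero_iff.1 ⟨fun i => X i, fun h => X_ne_zero (0 : Fin n) (congrFun h 0), ?_⟩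
      funext r
      by_cases hr : r = j
      · subst hr
        simpa [Matrix.mulVec] using hv
      · simpa [Matrix.mulVec, Matrix.updateRow_ne hr] using congrFun hAX r
    have h := hv ((X k : (MvPolynomial (Fin n) K2)) • (Pi.single i 1 : Fin n → (MvPolynomial (Fin n) K2)) + (-(X i : (MvPolynomial (Fin n) K2))) • (Pi.single k 1)) (by
      simp only [add_dotProduct, smul_dotProduct, single_dotProduct, smul_eq_mul, one_mul]
      ring)
    rw [det_updateRow_add, det_updateRow_smul, det_updateRow_smul, ← adjugate_apply,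
      ← adjugate_apply] at h
    linear_combination h
  have hsym : ∀ i j, A.adjugate i j = A.adjugate j i := fun i j => by
    conv_lhs => rw [← hA, ← adjugate_transpose]
    rfl
  have hsq : ∀ k, X k * X k * A.adjugate 0 0 = X 0 * X 0 * A.adjugate k k := by
    intro k
    calc X k * X k * A.adjugate 0 0 = X k * (X k * A.adjugate 0 0) := by ring
      _ = X 0 * (X k * A.adjugate k 0) := by rw [hadj 0 0 k]; ring
      _ = X 0 * (X k * A.adjugate 0 k) := by rw [hsym k 0]
      _ = X 0 * X 0 * A.adjugate k k := by rw [hadj 0 k k]; ring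
  obtain ⟨G, hG⟩ : ∃ G : (MvPolynomial (Fin n) K2), A.adjugate 0 0 = X 0 * X 0 * G := by
    let i₁ : Fin n := ⟨1, by omega⟩
    have hne : ¬ (X 0 : (MvPolynomial (Fin n) K2)) ∣ X i₁ := by
      rw [X_dvd_X]
      exact fun h => by simpa [i₁] using congrArg Fin.val h
    have hp : Prime (X 0 : (MvPolynomial (Fin n) K2)) := X_prime
    have hdiv : (X 0 : (MvPolynomial (Fin n) K2)) ^ 2 ∣ A.adjugate 0 0 * (X i₁ * X i₁) :=
      ⟨A.adjugate i₁ i₁, by rw [pow_two, mul_comm (A.adjugate 0 0), hsq i₁]⟩
    obtain ⟨G, hG⟩ := hp.pow_dvd_of_dvd_mul_right 2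
      (fun h => (hp.dvd_or_dvd h).elim hne hne) hdiv
    exact ⟨G, by rw [hG, pow_two]⟩
  have hGk : ∀ k, A.adjugate k k = X k * X k * G := by
    intro k
    have := hsq k
    rw [hG] at this
    refine mul_left_cancel₀ (a := (X 0 * X 0 : (MvPolynomial (Fin n) K2))) (mul_ne_zero (X_ne_zero _) (X_ne_zero _)) ?_
    rw [← this]; ring
  -- evaluation at a point
  let M : (Fin n → K2) → Matrix (Fin n) (Fin n) K2 := fun x j k => ∑ i, t i j k * x i
  have hM : ∀ x, A.map (eval x) = M x := by
    intro x; ext j k
    show eval x (∑ i, C (t i j k) * X i) = ∑ i, t i j k * x i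
    simp
  have hev : ∀ (x : Fin n → K2) k,
      eval x (A.adjugate k k) = ((M x).updateRow k (Pi.single k 1)).det := by
    intro x k
    rw [adjugate_apply, RingHom.map_det]
    congr 1
    rw [← hM]
    ext a b
    simp only [RingHom.mapMatrix_apply, Matrix.map_apply, Matrix.updateRow_apply]
    split
    · rw [Pi.single_apply, Pi.single_apply]; split <;> simp
    · rfl
  have hnz : ∀ x : Fin n → K2, x ≠ 0 → eval x G ≠ 0 := by
    intro x hx h0
    obtain ⟨k, hk⟩ := Function.ne_iff.1 hx
    have hk1 : x k = 1 := k2_eq_one hk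
    have hdet : ((M x).updateRow k (Pi.single k 1)).det = 0 := by
      rw [← hev, hGk]; simp [h0]
    obtain ⟨v, hv, hv0⟩ := exists_mulVec_eq_zero_iff.2 hdet
    have hvk : v k = 0 := by
      have := congrFun hv0 k
      simpa [Matrix.mulVec] using this
    have hrow : ∀ r, r ≠ k → (M x *ᵥ v) r = 0 := by
      intro r hr
      have := congrFun hv0 r
      simpa [Matrix.mulVec, Matrix.updateRow_ne hr] using this
    have hxM : x ⬝ᵥ (M x *ᵥ v) = 0 := by
      have hx0 : M x *ᵥ x = 0 := by
        rw [← hM]
        funext j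
        simpa [Matrix.mulVec, dotProduct, Matrix.map_apply] using congrArg (eval x) (congrFun hAX j)
      have hMs : (M x)ᵀ = M x := by
        rw [← hM]
        conv_rhs => rw [← hA]
        rfl
      rw [Matrix.dotProduct_mulVec, ← hMs, Matrix.vecMul_transpose, hx0, zero_dotProduct]
    rw [dotProduct, Finset.sum_eq_single k (fun r _ hr => by rw [hrow r hr, mul_zero])
      (by simp), hk1, one_mul] at hxM
    have hall : M x *ᵥ v = 0 := funext fun r => by
      by_cases hr : r = k
      · rw [hr]; exact hxM
      · exact hrow r hr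
    rcases hrad x hx v (fun r => by
      have h := congrFun hall r
      simp only [Matrix.mulVec, dotProduct, Pi.zero_apply, M, Finset.sum_mul] at h
      rw [Finset.sum_comm] at h
      simp only [fun i j => h23 i r j] at h
      exact h) with h | h
    · exact hv h
    · rw [h, hk1] at hvk; exact one_ne_zero hvk
  -- the value at zero
  have h00 : eval (0 : Fin n → K2) G = 0 := by
    let e : Fin n → K2 := Pi.single 0 1
    let φ : (MvPolynomial (Fin n) K2) →ₐ[K2] Polynomial K2 := aeval fun i => Polynomial.C (e i) * Polynomial.X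
    have h1 : φ (A.adjugate 0 0) = Polynomial.X ^ (n - 1) *
        Polynomial.C (((M e).updateRow 0 (Pi.single 0 1)).det) := by
      rw [adjugate_apply, AlgHom.map_det]
      let d : Fin n → Polynomial K2 := fun r => if r = 0 then 1 else Polynomial.X
      have : φ.mapMatrix (A.updateRow 0 (Pi.single 0 1)) =
          Matrix.diagonal d * Polynomial.C.mapMatrix ((M e).updateRow 0 (Pi.single 0 1)) := by
        refine Matrix.ext fun a b => ?_
        rw [Matrix.diagonal_mul]
        simp only [AlgHom.mapMatrix_apply, RingHom.mapMatrix_apply, Matrix.map_apply,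
          Matrix.updateRow_apply, d]
        split
        · rw [Pi.single_apply, Pi.single_apply]; split <;> simp
        · simp only [φ, A, M, map_sum, map_mul, aeval_C, aeval_X, Finset.mul_sum]
          exact Finset.sum_congr rfl fun i _ => by
            rw [Polynomial.algebraMap_eq]; ring
      rw [this, Matrix.det_mul, Matrix.det_diagonal, ← RingHom.map_det]
      congr 1
      simp only [d]
      rw [Finset.prod_ite, Finset.prod_const_one, one_mul, Finset.prod_const]
      congr 1
      simp [Finset.filter_ne', Finset.card_erase_of_mem]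
    have h2 : φ (A.adjugate 0 0) = Polynomial.X ^ 2 * φ G := by
      rw [hG, map_mul, map_mul]
      simp [φ, e, pow_two]
    rw [h1, show n - 1 = 2 + (n - 3) by omega, pow_add, mul_assoc] at h2
    have h3 := mul_left_cancel₀ (pow_ne_zero 2 Polynomial.X_ne_zero) h2
    have h4 := congrArg (Polynomial.eval 0) h3
    rw [Polynomial.eval_mul, Polynomial.eval_pow, Polynomial.eval_X,
      zero_pow (by omega), zero_mul] at h4
    have h5 : (Polynomial.evalRingHom (0 : K2)).comp φ.toRingHom = eval (0 : Fin n → K2) := by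
      refine MvPolynomial.ringHom_ext (fun r => ?_) (fun i => ?_)
      · simp [φ]
      · simp [φ]
    rw [← h5]
    exact h4.symm
  -- degree
  have hdeg : G.totalDegree < Fintype.card (Fin n) := by
    rw [Fintype.card_fin]
    by_cases hG0 : G = 0
    · simp [hG0]; omega
    have h1 : (A.adjugate 0 0).totalDegree ≤ n := by
      rw [adjugate_apply, Matrix.det_apply]
      refine totalDegree_finsetSum_le fun σ _ => ?_
      refine le_trans (b := (∏ i, A.updateRow 0 (Pi.single 0 1) (σ i) i).totalDegree) ?_ ?_
      · rcases Int.units_eq_one_or (Equiv.Perm.sign σ) with h | h <;> rw [h] <;> simp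
      refine (totalDegree_finsetProd _ _).trans ?_
      refine (Finset.sum_le_card_nsmul _ _ 1 fun i _ => ?_).trans (by simp)
      rw [Matrix.updateRow_apply]
      split
      · rw [Pi.single_apply]; split <;> simp
      · refine totalDegree_finsetSum_le fun j _ => (totalDegree_mul _ _).trans ?_
        simp
    rw [hG, totalDegree_mul_of_isDomain (mul_ne_zero (X_ne_zero _) (X_ne_zero _)) hG0,
      totalDegree_mul_of_isDomain (X_ne_zero _) (X_ne_zero _), totalDegree_X] at h1
    omega
  have h2 := char_dvd_card_solutions 2 hdeg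
  have h1 : Fintype.card {x : Fin n → K2 // eval x G = 0} = 1 :=
    Fintype.card_eq_one_iff.2 ⟨⟨0, h00⟩, fun ⟨x, hx⟩ => Subtype.ext (by
      by_contra hne
      exact hnz x hne hx)⟩
  rw [h1] at h2
  omega

theorem no_trilinear {V : Type*} [AddCommGroup V] [Module K2 V] [Finite V]
    (h16 : 16 ≤ Nat.card V) (T : V → V → V → K2)
    (h12 : ∀ x y z, T x y z = T y x z) (h23 : ∀ x y z, T x y z = T x z y)
    (hd : ∀ x z, T x x z = 0) (hadd : ∀ x y z z', T x y (z + z') = T x y z + T x y z')
    (hrad : ∀ x y, x ≠ 0 → (∀ z, T x y z = 0) → y = 0 ∨ y = x) : False := by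
  classical
  haveI : Module.Finite K2 V := Module.Finite.of_finite
  let b := Module.finBasis K2 V
  set n := Module.finrank K2 V with hn
  have hn4 : 4 ≤ n := by
    rw [Module.natCard_eq_pow_finrank (K := K2) (V := V), Nat.card_zmod, ← hn] at h16
    by_contra hlt
    have : 2 ^ n ≤ 2 ^ 3 := Nat.pow_le_pow_right (by omega) (by omega)
    omega
  -- the last slot is linear
  let L : V → V → (V →ₗ[K2] K2) := fun x y => (AddMonoidHom.mk' (T x y) (hadd x y)).toZModLinearMap 2
  have hL : ∀ x y z, L x y z = T x y z := fun _ _ _ => rfl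
  have h3 : ∀ (x y : V) (c : Fin n → K2), T x y (∑ k, c k • b k) = ∑ k, c k * T x y (b k) := by
    intro x y c
    rw [← hL, map_sum]
    simp only [map_smul, smul_eq_mul]
    simp only [hL]
  have h2 : ∀ (x z : V) (c : Fin n → K2), T x (∑ j, c j • b j) z = ∑ j, c j * T x (b j) z := by
    intro x z c
    rw [h23, h3]
    exact Finset.sum_congr rfl fun j _ => by rw [h23]
  have h1 : ∀ (y z : V) (c : Fin n → K2), T (∑ i, c i • b i) y z = ∑ i, c i * T (b i) y z := by
    intro y z c
    rw [h12, h2]
    exact Finset.sum_congr rfl fun j _ => by rw [h12]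
  refine no_trilinear_coeff hn4 (fun i j k => T (b i) (b j) (b k)) (fun _ _ _ => h12 _ _ _)
    (fun _ _ _ => h23 _ _ _) (fun _ _ => hd _ _) fun x hx y hy => ?_
  have hz : ∀ z, T (∑ i, x i • b i) (∑ j, y j • b j) z = 0 := by
    intro z
    rw [← b.sum_repr z, h3]
    refine Finset.sum_eq_zero fun k _ => mul_eq_zero_of_right _ ?_
    rw [h1]
    refine Eq.trans (Finset.sum_congr rfl fun i _ => ?_) (hy k)
    rw [h2, Finset.mul_sum]
    exact Finset.sum_congr rfl fun j _ => by ring
  have hinj : ∀ u v : Fin n → K2, ∑ i, u i • b i = ∑ i, v i • b i → u = v := by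
    intro u v h
    funext i
    have := congrArg (fun w => b.repr w i) h
    simpa [Finsupp.single_apply, Finset.sum_apply'] using this
  rcases hrad _ _ (fun h => hx (hinj x 0 (by simpa using h))) hz with h | h
  · exact Or.inl (hinj y 0 (by simpa using h))
  · exact Or.inr (hinj y x h)

end CfsgLib.LinTwo
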