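import Cfsg.Agent.Lib.LinTwo.Sys
import Cfsg.Agent.Lib.LinTwo.Trilinear

/-!
# The numerical identities and their consequences
-/

namespace CfsgLib.LinTwo

section Card

variable {E : Type*} [AddCommGroup E] [Module K2 E] [Finite E]

lemma exists_pow (P : Submodule K2 E) : ∃ k, Nat.card P = 2 ^ k := by
  haveI : Module.Finite K2 P := Module.Finite.of_finite
  exact ⟨_, by rw [Module.natCard_eq_pow_finrank (K := K2) (V := P), Nat.card_zmod]⟩

lemma card_sup_mul_inf (P Q : Submodule K2 E) :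
    Nat.card ↥(P ⊔ Q) * Nat.card ↥(P ⊓ Q) = Nat.card P * Nat.card Q := by
  haveI : Module.Finite K2 E := Module.Finite.of_finite
  haveI : Module.Finite K2 P := Module.Finite.of_finite
  haveI : Module.Finite K2 Q := Module.Finite.of_finite
  haveI : Module.Finite K2 ↥(P ⊔ Q) := Module.Finite.of_finite
  haveI : Module.Finite K2 ↥(P ⊓ Q) := Module.Finite.of_finite
  rw [Module.natCard_eq_pow_finrank (K := K2) (V := P),
    Module.natCard_eq_pow_finrank (K := K2) (V := Q),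
    Module.natCard_eq_pow_finrank (K := K2) (V := ↥(P ⊔ Q)),
    Module.natCard_eq_pow_finrank (K := K2) (V := ↥(P ⊓ Q)), ← pow_add, ← pow_add,
    Submodule.finrank_sup_add_finrank_inf_eq]

lemma eq_of_le_of_card {P Q : Submodule K2 E} (h : P ≤ Q) (hc : Nat.card Q ≤ Nat.card P) :
    P = Q := by
  refine SetLike.coe_injective (Set.eq_of_subset_of_ncard_le h ?_ (Set.toFinite _))
  rwa [← Nat.card_coe_set_eq, ← Nat.card_coe_set_eq]

lemma two_mul_card_le {P Q : Submodule K2 E} (h : P < Q) : 2 * Nat.card P ≤ Nat.card Q := by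
  obtain ⟨i, hi⟩ := exists_pow P
  obtain ⟨j, hj⟩ := exists_pow Q
  have hlt : Nat.card P < Nat.card Q := not_le.1 fun hc => h.ne (eq_of_le_of_card h.le hc)
  rw [hi, hj] at hlt ⊢
  have := (Nat.pow_lt_pow_iff_right one_lt_two).1 hlt
  rw [← pow_succ']
  exact Nat.pow_le_pow_right (by omega) (by omega)

lemma exists_ind2_mem {P : Submodule K2 E} {x : E} (hx : x ≠ 0) (h4 : 4 ≤ Nat.card P) :
    ∃ p ∈ P, Ind2 x p := by
  by_contra hne
  push Not at hne
  have : P ≤ Submodule.span K2 {x} := fun p hp => by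
    by_contra hp'
    exact hne p hp ((ind2_iff hx).2 hp')
  have := Nat.card_mono (Set.toFinite _) this
  simp only [Nat.card_coe_set_eq] at this
  have h2 := Duo.card_span_one hx
  rw [← SetLike.coe_sort_coe, Nat.card_coe_set_eq] at h2 h4
  omega

lemma two_pow_odd_inj {i j u v : ℕ} (hu : Odd u) (hv : Odd v) (h : 2 ^ i * u = 2 ^ j * v) :
    i = j ∧ u = v := by
  induction i generalizing j with
  | zero =>
    rcases j with _ | j
    · simpa using h
    · rw [pow_zero, one_mul] at h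
      exact absurd ⟨2 ^ j * v, by rw [h, pow_succ]; ring⟩ (Nat.not_even_iff_odd.2 hu ∘ even_iff_two_dvd.2)
  | succ i ih =>
    rcases j with _ | j
    · rw [pow_zero, one_mul] at h
      exact absurd ⟨2 ^ i * u, by rw [← h, pow_succ]; ring⟩ (Nat.not_even_iff_odd.2 hv ∘ even_iff_two_dvd.2)
    · rw [pow_succ', pow_succ', mul_assoc, mul_assoc] at h
      obtain ⟨rfl, rfl⟩ := ih (Nat.eq_of_mul_eq_mul_left two_pos h)
      exact ⟨rfl, rfl⟩

lemma odd_pow_sub_one {i : ℕ} (hi : i ≠ 0) : Odd (2 ^ i - 1) := by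
  obtain ⟨k, rfl⟩ := Nat.exists_eq_succ_of_ne_zero hi
  have := Nat.one_le_two_pow (n := k)
  exact ⟨2 ^ k - 1, by rw [pow_succ]; omega⟩

lemma mersenne_mul {k t j : ℕ} (hk : 2 ≤ k) (ht : t ≠ 0) (hj : j ≠ 0)
    (h : (2 ^ k - 1) * (2 ^ t - 1) = 2 ^ j - 1) : t = 1 ∧ j = k := by
  by_cases ht1 : t = 1
  · subst ht1
    simp only [pow_one, Nat.add_one_sub_one, mul_one] at h
    have h1 := Nat.one_le_two_pow (n := k)
    have h2 := Nat.one_le_two_pow (n := j)
    exact ⟨rfl, (Nat.pow_right_injective le_rfl (show 2 ^ j = 2 ^ k by omega))⟩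
  · exfalso
    have e : ∀ {i}, 2 ≤ i → ∃ c, 1 ≤ c ∧ 2 ^ i - 1 = 4 * (c - 1) + 3 := fun {i} hi => by
      refine ⟨2 ^ (i - 2), Nat.one_le_two_pow, ?_⟩
      have : 2 ^ i = 2 ^ (i - 2) * 4 := by
        rw [show (4 : ℕ) = 2 ^ 2 by norm_num, ← pow_add]; congr 1; omega
      have := Nat.one_le_two_pow (n := i - 2)
      omega
    obtain ⟨c, hc, hc'⟩ := e hk
    obtain ⟨d, hd, hd'⟩ := e (i := t) (by omega)
    rcases (show j = 1 ∨ 2 ≤ j by omega) with rfl | hj2
    · rw [hc', hd'] at h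
      norm_num at h
      nlinarith
    · obtain ⟨f, hf, hf'⟩ := e hj2
      rw [hc', hd', hf'] at h
      have := congrArg (· % 4) h
      simp [Nat.mul_mod, Nat.add_mod] at this

end Card

namespace Duo
namespace Sys

variable {G E E' : Type*} [Group G] [AddCommGroup E] [Module K2 E] [AddCommGroup E'] [Module K2 E']
variable [Finite G] [Finite E] [Finite E'] {D : Duo G E E'}
variable (Y : D.Sys) {x y z w : E} {l μ ν : E'}

include Y in
lemma exists_inc (hl : l ≠ 0) : ∃ x, D.Inc x l := by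
  have hk := D.card_ker hl
  have := Y.tt.big
  obtain ⟨z, hz, hz0⟩ : ∃ z, D.pair z l = 0 ∧ z ≠ 0 := by
    by_contra hne
    push Not at hne
    haveI : Subsingleton {z : E // D.pair z l = 0} :=
      ⟨fun a b => Subtype.ext ((hne _ a.2).trans (hne _ b.2).symm)⟩
    have : Nat.card {z : E // D.pair z l = 0} ≤ 1 := Finite.card_le_one_iff_subsingleton.2 inferInstance
    omega
  exact ⟨z, hz0, hl, hz⟩

include Y in
lemma exists_flag : ∃ x l, D.Inc x l := by
  obtain ⟨x, hx⟩ := exists_not_mem_of_card (P := (⊥ : Submodule K2 E)) (by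
    have h : Nat.card (⊥ : Submodule K2 E) = 1 := Nat.card_unique
    have := Y.tt.big
    omega)
  obtain ⟨l, hl⟩ := Y.flip.exists_inc (l := x) (by simpa using hx)
  exact ⟨x, l, hl.flip⟩

lemma b'_eq : Y.H'.b = Y.H.a := by
  obtain ⟨x, l, h⟩ := Y.exists_flag
  exact (Y.key h).2

lemma a'_eq : Y.H'.a = Y.H.b := Y.flip.b'_eq.symm

lemma card_S' (h : D.Inc x l) : Nat.card (Y.H'.S l x) = 2 ^ Y.H.a := by
  rw [Y.H'.cardS h.flip, Y.b'_eq]

lemma S'_eq (_h : D.Inc x l) : Y.H'.S l x = D.perp (Y.Z x l) :=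
  (D.flip.perp_perp _).symm

lemma Z_symm (hx : D.Inc x l) (hz : D.Inc z l) (h : z ∈ Y.Z x l) : x ∈ Y.Z z l := by
  by_cases e : z = x
  · subst e; exact h
  have i : Ind2 x z := ⟨hx.1, hz.1, Ne.symm e⟩
  refine ((Y.key hz).1 x i.symm hx.2.2).2 fun p hp => ?_
  rw [Y.H.U_comm i] at hp
  exact ((Y.key hx).1 z i hz.2.2).1 h p hp

lemma Z_add (hx : D.Inc x l) (hz : D.Inc z l) (hxz : x ≠ z) (h : w ∈ Y.Z x l) (h' : w ∈ Y.Z z l) :
    w ∈ Y.Z (x + z) l := by
  by_cases hw : w = 0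
  · subst hw; exact zero_mem _
  have hw' : D.Inc w l := ⟨hw, hx.2.1, Y.Z_perp hx h⟩
  refine Y.Z_symm hw' ⟨fun e => hxz (add_eq_zero_iff_eq'.1 e), hx.2.1, ?_⟩
    (add_mem (Y.Z_symm hx hw' h) (Y.Z_symm hz hw' h'))
  simp [hx.2.2, hz.2.2]

lemma exists_J (h : Ind2 l μ) : ∃ x, D.Inc x l ∧ μ ∈ Y.H'.S l x := by
  obtain ⟨x, hx⟩ := Y.exists_inc h.1
  obtain ⟨ν, hν, hlν⟩ := exists_ind2_mem h.1 (by
    rw [Y.card_S' hx]
    exact (show 4 = 2 ^ 2 by norm_num) ▸ Nat.pow_le_pow_right (by omega) Y.H.two_le_a)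
  obtain ⟨g, g1, g2⟩ := Y.tt.flip.tt l ν l μ hlν h
  simp only [flip_act] at g1 g2
  refine ⟨D.act g x, g1 ▸ D.inc_act hx g, ?_⟩
  have := Y.H'.S_act g hx.flip hν
  simp only [flip_act, flip_act', g1, g2] at this
  exact this

lemma mul_card_Z {n : ℕ} (hn : Nat.card E = 2 ^ n) (hx : D.Inc x l) :
    Nat.card (Y.Z x l) * 2 ^ Y.H.a = 2 ^ n := by
  rw [← hn, ← Y.b'_eq]; exact Y.card_Z hx

lemma card_Z_eq {n : ℕ} (hn : Nat.card E = 2 ^ n) (ha : Y.H.a ≤ n) (hx : D.Inc x l) :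
    Nat.card (Y.Z x l) = 2 ^ (n - Y.H.a) := by
  refine Nat.eq_of_mul_eq_mul_right (m := 2 ^ Y.H.a) (by positivity) ?_
  rw [Y.mul_card_Z hn hx, ← pow_add]; congr 1; omega

lemma card_W {n : ℕ} (hn : Nat.card E = 2 ^ n) (hn0 : n ≠ 0) (hl : l ≠ 0) :
    Nat.card (D.flip.perp (Submodule.span K2 ({l} : Set E'))) = 2 ^ (n - 1) := by
  have h := D.flip.card_perp (Submodule.span K2 ({l} : Set E'))
  rw [card_span_one hl, D.card_eq, hn] at h
  have : 2 ^ n = 2 ^ (n - 1) * 2 := by rw [← pow_succ]; congr 1; omega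
  omega

theorem a_ne_two : Y.H.a ≠ 2 := by
  classical
  intro ha
  obtain ⟨n, hn4, hn, han⟩ := Y.exists_dim
  have hhyp : ∀ {x l μ}, D.Inc x l → μ ∈ Y.H'.S l x → Ind2 l μ → ∀ z, D.pair z l = 0 →
      (z ∈ Y.Z x l ↔ D.pair z μ = 0) := by
    intro x l μ hx hμ hlμ z hz
    refine ⟨fun h => Y.mem_Z.1 h μ hμ, fun h => Y.mem_Z.2 fun ν hν => ?_⟩
    have e : Submodule.span K2 ({l, μ} : Set E') = Y.H'.S l x := by
      refine eq_of_le_of_card (Submodule.span_le.2 ?_) ?_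
      · simp [Set.insert_subset_iff, Y.H'.memS hx.flip, hμ]
      · rw [card_span_two hlμ, Y.card_S' hx, ha]; norm_num
    rw [← e] at hν
    rcases mem_span_two.1 hν with rfl | rfl | rfl | rfl <;> simp [hz, h]
  have huniq : ∀ {x x' l μ}, D.Inc x l → D.Inc x' l → μ ∈ Y.H'.S l x → μ ∈ Y.H'.S l x' →
      Ind2 l μ → x = x' := by
    intro x x' l μ hx hx' hμ hμ' hlμ
    by_contra hne
    have hs : D.Inc (x + x') l := ⟨fun e => hne (add_eq_zero_iff_eq'.1 e), hx.2.1,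
      by simp [hx.2.2, hx'.2.2]⟩
    have hall : D.flip.perp (Submodule.span K2 ({l} : Set E')) ≤ Y.Z (x + x') l := by
      intro w hw
      have hwl : D.pair w l = 0 := D.flip.mem_perp_one.1 hw
      by_cases hw0 : w = 0
      · subst hw0; exact zero_mem _
      have hw' : D.Inc w l := ⟨hw0, hx.2.1, hwl⟩
      obtain ⟨ν, hν, hlν⟩ := exists_ind2_mem hx.2.1 (P := Y.H'.S l w) (by
        rw [Y.card_S' hw', ha]; norm_num)
      refine Y.Z_symm hw' hs ((hhyp hw' hν hlν _ hs.2.2).2 ?_)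
      have e : D.pair x ν = D.pair x' ν := by
        have e1 := hhyp hw' hν hlν x hx.2.2
        have e2 := hhyp hw' hν hlν x' hx'.2.2
        have e3 : (x ∈ Y.Z w l ↔ w ∈ Y.Z x l) := ⟨Y.Z_symm hw' hx, Y.Z_symm hx hw'⟩
        have e4 : (x' ∈ Y.Z w l ↔ w ∈ Y.Z x' l) := ⟨Y.Z_symm hw' hx', Y.Z_symm hx' hw'⟩
        rw [e3, hhyp hx hμ hlμ w hwl, ← hhyp hx' hμ' hlμ w hwl, ← e4, e2] at e1
        revert e1
        generalize D.pair x ν = p
        generalize D.pair x' ν = p'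
        revert p p'
        decide
      simp [e, vadd_self]
    have h1 := Nat.card_mono (Set.toFinite _) hall
    simp only [SetLike.coe_sort_coe] at h1
    rw [card_W hn (by omega) hx.2.1, Y.card_Z_eq hn (by omega) hs, ha] at h1
    have := (Nat.pow_le_pow_iff_right one_lt_two).1 h1
    omega
  let T : E' → E' → E' → K2 := fun l μ ν =>
    if h : Ind2 l μ then D.pair (Y.exists_J h).choose ν else 0
  have hT : ∀ {l μ x}, Ind2 l μ → D.Inc x l → μ ∈ Y.H'.S l x → ∀ ν, T l μ ν = D.pair x ν := by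
    intro l μ x h hx hμ ν
    obtain ⟨h1, h2⟩ := (Y.exists_J h).choose_spec
    simp only [T, dif_pos h]
    rw [huniq h1 hx h2 hμ h]
  have hT0 : ∀ {l μ}, ¬ Ind2 l μ → ∀ ν, T l μ ν = 0 := fun h ν => dif_neg h
  have h23 : ∀ l μ ν, T l μ ν = T l ν μ := by
    intro l μ ν
    by_cases hlμ : Ind2 l μ
    · obtain ⟨x, hx, hμ⟩ := Y.exists_J hlμ
      rw [hT hlμ hx hμ]
      by_cases hlν : Ind2 l ν
      · obtain ⟨x', hx', hν⟩ := Y.exists_J hlν
        rw [hT hlν hx' hν]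
        have e1 := hhyp hx' hν hlν x hx.2.2
        have e2 := hhyp hx hμ hlμ x' hx'.2.2
        have e3 : (x' ∈ Y.Z x l ↔ x ∈ Y.Z x' l) := ⟨Y.Z_symm hx hx', Y.Z_symm hx' hx⟩
        rw [e3, e1] at e2
        revert e2
        generalize D.pair x ν = p
        generalize D.pair x' μ = p'
        revert p p'
        decide
      · rw [hT0 hlν]
        rcases (show ν = 0 ∨ ν = l by
          by_contra hh
          push Not at hh
          exact hlν ⟨hlμ.1, hh.1, hh.2.symm⟩) with rfl | rfl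
        · simp
        · exact hx.2.2
    · rw [hT0 hlμ]
      by_cases hlν : Ind2 l ν
      · obtain ⟨x', hx', hν⟩ := Y.exists_J hlν
        rw [hT hlν hx' hν]
        rcases (show μ = 0 ∨ μ = l by
          by_contra hh
          push Not at hh
          exact hlμ ⟨hlν.1, hh.1, hh.2.symm⟩) with rfl | rfl
        · simp
        · exact hx'.2.2.symm
      · rw [hT0 hlν]
  have h12 : ∀ l μ ν, T l μ ν = T μ l ν := by
    intro l μ ν
    by_cases hlμ : Ind2 l μ
    · obtain ⟨x, hx, hμ⟩ := Y.exists_J hlμ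
      by_cases hν : ν ∈ Submodule.span K2 ({l, μ} : Set E')
      · obtain ⟨x', hx', hl⟩ := Y.exists_J hlμ.symm
        rw [hT hlμ hx hμ, hT hlμ.symm hx' hl]
        have a1 : D.pair x μ = 0 := Y.H'.S_perp hx.flip hμ
        have a2 : D.pair x' l = 0 := Y.H'.S_perp hx'.flip hl
        rcases mem_span_two.1 hν with rfl | rfl | rfl | rfl <;> simp [hx.2.2, hx'.2.2, a1, a2]
      · obtain ⟨g, g1, g2, g3⟩ := Y.tt.flip.swap ((ind3_iff hlμ).2 hν).swap23.swap12
        simp only [flip_act] at g1 g2 g3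
        have hg : D.Inc (D.act g x) μ := g2 ▸ D.inc_act hx g
        have hgl := Y.H'.S_act g hx.flip hμ
        simp only [flip_act, flip_act', g2, g3] at hgl
        rw [hT hlμ hx hμ, hT hlμ.symm hg hgl, ← D.inv g x ν, g1]
    · rw [hT0 hlμ, hT0 fun h => hlμ h.symm]
  refine no_trilinear (V := E') (by
      rw [D.card_eq, hn]
      exact (show 16 = 2 ^ 4 by norm_num) ▸ Nat.pow_le_pow_right (by omega) (by omega))
    T h12 h23 (fun l ν => hT0 (fun h => h.2.2 rfl) ν) (fun l μ ν ν' => ?_) fun l μ hl hall => ?_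
  · by_cases h : Ind2 l μ
    · simp only [T, dif_pos h, map_add]
    · simp only [hT0 h, add_zero]
  · by_contra hh
    push Not at hh
    have h : Ind2 l μ := ⟨hl, hh.1, hh.2.symm⟩
    obtain ⟨x, hx, hμ⟩ := Y.exists_J h
    exact hx.1 (D.nd x fun ν => by rw [← hT h hx hμ]; exact hall ν)

lemma three_le_a : 3 ≤ Y.H.a := by
  have := Y.H.two_le_a
  have := Y.a_ne_two
  omega

lemma S_le_Z (h : D.Inc x l) : Y.H.S x l ≤ Y.Z x l := by
  obtain ⟨n, hn4, hn, han⟩ := Y.exists_dim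
  refine Y.H.S_min _ h (fun p hp => Y.Z_perp h hp) (Y.self_mem_Z h) (fun g g1 g2 p hp => ?_)
    (exists_ind2_mem h.1 ?_)
  · have := Y.Z_act g h hp
    rwa [g1, g2] at this
  · rw [Y.card_Z_eq hn (by omega) h]
    exact (show 4 = 2 ^ 2 by norm_num) ▸ Nat.pow_le_pow_right (by omega) (by omega)

lemma trans_out (h : D.Inc x l) (hz : D.pair z l = 0) (hzZ : z ∉ Y.Z x l) (hw : D.pair w l = 0)
    (hwZ : w ∉ Y.Z x l) : ∃ g, D.act g x = x ∧ D.act' g l = l ∧ D.act g z = w := by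
  have aux : ∀ u : E, u ∉ Y.Z x l → ∃ μ ∈ Y.H'.S l x, D.pair u μ = 1 := by
    intro u hu
    rw [Y.mem_Z] at hu
    push Not at hu
    obtain ⟨μ, hμ, hμ1⟩ := hu
    exact ⟨μ, hμ, k2_eq_one hμ1⟩
  have hw' : Ind2 x w := ⟨h.1, fun e => hwZ (e ▸ zero_mem _),
    fun e => hwZ (e ▸ Y.self_mem_Z h)⟩
  obtain ⟨g, g1, g2, g3⟩ := Y.H'.S_dual (μ := z) (μ' := w) h.flip hz hw (aux z hzZ) (aux w hwZ)
  simp only [flip_act, flip_act'] at g1 g2 g3
  rcases g3 with g3 | g3
  · exact ⟨g, g2, g1, g3⟩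
  · obtain ⟨k, k1, k2, k3⟩ := Y.tt.line_mv hw' h.2.2 hw
    refine ⟨k * g, by rw [D.act_mul, g2, k1], by rw [D.act'_mul, g1, k3], ?_⟩
    rw [D.act_mul, g3, map_add, k2, k1, add_comm x w, add_add_cancel_right']

open scoped Classical in
theorem dichotomy (h : D.Inc x l) :
    Y.H.b < Y.H.a ∨ (Y.H.b = Y.H.a ∧
      (∀ y ∈ Y.H.S x l, Ind2 x y → 2 * Nat.card ↥(Y.Z x l ⊓ Y.Z y l) = Nat.card (Y.Z x l)) ∧
      ∀ z, D.pair z l = 0 → z ∉ Y.Z x l → Nat.card ↥(Y.H.S x l ⊓ Y.Z z l) = 2) := by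
  letI := Fintype.ofFinite E
  obtain ⟨n, hn4, hn, han⟩ := Y.exists_dim
  have hZc := fun {x : E} (hx : D.Inc x l) => Y.card_Z_eq hn (by omega) hx
  have hW := card_W (D := D) hn (by omega) h.2.1
  set W := D.flip.perp (Submodule.span K2 ({l} : Set E')) with hWdef
  have memW : ∀ z, z ∈ W ↔ D.pair z l = 0 := fun z => D.flip.mem_perp_one
  obtain ⟨y₀, hy₀, hxy₀⟩ := exists_ind2_mem h.1 (P := Y.H.S x l) (by
    rw [Y.H.cardS h]
    exact (show 4 = 2 ^ 2 by norm_num) ▸ Nat.pow_le_pow_right (by omega) Y.H.two_le_b)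
  obtain ⟨z₀, hz₀, hz₀'⟩ : ∃ z₀ ∈ W, z₀ ∉ Y.Z x l := by
    by_contra hne
    push Not at hne
    have h1 := Nat.card_mono (Set.toFinite _) (hne : (W : Set E) ⊆ Y.Z x l)
    simp only [SetLike.coe_sort_coe] at h1
    rw [hW, hZc h] at h1
    have := (Nat.pow_le_pow_iff_right one_lt_two).1 h1
    have := Y.three_le_a
    omega
  obtain ⟨r, hr⟩ := exists_pow (Y.Z x l ⊓ Y.Z y₀ l)
  obtain ⟨t, ht⟩ := exists_pow (Y.H.S x l ⊓ Y.Z z₀ l)
  have hi : ∀ {g : G} {a b : E}, D.act g a = b → D.act g⁻¹ b = a := fun h => h ▸ D.act_inv_act _ _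
  have hi' : ∀ {g : G} {a b : E'}, D.act' g a = b → D.act' g⁻¹ b = a :=
    fun h => h ▸ D.act'_inv_act _ _
  have hr' : ∀ y ∈ Y.H.S x l, Ind2 x y → Nat.card ↥(Y.Z x l ⊓ Y.Z y l) = 2 ^ r := by
    intro y hy hxy
    obtain ⟨g, g1, g2, g3⟩ := Y.H.S_trans h hy₀ hxy₀ hy hxy
    rw [← hr]
    symm
    refine Nat.card_congr (Equiv.subtypeEquiv (D.act g).toEquiv fun u => ?_)
    have hy₀' : D.Inc y₀ l := ⟨hxy₀.2.1, h.2.1, Y.H.S_perp h hy₀⟩
    constructor
    · rintro ⟨u1, u2⟩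
      have v1 := Y.Z_act g h u1
      have v2 := Y.Z_act g hy₀' u2
      rw [g1, g2] at v1
      rw [g3, g2] at v2
      exact ⟨v1, v2⟩
    · rintro ⟨u1, u2⟩
      have v1 := Y.Z_act g⁻¹ h u1
      have v2 := Y.Z_act g⁻¹ (⟨hxy.2.1, h.2.1, Y.H.S_perp h hy⟩) u2
      rw [hi g1, hi' g2] at v1
      rw [hi g3, hi' g2] at v2
      simp only [D.act_inv_act, LinearEquiv.coe_toEquiv] at v1 v2
      exact ⟨v1, v2⟩
  have ht' : ∀ z, D.pair z l = 0 → z ∉ Y.Z x l → Nat.card ↥(Y.H.S x l ⊓ Y.Z z l) = 2 ^ t := by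
    intro z hz hzZ
    obtain ⟨g, g1, g2, g3⟩ := Y.trans_out h ((memW _).1 hz₀) hz₀' hz hzZ
    rw [← ht]
    symm
    refine Nat.card_congr (Equiv.subtypeEquiv (D.act g).toEquiv fun u => ?_)
    have hz₀'' : D.Inc z₀ l := ⟨fun e => hz₀' (e ▸ zero_mem _), h.2.1, (memW _).1 hz₀⟩
    constructor
    · rintro ⟨u1, u2⟩
      have v1 := Y.H.S_act g h u1
      have v2 := Y.Z_act g hz₀'' u2
      rw [g1, g2] at v1
      rw [g3, g2] at v2
      exact ⟨v1, v2⟩
    · rintro ⟨u1, u2⟩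
      have v1 := Y.H.S_act g⁻¹ h u1
      have v2 := Y.Z_act g⁻¹ (⟨fun e => hzZ (by rw [e]; exact zero_mem _), h.2.1, hz⟩) u2
      rw [hi g1, hi' g2] at v1
      rw [hi g3, hi' g2] at v2
      simp only [D.act_inv_act, LinearEquiv.coe_toEquiv] at v1 v2
      exact ⟨v1, v2⟩
  let A : Finset E := Finset.univ.filter fun z => z ∈ W ∧ z ∉ Y.Z x l
  let O : Finset E := Finset.univ.filter fun y => y ∈ Y.H.S x l ∧ Ind2 x y
  have hcd : ∀ P Q : Submodule K2 E,
      (Finset.univ.filter fun u => u ∈ P ∧ u ∉ Q).card + Nat.card ↥(P ⊓ Q) = Nat.card P := by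
    intro P Q
    rw [Nat.card_eq_fintype_card, Nat.card_eq_fintype_card, Fintype.card_subtype,
      Fintype.card_subtype, ← Finset.card_union_of_disjoint]
    · congr 1; ext u; simp only [Finset.mem_union, Finset.mem_filter, Finset.mem_univ, true_and,
        Submodule.mem_inf]; tauto
    · simp only [Finset.disjoint_left, Finset.mem_filter, Finset.mem_univ, true_and,
        Submodule.mem_inf]; tauto
  have hA : A.card + 2 ^ (n - Y.H.a) = 2 ^ (n - 1) := by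
    have hle : Y.Z x l ≤ W := fun z hz => (memW z).2 (Y.Z_perp h hz)
    have := hcd W (Y.Z x l)
    rwa [inf_of_le_right hle, hW, hZc h] at this
  have hO : O.card + 2 = 2 ^ Y.H.b := by
    rw [← Y.H.cardS h, ← hcd (Y.H.S x l) (Submodule.span K2 {x}),
      inf_of_le_right ((Submodule.span_singleton_le_iff_mem _ _).2 (Y.H.memS h)),
      card_span_one h.1]
    congr 2
    ext u
    simp [O, ind2_iff h.1]
  have hsum : A.card * (2 ^ t - 1) = O.card * (2 ^ (n - Y.H.a) - 2 ^ r) := by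
    have := Finset.sum_card_bipartiteAbove_eq_sum_card_bipartiteBelow
      (fun z y => y ∈ Y.Z z l) (s := A) (t := O)
    rw [← smul_eq_mul, ← smul_eq_mul, ← Finset.sum_const, ← Finset.sum_const]
    refine Eq.trans (Finset.sum_congr rfl fun z hz => ?_) (this.trans
      (Finset.sum_congr rfl fun y hy => ?_))
    · simp only [A, Finset.mem_filter, Finset.mem_univ, true_and, memW] at hz
      have hz' : D.Inc z l := ⟨fun e => hz.2 (e ▸ zero_mem _), h.2.1, hz.1⟩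
      have e : (Finset.univ.filter fun u => u ∈ Y.H.S x l ⊓ Y.Z z l) =
          insert 0 (O.bipartiteAbove (fun z y => y ∈ Y.Z z l) z) := by
        ext u
        simp only [Finset.mem_filter, Finset.mem_univ, true_and, Submodule.mem_inf,
          Finset.mem_insert, Finset.mem_bipartiteAbove, O]
        constructor
        · rintro ⟨u1, u2⟩
          by_cases hu : u = 0
          · exact Or.inl hu
          · exact Or.inr ⟨⟨u1, h.1, hu, fun e => hz.2 (Y.Z_symm hz' h (e ▸ u2))⟩, u2⟩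
        · rintro (rfl | ⟨⟨u1, -⟩, u2⟩)
          · exact ⟨zero_mem _, zero_mem _⟩
          · exact ⟨u1, u2⟩
      rw [← ht' z hz.1 hz.2, Nat.card_eq_fintype_card, Fintype.card_subtype, e,
        Finset.card_insert_of_notMem (fun h0 => (Finset.mem_filter.1 (Finset.mem_bipartiteAbove _ |>.1 h0).1).2.2.2.1 rfl),
        Nat.add_sub_cancel]
    · simp only [O, Finset.mem_filter, Finset.mem_univ, true_and] at hy
      have hy' : D.Inc y l := ⟨hy.2.2.1, h.2.1, Y.H.S_perp h hy.1⟩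
      have e : A.bipartiteBelow (fun z y => y ∈ Y.Z z l) y =
          Finset.univ.filter fun u => u ∈ Y.Z y l ∧ u ∉ Y.Z x l := by
        ext u
        simp only [A, Finset.mem_bipartiteBelow, Finset.mem_filter, Finset.mem_univ, true_and, memW]
        constructor
        · rintro ⟨⟨u1, u2⟩, u3⟩
          exact ⟨Y.Z_symm ⟨fun e => u2 (e ▸ zero_mem _), h.2.1, u1⟩ hy' u3, u2⟩
        · rintro ⟨u1, u2⟩
          have hu : D.Inc u l := ⟨fun e => u2 (e ▸ zero_mem _), h.2.1, Y.Z_perp hy' u1⟩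
          exact ⟨⟨hu.2.2, u2⟩, Y.Z_symm hy' hu u1⟩
      have := hcd (Y.Z y l) (Y.Z x l)
      rw [← e, inf_comm, hr' y hy.1 hy.2, hZc hy'] at this
      omega
  have hrq : 2 ^ r ≤ 2 ^ (n - Y.H.a) := by
    rw [← hr, ← hZc h]
    exact Nat.card_mono (Set.toFinite _) (inf_le_left : Y.Z x l ⊓ Y.Z y₀ l ≤ Y.Z x l)
  have ha3 := Y.three_le_a
  have hb2 := Y.H.two_le_b
  have hAeq : A.card = 2 ^ (n - Y.H.a) * (2 ^ (Y.H.a - 1) - 1) := by
    rw [Nat.mul_sub, mul_one, ← pow_add, show n - Y.H.a + (Y.H.a - 1) = n - 1 by omega]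
    omega
  by_cases hrq' : r = n - Y.H.a
  · left
    subst hrq'
    rw [Nat.sub_self, mul_zero, hAeq] at hsum
    have hodd := odd_pow_sub_one (i := Y.H.a - 1) (by omega)
    have ht0 : t = 0 := by
      by_contra ht0
      have := odd_pow_sub_one ht0
      rcases mul_eq_zero.1 hsum with h1 | h1
      · rcases mul_eq_zero.1 h1 with h2 | h2
        · exact absurd h2 (by positivity)
        · rw [h2] at hodd; exact (Nat.not_odd_iff_even.2 ⟨0, rfl⟩) hodd
      · rw [h1] at this; exact (Nat.not_odd_iff_even.2 ⟨0, rfl⟩) this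
    subst ht0
    have hz₀i : D.Inc z₀ l := ⟨fun e => hz₀' (e ▸ zero_mem _), h.2.1, (memW _).1 hz₀⟩
    have hsup := card_sup_mul_inf (Y.H.S x l) (Y.Z z₀ l)
    rw [ht, pow_zero, mul_one, Y.H.cardS h, hZc hz₀i, ← pow_add] at hsup
    have hle := Nat.card_mono (Set.toFinite _) (sup_le (fun u hu => (memW u).2 (Y.H.S_perp h hu))
      (fun u hu => (memW u).2 (Y.Z_perp hz₀i hu)) : Y.H.S x l ⊔ Y.Z z₀ l ≤ W)
    simp only [SetLike.coe_sort_coe] at hle
    rw [hsup, hW] at hle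
    have := (Nat.pow_le_pow_iff_right one_lt_two).1 hle
    omega
  · right
    have hr2 : r < n - Y.H.a := by
      have := (Nat.pow_le_pow_iff_right one_lt_two).1 hrq
      omega
    have hOeq : O.card = 2 * (2 ^ (Y.H.b - 1) - 1) := by
      rw [Nat.mul_sub, ← pow_succ', show Y.H.b - 1 + 1 = Y.H.b by omega]
      omega
    have hd : 2 ^ (n - Y.H.a) - 2 ^ r = 2 ^ r * (2 ^ (n - Y.H.a - r) - 1) := by
      rw [Nat.mul_sub, mul_one, ← pow_add, show r + (n - Y.H.a - r) = n - Y.H.a by omega]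
    rw [hAeq, hOeq, hd] at hsum
    have o1 := odd_pow_sub_one (i := Y.H.a - 1) (by omega)
    have o2 := odd_pow_sub_one (i := Y.H.b - 1) (by omega)
    have o3 := odd_pow_sub_one (i := n - Y.H.a - r) (by omega)
    have ht0 : t ≠ 0 := by
      rintro rfl
      simp only [pow_zero, Nat.sub_self, mul_zero] at hsum
      exact Nat.mul_ne_zero (Nat.mul_ne_zero two_ne_zero o2.pos.ne')
        (Nat.mul_ne_zero (pow_ne_zero _ two_ne_zero) o3.pos.ne') hsum.symm
    obtain ⟨e1, e2⟩ := two_pow_odd_inj (i := n - Y.H.a) (j := r + 1)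
      (o1.mul (odd_pow_sub_one ht0)) (o2.mul o3) (by rw [← mul_assoc, hsum, pow_succ]; ring)
    rw [show n - Y.H.a - r = 1 by omega] at e2
    simp only [pow_one, Nat.add_one_sub_one, mul_one] at e2
    obtain ⟨rfl, hj⟩ := mersenne_mul (by omega) ht0 (by omega) e2
    refine ⟨by omega, fun y hy hxy => ?_, fun z hz hzZ => by rw [ht' z hz hzZ]; norm_num⟩
    rw [hr' y hy hxy, hZc h, ← pow_succ', ← e1]

theorem b_eq : Y.H.b = Y.H.a := by
  obtain ⟨x, l, h⟩ := Y.exists_flag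
  rcases Y.dichotomy h with h1 | h1
  · rcases Y.flip.dichotomy h.flip with h2 | h2
    · have e1 : Y.flip.H.b = Y.H.a := Y.b'_eq
      have e2 : Y.flip.H.a = Y.H.b := Y.a'_eq
      omega
    · have e1 : Y.flip.H.b = Y.H.a := Y.b'_eq
      have e2 : Y.flip.H.a = Y.H.b := Y.a'_eq
      omega
  · exact h1.1

lemma card_S (h : D.Inc x l) : Nat.card (Y.H.S x l) = 2 ^ Y.H.a := by rw [Y.H.cardS h, Y.b_eq]

lemma card_Z_inf (h : D.Inc x l) (hy : y ∈ Y.H.S x l) (hxy : Ind2 x y) :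
    2 * Nat.card ↥(Y.Z x l ⊓ Y.Z y l) = Nat.card (Y.Z x l) :=
  ((Y.dichotomy h).resolve_left (by rw [Y.b_eq]; exact lt_irrefl _)).2.1 y hy hxy

lemma card_S_inf (h : D.Inc x l) (hz : D.pair z l = 0) (hzZ : z ∉ Y.Z x l) :
    Nat.card ↥(Y.H.S x l ⊓ Y.Z z l) = 2 :=
  ((Y.dichotomy h).resolve_left (by rw [Y.b_eq]; exact lt_irrefl _)).2.2 z hz hzZ

end Sys
end Duo

end CfsgLib.LinTwo
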