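import Cfsg.Agent.Lib.LinTwo.LineOrbit

/-!
# The quotient pair at a point and the hyperplane pair
-/

namespace CfsgLib.LinTwo

variable {G E E' : Type*} [Group G] [AddCommGroup E] [Module K2 E] [AddCommGroup E'] [Module K2 E']

namespace Duo

variable (D : Duo G E E')

lemma map_span_stab {x : E} {g : G} (hg : D.act g x = x) :
    (Submodule.span K2 ({x} : Set E)).map (D.act g).toLinearMap = Submodule.span K2 {x} := by
  rw [Submodule.map_span]
  simp [hg]

lemma mem_perp_one {x : E} {l : E'} :
    l ∈ D.perp (Submodule.span K2 ({x} : Set E)) ↔ D.pair x l = 0 := by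
  refine ⟨fun h => h x (Submodule.mem_span_singleton_self x), fun h p hp => ?_⟩
  rcases mem_span_one.1 hp with rfl | rfl
  · simp
  · exact h

lemma act_perp {x : E} {g : G} (hg : D.act g x = x) {l : E'}
    (hl : l ∈ D.perp (Submodule.span K2 ({x} : Set E))) :
    D.act' g l ∈ D.perp (Submodule.span K2 ({x} : Set E)) := by
  rw [mem_perp_one] at hl ⊢
  rw [← hg, D.inv, hl]

/-- The action of the stabiliser of `x` on the quotient by `x`. -/
def quotAct (x : E) : D.stab x →* ((E ⧸ Submodule.span K2 ({x} : Set E)) ≃ₗ[K2]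
    (E ⧸ Submodule.span K2 ({x} : Set E))) where
  toFun g := Submodule.Quotient.equiv _ _ (D.act g.1) (D.map_span_stab g.2)
  map_one' := by
    ext q
    induction q using Submodule.Quotient.induction_on with
    | H z => simp
  map_mul' g h := by
    ext q
    induction q using Submodule.Quotient.induction_on with
    | H z => simp

/-- The action of the stabiliser of `x` on the functionals vanishing at `x`. -/
def perpAct (x : E) : D.stab x →* ((D.perp (Submodule.span K2 ({x} : Set E))) ≃ₗ[K2]
    (D.perp (Submodule.span K2 ({x} : Set E)))) where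
  toFun g :=
    { toFun := fun l => ⟨D.act' g.1 l.1, D.act_perp g.2 l.2⟩
      invFun := fun l => ⟨D.act' (g⁻¹).1 l.1, D.act_perp (g⁻¹).2 l.2⟩
      map_add' := fun a b => Subtype.ext (map_add (D.act' g.1) a.1 b.1)
      map_smul' := fun c a => Subtype.ext (map_smul (D.act' g.1) c a.1)
      left_inv := fun a => Subtype.ext (D.act'_inv_act g.1 a.1)
      right_inv := fun a => Subtype.ext (D.act'_act_inv g.1 a.1) }
  map_one' := LinearEquiv.ext fun a => Subtype.ext (D.act'_one a.1)
  map_mul' g h := LinearEquiv.ext fun a => Subtype.ext (D.act'_mul g.1 h.1 a.1)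

variable [Finite E] [Finite E']

/-- The pair (quotient by `x`, functionals vanishing at `x`). -/
def quot (x : E) : Duo (D.stab x) (E ⧸ Submodule.span K2 ({x} : Set E))
    (D.perp (Submodule.span K2 ({x} : Set E))) where
  act := D.quotAct x
  act' := D.perpAct x
  pair := (Submodule.span K2 ({x} : Set E)).liftQ
    ((D.pair.flip.domRestrict (D.perp (Submodule.span K2 ({x} : Set E)))).flip) (by
      intro p hp
      rw [LinearMap.mem_ker]
      refine LinearMap.ext fun l => ?_
      exact l.2 p hp)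
  inv g q l := by
    induction q using Submodule.Quotient.induction_on with
    | H z => exact D.inv g.1 z l.1
  nd q h := by
    induction q using Submodule.Quotient.induction_on with
    | H z =>
      rw [Submodule.Quotient.mk_eq_zero]
      by_contra hz
      obtain ⟨l, hl, hlz⟩ := D.exists_fun hz
      exact zero_ne_one ((h ⟨l, hl⟩).symm.trans hlz)
  nd' l h := Subtype.ext (D.nd' l.1 fun z => h (Submodule.Quotient.mk z))

lemma quot_pair (x z : E) (l : D.perp (Submodule.span K2 ({x} : Set E))) :
    (D.quot x).pair (Submodule.Quotient.mk z) l = D.pair z l.1 := rfl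

lemma quot_act (x z : E) (g : D.stab x) :
    (D.quot x).act g (Submodule.Quotient.mk z) = Submodule.Quotient.mk (D.act g.1 z) := rfl

lemma mk_eq_mk_iff {x a b : E} :
    (Submodule.Quotient.mk a : E ⧸ Submodule.span K2 ({x} : Set E)) = Submodule.Quotient.mk b ↔
      a = b ∨ a = b + x := by
  rw [Submodule.Quotient.eq, sub_eq_add', mem_span_one, add_eq_zero_iff_eq']
  refine or_congr_right ⟨fun h => ?_, fun h => ?_⟩
  · rw [← h, add_comm a b, add_add_cancel_left']
  · rw [h, add_comm b x, add_add_cancel_right']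

lemma mk_eq_zero' {x a : E} :
    (Submodule.Quotient.mk a : E ⧸ Submodule.span K2 ({x} : Set E)) = 0 ↔ a = 0 ∨ a = x := by
  rw [Submodule.Quotient.mk_eq_zero, mem_span_one]

lemma ind2_mk {x a b : E} (hx : x ≠ 0) :
    Ind2 (Submodule.Quotient.mk a : E ⧸ Submodule.span K2 ({x} : Set E)) (Submodule.Quotient.mk b) ↔
      Ind3 x a b := by
  simp only [Ind2, ne_eq, mk_eq_zero', mk_eq_mk_iff, not_or]
  constructor
  · rintro ⟨⟨a0, ax⟩, ⟨b0, bx⟩, ab, abx⟩
    exact ⟨hx, a0, b0, Ne.symm ax, Ne.symm bx, ab, fun h => abx (by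
      rw [← h, add_comm x a, add_add_cancel_right'])⟩
  · rintro ⟨-, a0, b0, xa, xb, ab, xab⟩
    exact ⟨⟨a0, Ne.symm xa⟩, ⟨b0, Ne.symm xb⟩, ab, fun h => xab (by
      rw [h, add_comm b x, add_add_cancel_left'])⟩

variable {D}
variable [Finite G] (hD : D.TT)
include hD

lemma TT.quot_anti (h16 : 16 ≤ Nat.card E) {x : E} (hx : x ≠ 0) : (D.quot x).Anti where
  af q l l' hl hl' := by
    induction q using Submodule.Quotient.induction_on with
    | H z =>
      rw [D.quot_pair] at hl hl'
      have hz : Ind2 x z := (ind2_iff hx).2 fun h => by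
        rw [l.2 z h] at hl; exact zero_ne_one hl
      obtain ⟨g, g1, g2, g3⟩ := hD.trace01 hz (D.mem_perp_one.1 l.2) (D.mem_perp_one.1 l'.2) hl hl'
      exact ⟨⟨g, g1⟩, congrArg Submodule.Quotient.mk g2, Subtype.ext g3⟩
  mv p q h := by
    induction p using Submodule.Quotient.induction_on with
    | H a =>
      induction q using Submodule.Quotient.induction_on with
      | H b =>
        obtain ⟨g, g1, g2, g3⟩ := hD.colour ((ind2_mk hx).1 h)
        exact ⟨⟨g, g1⟩, congrArg Submodule.Quotient.mk g2,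
          (congrArg Submodule.Quotient.mk g3).trans (by rw [add_comm b a]; rfl)⟩
  sw p q h := by
    induction p using Submodule.Quotient.induction_on with
    | H a =>
      induction q using Submodule.Quotient.induction_on with
      | H b =>
        obtain ⟨g, g1, g2, g3⟩ := hD.swap ((ind2_mk hx).1 h)
        exact ⟨⟨g, g1⟩, congrArg Submodule.Quotient.mk g2, congrArg Submodule.Quotient.mk g3⟩
  big := by
    have h := Submodule.card_eq_card_quotient_mul_card (Submodule.span K2 ({x} : Set E))
    rw [card_span_one hx] at h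
    have := hD.big
    omega

/-- A permutation of a line extends to an element fixing a given functional vanishing on it. -/
lemma TT.line_dual {x y a b : E} {l : E'} (h : Ind2 x y) (hab : Ind2 a b)
    (ha : a ∈ Submodule.span K2 ({x, y} : Set E)) (hb : b ∈ Submodule.span K2 ({x, y} : Set E))
    (hxl : D.pair x l = 0) (hyl : D.pair y l = 0)
    (hw : ∀ w, Ind3 x y w → ∃ g, D.act g x = a ∧ D.act g y = b ∧ D.act g w = w) :
    ∃ g, D.act g x = a ∧ D.act g y = b ∧ D.act' g l = l := by
  classical
  letI := Fintype.ofFinite E'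
  obtain ⟨g, g1, g2⟩ := hD.tt x y a b h hab
  have hfix : ∀ k, D.act k x = x → D.act k y = y →
      ∀ p ∈ Submodule.span K2 ({x, y} : Set E), D.act k p = p := by
    intro k k1 k2 p hp
    rcases mem_span_two.1 hp with rfl | rfl | rfl | rfl <;> simp [k1, k2]
  have hgL : ∀ p ∈ Submodule.span K2 ({x, y} : Set E),
      D.act g p ∈ Submodule.span K2 ({x, y} : Set E) := by
    intro p hp
    rcases mem_span_two.1 hp with rfl | rfl | rfl | rfl
    · simp
    · rw [g1]; exact ha
    · rw [g2]; exact hb
    · rw [map_add, g1, g2]; exact add_mem ha hb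
  let K := D.stab x ⊓ D.stab y
  let f : E' → ℤ := fun m => if ∃ k ∈ K, D.act' k l = m then 1 else 0
  have hf : ∀ k ∈ K, ∀ m, f (D.act' k m) = f m := by
    intro k hk m
    simp only [f]
    refine if_congr ⟨?_, ?_⟩ rfl rfl
    · rintro ⟨c, hc, e⟩
      exact ⟨k⁻¹ * c, K.mul_mem (K.inv_mem hk) hc, by rw [D.act'_mul, e, D.act'_inv_act]⟩
    · rintro ⟨c, hc, rfl⟩
      exact ⟨k * c, K.mul_mem hk hc, D.act'_mul k c l⟩
  have hzero : ∀ p ∈ Submodule.span K2 ({x, y} : Set E), D.hat f p = ∑ m, f m := by
    intro p hp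
    rw [hat_eq]
    refine Finset.sum_congr rfl fun m _ => ?_
    simp only [f]
    split
    · next hm =>
      obtain ⟨k, ⟨k1, k2⟩, rfl⟩ := hm
      conv_lhs => rw [← hfix k k1 k2 p hp, D.inv]
      rcases mem_span_two.1 hp with rfl | rfl | rfl | rfl <;>
        simp [hxl, hyl, sgn_zero]
    · simp
  have hinv : ∀ z, D.hat f (D.act g z) = D.hat f z := by
    intro z
    by_cases hz : z ∈ Submodule.span K2 ({x, y} : Set E)
    · rw [hzero _ (hgL z hz), hzero _ hz]
    · have hgz : D.act g z ∉ Submodule.span K2 ({x, y} : Set E) := by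
        intro hh
        -- `g` permutes the finite set `span {x, y}`
        have hsurj : Set.SurjOn (D.act g) (Submodule.span K2 ({x, y} : Set E))
            (Submodule.span K2 ({x, y} : Set E)) :=
          (((Set.toFinite _).injOn_iff_bijOn_of_mapsTo (fun p hp => hgL p hp)).1
            (D.act g).injective.injOn).surjOn
        obtain ⟨p, hp, hpz⟩ := hsurj hh
        exact hz ((D.act g).injective hpz ▸ hp)
      obtain ⟨h₁, e1, e2, e3⟩ := hw _ ((ind3_iff h).2 hgz)
      have hk : h₁⁻¹ * g ∈ K := ⟨by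
        show D.act (h₁⁻¹ * g) x = x
        rw [D.act_mul, g1, ← e1, D.act_inv_act], by
        show D.act (h₁⁻¹ * g) y = y
        rw [D.act_mul, g2, ← e2, D.act_inv_act]⟩
      have hkz : D.act (h₁⁻¹ * g) z = D.act g z := by
        rw [D.act_mul]
        conv_lhs => rw [← e3]
        rw [D.act_inv_act]
      rw [← hkz]
      exact D.hat_act f _ (hf _ hk) z
  have h1 : f (D.act' g l) = 1 := by
    rw [D.inv_of_hat f g hinv l]
    exact if_pos ⟨1, K.one_mem, D.act'_one l⟩
  obtain ⟨k, hk, hkl⟩ : ∃ k ∈ K, D.act' k l = D.act' g l := by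
    by_contra hne
    rw [show f (D.act' g l) = 0 from if_neg hne] at h1
    exact zero_ne_one h1
  refine ⟨k⁻¹ * g, ?_, ?_, ?_⟩
  · rw [D.act_mul, g1]
    conv_lhs => rw [← hfix k hk.1 hk.2 a ha]
    rw [D.act_inv_act]
  · rw [D.act_mul, g2]
    conv_lhs => rw [← hfix k hk.1 hk.2 b hb]
    rw [D.act_inv_act]
  · rw [D.act'_mul, ← hkl, D.act'_inv_act]

lemma TT.line_mv {x y : E} {l : E'} (h : Ind2 x y) (hxl : D.pair x l = 0) (hyl : D.pair y l = 0) :
    ∃ g, D.act g x = x ∧ D.act g y = x + y ∧ D.act' g l = l := by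
  refine hD.line_dual h h.add_right (Submodule.subset_span (by simp))
    (add_mem (Submodule.subset_span (by simp)) (Submodule.subset_span (by simp))) hxl hyl
    fun w hw => ?_
  obtain ⟨g, g1, g2, g3⟩ := hD.colour hw.swap23.swap12
  exact ⟨g, g2, by rw [g3, add_comm], g1⟩

lemma TT.line_sw {x y : E} {l : E'} (h : Ind2 x y) (hxl : D.pair x l = 0) (hyl : D.pair y l = 0) :
    ∃ g, D.act g x = y ∧ D.act g y = x ∧ D.act' g l = l := by
  refine hD.line_dual h h.symm (Submodule.subset_span (by simp)) (Submodule.subset_span (by simp))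
    hxl hyl fun w hw => ?_
  obtain ⟨g, g1, g2, g3⟩ := hD.swap hw.swap23.swap12
  exact ⟨g, g2, g3, g1⟩

lemma TT.hyper_anti (h16 : 16 ≤ Nat.card E) {l : E'} (hl : l ≠ 0) : (D.flip.quot l).flip.Anti where
  af z q q' hq hq' := by
    induction q using Submodule.Quotient.induction_on with
    | H m =>
      induction q' using Submodule.Quotient.induction_on with
      | H m' =>
        have h1 : D.pair z.1 m = 1 := hq
        have h2 : D.pair z.1 m' = 1 := hq'
        have hz : z.1 ≠ 0 := by intro h; rw [h] at h1; simp at h1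
        obtain ⟨g, g1, g2, g3⟩ := hD.flip.affine (x := l) (l := z.1) hl hz
          (D.flip.mem_perp_one.1 z.2) (z := m) (z' := m') h1 h2
        exact ⟨⟨g, g1⟩, Subtype.ext g2, congrArg Submodule.Quotient.mk g3⟩
  mv p q h := by
    obtain ⟨g, g1, g2, g3⟩ := hD.line_mv (x := p.1) (y := q.1) (l := l)
      ⟨fun e => h.1 (Subtype.ext e), fun e => h.2.1 (Subtype.ext e),
        fun e => h.2.2 (Subtype.ext e)⟩ (D.flip.mem_perp_one.1 p.2) (D.flip.mem_perp_one.1 q.2)
    exact ⟨⟨g, g3⟩, Subtype.ext g1, Subtype.ext g2⟩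
  sw p q h := by
    obtain ⟨g, g1, g2, g3⟩ := hD.line_sw (x := p.1) (y := q.1) (l := l)
      ⟨fun e => h.1 (Subtype.ext e), fun e => h.2.1 (Subtype.ext e),
        fun e => h.2.2 (Subtype.ext e)⟩ (D.flip.mem_perp_one.1 p.2) (D.flip.mem_perp_one.1 q.2)
    exact ⟨⟨g, g3⟩, Subtype.ext g1, Subtype.ext g2⟩
  big := by
    have h := D.flip.card_perp (Submodule.span K2 ({l} : Set E'))
    rw [card_span_one hl, D.card_eq] at h
    have := hD.big
    omega

end Duo

end CfsgLib.LinTwo
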