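import Cfsg.Agent.Lib.LinTwo.Derived

/-!
# The invariant subspaces attached to a line and to a flag
-/

namespace CfsgLib.LinTwo

variable {G E E' : Type*} [Group G] [AddCommGroup E] [Module K2 E] [AddCommGroup E'] [Module K2 E']

namespace Duo

/-- A point and a nonzero functional vanishing at it. -/
def Inc (D : Duo G E E') (x : E) (l : E') : Prop := x ≠ 0 ∧ l ≠ 0 ∧ D.pair x l = 0

lemma Inc.flip {D : Duo G E E'} {x : E} {l : E'} (h : D.Inc x l) : D.flip.Inc l x :=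
  ⟨h.2.1, h.1, h.2.2⟩

lemma inc_act {D : Duo G E E'} {x : E} {l : E'} (h : D.Inc x l) (g : G) :
    D.Inc (D.act g x) (D.act' g l) :=
  ⟨by simpa using h.1, by simpa using h.2.1, by rw [D.inv]; exact h.2.2⟩

/-- Hypothetical failure of transitivity on planes. -/
def TwoPlanes (D : Duo G E E') : Prop :=
  ¬ ∀ x y z z', Ind3 x y z → Ind3 x y z' → ∃ g, D.act g x = x ∧ D.act g y = y ∧ D.act g z = z'

/-- The invariant subspace `U x y` attached to a line and `S x l` attached to a flag. -/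
structure Half (D : Duo G E E') where
  a : ℕ
  b : ℕ
  U : E → E → Submodule K2 E
  S : E → E' → Submodule K2 E
  two_le_a : 2 ≤ a
  two_le_b : 2 ≤ b
  cardU : ∀ {x y}, Ind2 x y → Nat.card (U x y) = 2 ^ (a + 1)
  memU_left : ∀ {x y}, Ind2 x y → x ∈ U x y
  memU_right : ∀ {x y}, Ind2 x y → y ∈ U x y
  U_comm : ∀ {x y}, Ind2 x y → U y x = U x y
  U_add : ∀ {x y}, Ind2 x y → U x (x + y) = U x y
  U_sym : ∀ {x y z}, Ind3 x y z → z ∈ U x y → y ∈ U x z
  U_ne_top : ∀ {x y}, Ind2 x y → U x y ≠ ⊤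
  U_act : ∀ {x y} (g : G), Ind2 x y → ∀ {z}, z ∈ U x y → D.act g z ∈ U (D.act g x) (D.act g y)
  U_trans : ∀ {x y} {l l' : E'}, Ind2 x y → D.pair x l = 0 → D.pair y l = 0 → D.pair x l' = 0 →
    D.pair y l' = 0 → (∃ p ∈ U x y, D.pair p l = 1) → (∃ p ∈ U x y, D.pair p l' = 1) →
    ∃ g, D.act g x = x ∧ (D.act g y = y ∨ D.act g y = y + x) ∧ D.act' g l = l'
  cardS : ∀ {x l}, D.Inc x l → Nat.card (S x l) = 2 ^ b
  memS : ∀ {x l}, D.Inc x l → x ∈ S x l
  S_perp : ∀ {x l}, D.Inc x l → ∀ {z}, z ∈ S x l → D.pair z l = 0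
  S_act : ∀ {x l} (g : G), D.Inc x l → ∀ {z}, z ∈ S x l → D.act g z ∈ S (D.act g x) (D.act' g l)
  S_trans : ∀ {x l y y'}, D.Inc x l → y ∈ S x l → Ind2 x y → y' ∈ S x l → Ind2 x y' →
    ∃ g, D.act g x = x ∧ D.act' g l = l ∧ D.act g y = y'
  S_min : ∀ {x l} (P : Submodule K2 E), D.Inc x l → (∀ p ∈ P, D.pair p l = 0) → x ∈ P →
    (∀ g, D.act g x = x → D.act' g l = l → ∀ p ∈ P, D.act g p ∈ P) → (∃ p ∈ P, Ind2 x p) →
    S x l ≤ P
  S_dual : ∀ {x l} {μ μ' : E'}, D.Inc x l → D.pair x μ = 0 → D.pair x μ' = 0 →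
    (∃ p ∈ S x l, D.pair p μ = 1) → (∃ p ∈ S x l, D.pair p μ' = 1) →
    ∃ g, D.act g x = x ∧ D.act' g l = l ∧ (D.act' g μ = μ' ∨ D.act' g μ = μ' + l)

variable [Finite G] [Finite E] [Finite E'] {D : Duo G E E'}

lemma TT.inc_trans (hD : D.TT) {x x' : E} {l l' : E'} (h : D.Inc x l) (h' : D.Inc x' l') :
    ∃ g, D.act g x = x' ∧ D.act' g l = l' := by
  obtain ⟨g, hg⟩ := hD.point h.1 h'.1
  obtain ⟨k, hk, hk'⟩ := hD.fix_point (l := D.act' g l) h'.1 (by simpa using h.2.1) h'.2.1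
    (by rw [← hg, D.inv, h.2.2, hg, h'.2.2])
  exact ⟨k * g, by rw [D.act_mul, hg, hk], by rw [D.act'_mul, hk']⟩

lemma TT.exists_half (hD : D.TT) (h16 : 16 ≤ Nat.card E) (hne : D.TwoPlanes) : Nonempty D.Half := by
  classical
  obtain ⟨x₀, hx₀⟩ := exists_not_mem_of_card (P := (⊥ : Submodule K2 E)) (by
    have h : Nat.card (⊥ : Submodule K2 E) = 1 := Nat.card_unique
    have := hD.big
    omega)
  rw [Submodule.mem_bot] at hx₀
  haveI : Finite (E ⧸ Submodule.span K2 ({x₀} : Set E)) :=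
    Finite.of_surjective _ (Submodule.Quotient.mk_surjective _)
  obtain ⟨yq, hyq⟩ := exists_not_mem_of_card
    (P := (⊥ : Submodule K2 (E ⧸ Submodule.span K2 ({x₀} : Set E)))) (by
    have h : Nat.card (⊥ : Submodule K2 (E ⧸ Submodule.span K2 ({x₀} : Set E))) = 1 :=
      Nat.card_unique
    have := (hD.quot_anti h16 hx₀).big
    omega)
  rw [Submodule.mem_bot] at hyq
  obtain ⟨y₀, rfl⟩ := Submodule.Quotient.mk_surjective _ yq
  rw [mk_eq_zero', not_or] at hyq
  have h₀ : Ind2 x₀ y₀ := ⟨hx₀, hyq.1, Ne.symm hyq.2⟩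
  obtain ⟨q, hq, Sq, s, hs2, hScard, hSmem, hStr, -⟩ :=
    (hD.quot_anti h16 hx₀).exists_span (x := Submodule.Quotient.mk y₀)
      (by rw [ne_eq, mk_eq_zero', not_or]; exact hyq)
  obtain ⟨z₀, rfl⟩ := Submodule.Quotient.mk_surjective _ q
  have h3 : Ind3 x₀ y₀ z₀ := (ind2_mk hx₀).1 hq
  let U₀ : Submodule K2 E := Sq.comap (Submodule.span K2 ({x₀} : Set E)).mkQ
  have hU₀ : ∀ z, z ∈ U₀ ↔ z ∈ Submodule.span K2 ({x₀, y₀} : Set E) ∨
      ∃ k, D.act k x₀ = x₀ ∧ D.act k y₀ = y₀ ∧ D.act k z₀ = z := by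
    intro z
    simp only [U₀, Submodule.mem_comap, Submodule.mkQ_apply, hSmem]
    constructor
    · rintro (h | h | ⟨⟨k, hk⟩, hky, hkz⟩)
      · left
        rcases mk_eq_zero'.1 h with rfl | rfl
        · simp
        · exact Submodule.subset_span (by simp)
      · left
        rcases mk_eq_mk_iff.1 h with rfl | rfl
        · exact Submodule.subset_span (by simp)
        · exact add_mem (Submodule.subset_span (by simp)) (Submodule.subset_span (by simp))
      · right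
        rw [quot_act, mk_eq_mk_iff] at hky hkz
        -- correct `k` on `y₀` and then on `z₀`
        obtain ⟨k₁, a1, a2, a3⟩ : ∃ k₁, D.act k₁ x₀ = x₀ ∧ D.act k₁ y₀ = y₀ ∧
            (D.act k₁ z₀ = D.act k z₀) := by
          rcases hky with hky | hky
          · exact ⟨k, hk, hky, rfl⟩
          · have h' : Ind3 x₀ (y₀ + x₀) (D.act k z₀) := by
              have := D.ind3_act h3 k
              rwa [show D.act k x₀ = x₀ from hk, show D.act k y₀ = y₀ + x₀ from hky] at this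
            obtain ⟨g, g1, g2, g3⟩ := hD.colour' h'.swap23
            refine ⟨g * k, by rw [D.act_mul, show D.act k x₀ = x₀ from hk, g1], ?_, ?_⟩
            · rw [D.act_mul, show D.act k y₀ = y₀ + x₀ from hky, g3, add_add_cancel_right']
            · rw [D.act_mul, g2]
        rcases hkz with hkz | hkz
        · exact ⟨k₁, a1, a2, a3.trans hkz⟩
        · have h' : Ind3 x₀ y₀ (D.act k₁ z₀) := by
            have := D.ind3_act h3 k₁
            rwa [a1, a2] at this
          obtain ⟨g, g1, g2, g3⟩ := hD.colour' h'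
          refine ⟨g * k₁, by rw [D.act_mul, a1, g1], by rw [D.act_mul, a2, g2], ?_⟩
          rw [D.act_mul, g3, a3, show D.act k z₀ = z + x₀ from hkz, add_add_cancel_right']
    · rintro (h | ⟨k, hk, hky, rfl⟩)
      · rcases mem_span_two.1 h with h | h | h | h <;> subst h
        · exact Or.inl (by simp)
        · exact Or.inl (mk_eq_zero'.2 (Or.inr rfl))
        · exact Or.inr (Or.inl rfl)
        · exact Or.inr (Or.inl (mk_eq_mk_iff.2 (Or.inr (add_comm _ _))))
      · exact Or.inr (Or.inr ⟨⟨k, hk⟩, congrArg Submodule.Quotient.mk hky, rfl⟩)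
  have hU₀card : Nat.card U₀ = 2 ^ (s + 1) := by
    let π : U₀ →ₗ[K2] Sq :=
      ((Submodule.span K2 ({x₀} : Set E)).mkQ.comp U₀.subtype).codRestrict Sq fun c => c.2
    have hπ : Function.Surjective π := by
      rintro ⟨c, hc⟩
      obtain ⟨z, rfl⟩ := Submodule.Quotient.mk_surjective _ c
      exact ⟨⟨z, hc⟩, rfl⟩
    have hker : Nat.card (LinearMap.ker π) = 2 := by
      refine (Nat.card_congr (β := Submodule.span K2 ({x₀} : Set E)) ⟨fun c => ⟨c.1.1, (Submodule.Quotient.mk_eq_zero _).1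
          (congrArg Subtype.val c.2)⟩,
        fun c => ⟨⟨c.1, by
          show Submodule.Quotient.mk c.1 ∈ Sq
          rw [(Submodule.Quotient.mk_eq_zero _).2 c.2]
          exact Sq.zero_mem⟩, Subtype.ext ((Submodule.Quotient.mk_eq_zero _).2 c.2)⟩,
        fun c => rfl, fun c => rfl⟩).trans (card_span_one hx₀)
    have h := Submodule.card_eq_card_quotient_mul_card (LinearMap.ker π)
    rw [Nat.card_congr (LinearMap.quotKerEquivOfSurjective π hπ).toEquiv, hker, hScard] at h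
    rw [h, pow_succ, mul_comm]
  -- transport to all lines
  let U : E → E → Submodule K2 E := fun x y =>
    if h : Ind2 x y then U₀.map (D.act (hD.tt x₀ y₀ x y h₀ h).choose).toLinearMap else ⊥
  have hU : ∀ {x y}, Ind2 x y → ∀ {z}, z ∈ U x y ↔ z ∈ Submodule.span K2 ({x, y} : Set E) ∨
      ∃ k, D.act k x₀ = x ∧ D.act k y₀ = y ∧ D.act k z₀ = z := by
    intro x y h z
    obtain ⟨g1, g2⟩ := (hD.tt x₀ y₀ x y h₀ h).choose_spec
    revert g1 g2
    simp only [U, dif_pos h]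
    generalize (hD.tt x₀ y₀ x y h₀ h).choose = g
    intro g1 g2
    simp only [Submodule.mem_map, LinearEquiv.coe_coe, hU₀]
    constructor
    · rintro ⟨w, (hw | ⟨k, k1, k2, rfl⟩), rfl⟩
      · left
        rcases mem_span_two.1 hw with rfl | rfl | rfl | rfl <;>
          simp [g1, g2, mem_span_two]
      · exact Or.inr ⟨g * k, by rw [D.act_mul, k1, g1], by rw [D.act_mul, k2, g2],
          D.act_mul g k z₀⟩
    · rintro (hz | ⟨k, k1, k2, rfl⟩)
      · refine ⟨D.act g⁻¹ z, Or.inl ?_, D.act_act_inv g z⟩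
        rcases mem_span_two.1 hz with rfl | rfl | rfl | rfl
        · simp
        · rw [← g1, D.act_inv_act]; exact Submodule.subset_span (by simp)
        · rw [← g2, D.act_inv_act]; exact Submodule.subset_span (by simp)
        · rw [← g1, ← g2, ← map_add, D.act_inv_act]
          exact add_mem (Submodule.subset_span (by simp)) (Submodule.subset_span (by simp))
      · exact ⟨D.act g⁻¹ (D.act k z₀), Or.inr ⟨g⁻¹ * k,
          by rw [D.act_mul, k1, ← g1, D.act_inv_act],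
          by rw [D.act_mul, k2, ← g2, D.act_inv_act], D.act_mul _ _ _⟩, D.act_act_inv _ _⟩
  have hUcard : ∀ {x y}, Ind2 x y → Nat.card (U x y) = 2 ^ (s + 1) := by
    intro x y h
    simp only [U, dif_pos h]
    rw [← hU₀card]
    exact Nat.card_congr (Submodule.equivMapOfInjective _ (LinearEquiv.injective _) U₀).symm.toEquiv
  -- flags
  obtain ⟨l₁, hl₁, -⟩ : ∃ l₁, D.pair x₀ l₁ = 0 ∧ D.pair y₀ l₁ = 1 := by
    obtain ⟨l, hl, hl'⟩ := D.exists_fun ((ind2_iff hx₀).1 h₀)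
    exact ⟨l, hl x₀ (Submodule.mem_span_singleton_self x₀), hl'⟩
  obtain ⟨l₁, hl₁0, hl₁⟩ : ∃ l₁ : E', l₁ ≠ 0 ∧ D.pair x₀ l₁ = 0 := by
    obtain ⟨l, hl, hl'⟩ := D.exists_fun ((ind2_iff hx₀).1 h₀)
    exact ⟨l, fun h => by simp [h] at hl', hl x₀ (Submodule.mem_span_singleton_self x₀)⟩
  have hinc : D.Inc x₀ l₁ := ⟨hx₀, hl₁0, hl₁⟩
  let W := D.flip.perp (Submodule.span K2 ({l₁} : Set E'))
  let x₁ : W := ⟨x₀, D.flip.mem_perp_one.2 hl₁⟩
  haveI : Finite (E' ⧸ Submodule.span K2 ({l₁} : Set E')) :=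
    Finite.of_surjective _ (Submodule.Quotient.mk_surjective _)
  obtain ⟨⟨y₁, hy₁W⟩, hy₁, S₁, t, ht2, hS₁card, hS₁mem, hS₁tr, hS₁min⟩ :=
    (hD.hyper_anti h16 hl₁0).exists_span (x := x₁) (fun h => hx₀ (congrArg Subtype.val h))
  let S₀ : Submodule K2 E := S₁.map W.subtype
  have hS₀ : ∀ z, z ∈ S₀ ↔ z = 0 ∨ z = x₀ ∨
      ∃ k, D.act k x₀ = x₀ ∧ D.act' k l₁ = l₁ ∧ D.act k y₁ = z := by
    intro z
    simp only [S₀, Submodule.mem_map, Submodule.coe_subtype]
    constructor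
    · rintro ⟨w, hw, rfl⟩
      rcases (hS₁mem w).1 hw with h | h | ⟨⟨g, hg⟩, h1, h2⟩
      · exact Or.inl (congrArg Subtype.val h)
      · exact Or.inr (Or.inl (congrArg Subtype.val h))
      · exact Or.inr (Or.inr ⟨g, congrArg Subtype.val h1, hg, congrArg Subtype.val h2⟩)
    · rintro (rfl | rfl | ⟨k, k1, k2, rfl⟩)
      · exact ⟨0, S₁.zero_mem, rfl⟩
      · exact ⟨x₁, (hS₁mem x₁).2 (Or.inr (Or.inl rfl)), rfl⟩
      · exact ⟨(D.flip.quot l₁).act' ⟨k, k2⟩ ⟨y₁, hy₁W⟩,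
          (hS₁mem _).2 (Or.inr (Or.inr ⟨⟨k, k2⟩, Subtype.ext k1, rfl⟩)), rfl⟩
  let S : E → E' → Submodule K2 E := fun x l =>
    if h : D.Inc x l then S₀.map (D.act (hD.inc_trans hinc h).choose).toLinearMap else ⊥
  have hS : ∀ {x l}, D.Inc x l → ∀ {z}, z ∈ S x l ↔ z = 0 ∨ z = x ∨
      ∃ k, D.act k x₀ = x ∧ D.act' k l₁ = l ∧ D.act k y₁ = z := by
    intro x l h z
    obtain ⟨g1, g2⟩ := (hD.inc_trans hinc h).choose_spec
    revert g1 g2
    simp only [S, dif_pos h]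
    generalize (hD.inc_trans hinc h).choose = g
    intro g1 g2
    simp only [Submodule.mem_map, LinearEquiv.coe_coe, hS₀]
    constructor
    · rintro ⟨w, (rfl | rfl | ⟨k, k1, k2, rfl⟩), rfl⟩
      · exact Or.inl (map_zero _)
      · exact Or.inr (Or.inl g1)
      · exact Or.inr (Or.inr ⟨g * k, by rw [D.act_mul, k1, g1], by rw [D.act'_mul, k2, g2],
          D.act_mul g k y₁⟩)
    · rintro (rfl | rfl | ⟨k, k1, k2, rfl⟩)
      · exact ⟨0, Or.inl rfl, map_zero _⟩
      · exact ⟨x₀, Or.inr (Or.inl rfl), g1⟩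
      · exact ⟨D.act g⁻¹ (D.act k y₁), Or.inr (Or.inr ⟨g⁻¹ * k,
          by rw [D.act_mul, k1, ← g1, D.act_inv_act],
          by rw [D.act'_mul, k2, ← g2, D.act'_inv_act], D.act_mul _ _ _⟩), D.act_act_inv _ _⟩
  have hScard' : ∀ {x l}, D.Inc x l → Nat.card (S x l) = 2 ^ t := by
    intro x l h
    simp only [S, dif_pos h]
    rw [← hS₁card]
    exact (Nat.card_congr (Submodule.equivMapOfInjective _ (LinearEquiv.injective _) S₀).symm.toEquiv).trans
      (Nat.card_congr (Submodule.equivMapOfInjective _ W.injective_subtype S₁).symm.toEquiv)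
  refine ⟨{
    a := s, b := t, U := U, S := S, two_le_a := hs2, two_le_b := ht2
    cardU := hUcard, cardS := hScard'
    memU_left := fun h => (hU h).2 (Or.inl (Submodule.subset_span (by simp)))
    memU_right := fun h => (hU h).2 (Or.inl (Submodule.subset_span (by simp)))
    memS := fun h => (hS h).2 (Or.inr (Or.inl rfl))
    U_comm := ?_, U_add := ?_, U_sym := ?_, U_ne_top := ?_, U_act := ?_, U_trans := ?_
    S_perp := ?_, S_act := ?_, S_trans := ?_, S_min := ?_, S_dual := ?_ }⟩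
  · intro x y h
    refine Submodule.ext fun z => ?_
    have key : ∀ {x y : E}, Ind2 x y → z ∈ U x y → z ∈ U y x := by
      intro x y h hz
      rcases (hU h).1 hz with hz | ⟨k, k1, k2, rfl⟩
      · exact (hU h.symm).2 (Or.inl (by rwa [Set.pair_comm]))
      · obtain ⟨g, g1, g2, g3⟩ := hD.swap (h3.swap23.swap12)
        exact (hU h.symm).2 (Or.inr ⟨k * g, by rw [D.act_mul, g2, k2], by rw [D.act_mul, g3, k1],
          by rw [D.act_mul, g1]⟩)
    exact ⟨key h.symm, key h⟩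
  · intro x y h
    have key : ∀ {y : E}, Ind2 x y → ∀ z, z ∈ U x y → z ∈ U x (x + y) := by
      intro y h z hz
      rcases (hU h).1 hz with hz | ⟨k, k1, k2, rfl⟩
      · refine (hU h.add_right).2 (Or.inl ?_)
        rcases mem_span_two.1 hz with rfl | rfl | rfl | rfl <;>
          simp [mem_span_two, add_add_cancel_left']
      · obtain ⟨g, g1, g2, g3⟩ := hD.colour' (h3.swap23)
        exact (hU h.add_right).2 (Or.inr ⟨k * g, by rw [D.act_mul, g1, k1],
          by rw [D.act_mul, g3, map_add, k1, k2, add_comm], by rw [D.act_mul, g2]⟩)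
    refine le_antisymm (fun z hz => ?_) (key h)
    have := key h.add_right z hz
    rwa [add_add_cancel_left'] at this
  · intro x y z h hz
    rcases (hU h.ind2).1 hz with hz | ⟨k, k1, k2, rfl⟩
    · exact absurd hz ((ind3_iff h.ind2).1 h)
    · obtain ⟨g, g1, g2, g3⟩ := hD.swap h3
      exact (hU h.ind2').2 (Or.inr ⟨k * g, by rw [D.act_mul, g1, k1], by rw [D.act_mul, g2],
        by rw [D.act_mul, g3, k2]⟩)
  · intro x y h htop
    apply hne
    intro x' y' z z' hz hz'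
    obtain ⟨g, g1, g2⟩ := hD.tt x y x' y' h hz.ind2
    have aux : ∀ {z}, Ind3 x' y' z → ∃ k, D.act k x₀ = x' ∧ D.act k y₀ = y' ∧ D.act k z₀ = z := by
      intro w hw
      have : D.act g⁻¹ w ∈ U x y := htop ▸ Submodule.mem_top
      rcases (hU h).1 this with hh | ⟨k, k1, k2, k3⟩
      · refine absurd ?_ ((ind3_iff hw.ind2).1 hw)
        rw [← D.act_act_inv g w]
        rcases mem_span_two.1 hh with e | e | e | e <;> rw [e] <;> simp [g1, g2, mem_span_two]
      · exact ⟨g * k, by rw [D.act_mul, k1, g1], by rw [D.act_mul, k2, g2],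
          by rw [D.act_mul, k3, D.act_act_inv]⟩
    obtain ⟨k, k1, k2, k3⟩ := aux hz
    obtain ⟨k', j1, j2, j3⟩ := aux hz'
    exact ⟨k' * k⁻¹, by rw [D.act_mul, ← k1, D.act_inv_act, j1, k1],
      by rw [D.act_mul, ← k2, D.act_inv_act, j2, k2], by rw [D.act_mul, ← k3, D.act_inv_act, j3]⟩
  · intro x y g h z hz
    rcases (hU h).1 hz with hz | ⟨k, k1, k2, rfl⟩
    · refine (hU (D.ind2_act h g)).2 (Or.inl ?_)
      rcases mem_span_two.1 hz with rfl | rfl | rfl | rfl <;> simp [mem_span_two]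
    · exact (hU (D.ind2_act h g)).2 (Or.inr ⟨g * k, by rw [D.act_mul, k1], by rw [D.act_mul, k2],
        D.act_mul g k z₀⟩)
  · intro x y l l' h hxl hyl hxl' hyl' ⟨p, hp, hpl⟩ ⟨p', hp', hpl'⟩
    obtain ⟨g, g1, g2⟩ := hD.tt x₀ y₀ x y h₀ h
    have v : ∀ {m : E'}, D.pair x m = 0 → D.pair y m = 0 →
        D.pair x₀ (D.act' g⁻¹ m) = 0 ∧ D.pair y₀ (D.act' g⁻¹ m) = 0 := by
      intro m h1 h2
      exact ⟨by rw [← D.pair_act_left, g1, h1], by rw [← D.pair_act_left, g2, h2]⟩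
    have w : ∀ {m : E'} {c : E}, c ∈ U x y → D.pair c m = 1 →
        D.act g⁻¹ c ∈ U₀ ∧ D.pair (D.act g⁻¹ c) (D.act' g⁻¹ m) = 1 := by
      intro m c hc hcm
      refine ⟨(hU₀ _).2 ?_, by rw [D.inv]; exact hcm⟩
      rcases (hU h).1 hc with hc | ⟨k, k1, k2, rfl⟩
      · left
        rw [← g1, ← g2] at hc
        rcases mem_span_two.1 hc with rfl | rfl | rfl | rfl <;>
          simp [← map_add, D.act_inv_act, mem_span_two]
      · exact Or.inr ⟨g⁻¹ * k, by rw [D.act_mul, k1, ← g1, D.act_inv_act],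
          by rw [D.act_mul, k2, ← g2, D.act_inv_act], D.act_mul _ _ _⟩
    obtain ⟨a1, a2⟩ := v hxl hyl
    obtain ⟨b1, b2⟩ := v hxl' hyl'
    obtain ⟨⟨k, hk⟩, hky, hkl⟩ := hStr ⟨D.act' g⁻¹ l, D.mem_perp_one.2 a1⟩
      ⟨D.act' g⁻¹ l', D.mem_perp_one.2 b1⟩ (by rw [quot_pair]; exact a2)
      (by rw [quot_pair]; exact b2) ⟨_, (w hp hpl).1, (w hp hpl).2⟩ ⟨_, (w hp' hpl').1, (w hp' hpl').2⟩
    rw [quot_act, mk_eq_mk_iff] at hky
    have hkl' : D.act' k (D.act' g⁻¹ l) = D.act' g⁻¹ l' := congrArg Subtype.val hkl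
    refine ⟨g * (k * g⁻¹), ?_, ?_, ?_⟩
    · rw [D.act_mul, D.act_mul, ← g1, D.act_inv_act, show D.act k x₀ = x₀ from hk]
    · rw [← g2, ← g1]
      rcases hky with e | e <;> [left; right] <;>
        rw [D.act_mul, D.act_mul, D.act_inv_act, show D.act k y₀ = _ from e]
      rw [map_add]
    · rw [D.act'_mul, D.act'_mul, hkl', D.act'_act_inv]
  · intro x l h z hz
    rcases (hS h).1 hz with rfl | rfl | ⟨k, k1, k2, rfl⟩
    · simp
    · exact h.2.2
    · rw [← k2, D.inv]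
      exact D.flip.mem_perp_one.1 hy₁W
  · intro x l g h z hz
    rcases (hS h).1 hz with rfl | rfl | ⟨k, k1, k2, rfl⟩
    · exact (hS (D.inc_act h g)).2 (Or.inl (map_zero _))
    · exact (hS (D.inc_act h g)).2 (Or.inr (Or.inl rfl))
    · exact (hS (D.inc_act h g)).2 (Or.inr (Or.inr ⟨g * k, by rw [D.act_mul, k1],
        by rw [D.act'_mul, k2], D.act_mul g k y₁⟩))
  · intro x l y y' h hy hxy hy' hxy'
    rcases (hS h).1 hy with e | e | ⟨k, k1, k2, rfl⟩
    · exact absurd e hxy.2.1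
    · exact absurd e.symm hxy.2.2
    · rcases (hS h).1 hy' with e | e | ⟨k', j1, j2, rfl⟩
      · exact absurd e hxy'.2.1
      · exact absurd e.symm hxy'.2.2
      · exact ⟨k' * k⁻¹, by rw [D.act_mul, ← k1, D.act_inv_act, j1, k1],
          by rw [D.act'_mul, ← k2, D.act'_inv_act, j2, k2],
          by rw [D.act_mul, D.act_inv_act]⟩
  · intro x l P h hPl hxP hinv ⟨p, hp, hxp⟩ z hz
    obtain ⟨g, g1, g2⟩ := hD.inc_trans hinc h
    let P₁ : Submodule K2 W := (P.comap (D.act g).toLinearMap).comap W.subtype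
    have hmem : ∀ {q}, q ∈ P → D.act g⁻¹ q ∈ W := by
      intro q hq
      refine D.flip.mem_perp_one.2 ?_
      simp only [flip_pair]
      rw [D.pair_act_left, inv_inv, g2]
      exact hPl q hq
    have := hS₁min P₁ (show D.act g x₀ ∈ P by rw [g1]; exact hxP) ?_
      ⟨⟨D.act g⁻¹ p, hmem hp⟩, show D.act g (D.act g⁻¹ p) ∈ P by rw [D.act_act_inv]; exact hp,
        fun e => hx₀ (congrArg Subtype.val e), fun e => hxp.2.1 ?_, fun e => hxp.2.2 ?_⟩
    · rcases (hS h).1 hz with rfl | rfl | ⟨k, k1, k2, rfl⟩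
      · exact P.zero_mem
      · exact hxP
      · have hy : D.act g y₁ ∈ P := this ((hS₁mem _).2 (Or.inr (Or.inr ⟨1, by
          exact Subtype.ext (D.act_one _), Subtype.ext (D.act_one _)⟩)))
        have := hinv (k * g⁻¹) (by rw [D.act_mul, ← g1, D.act_inv_act, k1, g1])
          (by rw [D.act'_mul, ← g2, D.act'_inv_act, k2, g2]) _ hy
        rwa [D.act_mul, D.act_inv_act] at this
    · rintro ⟨k, hk⟩ hkx q hq
      have := hinv (g * (k * g⁻¹))
        (by rw [D.act_mul, D.act_mul, ← g1, D.act_inv_act,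
          show D.act k x₀ = x₀ from congrArg Subtype.val hkx])
        (by rw [D.act'_mul, D.act'_mul, ← g2, D.act'_inv_act, show D.act' k l₁ = l₁ from hk])
        _ (show D.act g q.1 ∈ P from hq)
      rw [D.act_mul, D.act_mul, D.act_inv_act] at this
      exact this
    · have := congrArg (fun w : W => D.act g w.1) e
      simpa [D.act_act_inv] using this
    · have := congrArg (fun w : W => D.act g w.1) e
      simpa [D.act_act_inv, x₁, g1] using this
  · intro x l μ μ' h hxμ hxμ' ⟨p, hp, hpμ⟩ ⟨p', hp', hpμ'⟩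
    obtain ⟨g, g1, g2⟩ := hD.inc_trans hinc h
    have w : ∀ {m : E'} {c : E}, c ∈ S x l → D.pair c m = 1 →
        ∃ q : W, q ∈ S₁ ∧ D.pair q.1 (D.act' g⁻¹ m) = 1 := by
      intro m c hc hcm
      have : D.act g⁻¹ c ∈ S₀ := by
        refine (hS₀ _).2 ?_
        rcases (hS h).1 hc with rfl | rfl | ⟨k, k1, k2, rfl⟩
        · exact Or.inl (map_zero _)
        · exact Or.inr (Or.inl (by rw [← g1, D.act_inv_act]))
        · exact Or.inr (Or.inr ⟨g⁻¹ * k, by rw [D.act_mul, k1, ← g1, D.act_inv_act],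
            by rw [D.act'_mul, k2, ← g2, D.act'_inv_act], D.act_mul _ _ _⟩)
      obtain ⟨q, hq, hqe⟩ := Submodule.mem_map.1 this
      exact ⟨q, hq, by rw [show q.1 = D.act g⁻¹ c from hqe, D.inv]; exact hcm⟩
    obtain ⟨⟨k, hk⟩, hkx, hkm⟩ := hS₁tr (Submodule.Quotient.mk (D.act' g⁻¹ μ))
      (Submodule.Quotient.mk (D.act' g⁻¹ μ'))
      (show D.pair x₀ (D.act' g⁻¹ μ) = 0 by rw [← D.pair_act_left, g1, hxμ])
      (show D.pair x₀ (D.act' g⁻¹ μ') = 0 by rw [← D.pair_act_left, g1, hxμ'])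
      (w hp hpμ) (w hp' hpμ')
    have hkx' : D.act k x₀ = x₀ := congrArg Subtype.val hkx
    have hk' : D.act' k l₁ = l₁ := hk
    have hkm' : (Submodule.Quotient.mk (D.act' k (D.act' g⁻¹ μ)) :
        E' ⧸ Submodule.span K2 ({l₁} : Set E')) = Submodule.Quotient.mk (D.act' g⁻¹ μ') := hkm
    refine ⟨g * (k * g⁻¹), ?_, ?_, ?_⟩
    · rw [D.act_mul, D.act_mul, ← g1, D.act_inv_act, hkx']
    · rw [D.act'_mul, D.act'_mul, ← g2, D.act'_inv_act, hk']
    · rw [mk_eq_mk_iff] at hkm'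
      rcases hkm' with e | e
      · left
        rw [D.act'_mul, D.act'_mul, e, D.act'_act_inv]
      · right
        rw [D.act'_mul, D.act'_mul, e, map_add, D.act'_act_inv, g2]

end Duo

end CfsgLib.LinTwo
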