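import Cfsg.Agent.Lib.LinTwo.Two

/-!
# An orbit of odd length on the lines through a point spans a subspace
-/

namespace CfsgLib.LinTwo

variable {G E E' : Type*} [Group G] [AddCommGroup E] [Module K2 E] [AddCommGroup E'] [Module K2 E']

namespace Duo

/-- Antiflag transitivity, together with full stabilisers of lines. -/
structure Anti (Q : Duo G E E') : Prop where
  af : ∀ z l l', Q.pair z l = 1 → Q.pair z l' = 1 → ∃ g, Q.act g z = z ∧ Q.act' g l = l'
  mv : ∀ x y, Ind2 x y → ∃ g, Q.act g x = x ∧ Q.act g y = x + y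
  sw : ∀ x y, Ind2 x y → ∃ g, Q.act g x = y ∧ Q.act g y = x
  big : 8 ≤ Nat.card E

variable [Finite G] [Finite E] [Finite E'] {Q : Duo G E E'} (hQ : Q.Anti)
include hQ

/-- There is a point whose orbit under the stabiliser of `x` is twice an odd number. -/
lemma Anti.exists_odd_orbit {x : E} (hx : x ≠ 0) :
    ∃ y, Ind2 x y ∧ ∃ k, Odd k ∧ Nat.card {z : E // ∃ g, Q.act g x = x ∧ Q.act g y = z} = 2 * k := by
  classical
  letI : MulAction (Q.stab x) E := MulAction.compHom E (Q.act.comp (Q.stab x).subtype)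
  letI := Fintype.ofFinite E
  letI := Fintype.ofFinite (MulAction.orbitRel.Quotient (Q.stab x) E)
  have horb : ∀ y, MulAction.orbit (Q.stab x) y = {z | ∃ g, Q.act g x = x ∧ Q.act g y = z} := by
    intro y; ext z
    constructor
    · rintro ⟨⟨g, hg⟩, rfl⟩; exact ⟨g, hg, rfl⟩
    · rintro ⟨g, hg, rfl⟩; exact ⟨⟨g, hg⟩, rfl⟩
  have heven : ∀ y, Ind2 x y → 2 ∣ Nat.card {z : E // ∃ g, Q.act g x = x ∧ Q.act g y = z} := by
    intro y hy
    -- translation by `x` is a fixed point free involution of the orbit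
    let e : {z : E // ∃ g, Q.act g x = x ∧ Q.act g y = z} →
        {z : E // ∃ g, Q.act g x = x ∧ Q.act g y = z} := fun z => ⟨z.1 + x, by
      obtain ⟨z, g, hg, rfl⟩ := z
      obtain ⟨h, h1, h2⟩ := hQ.mv x y hy
      exact ⟨g * h, by rw [Q.act_mul, h1, hg], by
        show Q.act (g * h) y = Q.act g y + x
        rw [Q.act_mul, h2, map_add, hg, add_comm]⟩⟩
    have he : ∀ z, e (e z) = z := fun z => Subtype.ext (add_add_cancel_right' z.1 x)
    have hne : ∀ z, e z ≠ z := fun z h => hx (by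
      have := congrArg Subtype.val h
      simpa [e] using this)
    rw [Nat.card_eq_fintype_card]
    by_contra hodd
    let σ : Equiv.Perm {z : E // ∃ g, Q.act g x = x ∧ Q.act g y = z} := ⟨e, e, he, he⟩
    obtain ⟨z, hz⟩ := Equiv.Perm.exists_fixed_point_of_prime (p := 2) (n := 1) hodd
      (σ := σ) (by ext z; simp [σ, pow_succ, he z])
    exact hne z hz
  by_contra hne
  push Not at hne
  have h4 : ∀ y, Ind2 x y → 4 ∣ Nat.card {z : E // ∃ g, Q.act g x = x ∧ Q.act g y = z} := by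
    intro y hy
    obtain ⟨c, hc⟩ := heven y hy
    rcases Nat.even_or_odd c with ⟨d, rfl⟩ | hodd
    · exact ⟨d, by omega⟩
    · exact absurd hc (hne y hy c hodd)
  have hsum := Fintype.card_congr (MulAction.selfEquivSigmaOrbits' (Q.stab x) E)
  rw [Fintype.card_sigma] at hsum
  let q : E → MulAction.orbitRel.Quotient (Q.stab x) E := Quotient.mk''
  have hcard : ∀ y, Fintype.card (MulAction.orbitRel.Quotient.orbit (q y)) =
      Nat.card {z : E // ∃ g, Q.act g x = x ∧ Q.act g y = z} := by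
    intro y
    rw [← Nat.card_eq_fintype_card]
    simp only [q, MulAction.orbitRel.Quotient.orbit_mk]
    rw [horb]
    rfl
  have hone : ∀ y, (y = 0 ∨ y = x) →
      Fintype.card (MulAction.orbitRel.Quotient.orbit (q y)) = 1 := by
    intro y hy
    rw [hcard, Nat.card_eq_one_iff_unique]
    have hfix : ∀ g, Q.act g x = x → Q.act g y = y := by
      rintro g hg
      rcases hy with rfl | rfl
      · simp
      · exact hg
    refine ⟨⟨fun a b => ?_⟩, ⟨⟨y, 1, Q.act_one x, Q.act_one y⟩⟩⟩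
    obtain ⟨a, g, hg, rfl⟩ := a
    obtain ⟨b, g', hg', rfl⟩ := b
    exact Subtype.ext ((hfix g hg).trans (hfix g' hg').symm)
  have hq0x : q 0 ≠ q x := by
    intro h
    have h' : (0 : E) ∈ MulAction.orbit (Q.stab x) x :=
      MulAction.orbitRel_apply.1 (Quotient.exact' h)
    rw [horb] at h'
    obtain ⟨g, hg, hg0⟩ := h'
    exact hx (hg.symm.trans hg0)
  rw [← Finset.sum_erase_add _ _ (Finset.mem_univ (q 0)),
    ← Finset.sum_erase_add _ _ (Finset.mem_erase.2 ⟨hq0x.symm, Finset.mem_univ (q x)⟩)] at hsum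
  rw [hone 0 (Or.inl rfl), hone x (Or.inr rfl)] at hsum
  have h4' : 4 ∣ ∑ ω ∈ (Finset.univ.erase (q 0)).erase (q x),
      Fintype.card (MulAction.orbitRel.Quotient.orbit ω) := by
    refine Finset.dvd_sum fun ω hω => ?_
    obtain ⟨y, rfl⟩ := Quotient.mk''_surjective ω
    simp only [Finset.mem_erase, Finset.mem_univ, and_true, Ne] at hω
    show 4 ∣ Fintype.card (MulAction.orbitRel.Quotient.orbit (q y))
    rw [hcard]
    exact h4 y ⟨hx, fun e => hω.2 (by rw [e]), fun e => hω.1 (by rw [← e])⟩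
  have hb : 8 ∣ Nat.card E := by
    haveI : Module.Finite K2 E := Module.Finite.of_finite
    have h := hQ.big
    rw [Module.natCard_eq_pow_finrank (K := K2) (V := E), Nat.card_zmod] at h ⊢
    have : 3 ≤ Module.finrank K2 E := by
      by_contra hlt
      have : 2 ^ Module.finrank K2 E ≤ 2 ^ 2 := Nat.pow_le_pow_right (by omega) (by omega)
      omega
    exact (show (8 : ℕ) = 2 ^ 3 by norm_num) ▸ pow_dvd_pow 2 this
  rw [Nat.card_eq_fintype_card] at hb
  omega

/-- An odd orbit on the lines through `x`, with its span. -/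
theorem Anti.exists_span {x : E} (hx : x ≠ 0) :
    ∃ y₀, Ind2 x y₀ ∧ ∃ (S : Submodule K2 E) (s : ℕ), 2 ≤ s ∧ Nat.card S = 2 ^ s ∧
      (∀ z, z ∈ S ↔ z = 0 ∨ z = x ∨ ∃ g, Q.act g x = x ∧ Q.act g y₀ = z) ∧
      (∀ l l', Q.pair x l = 0 → Q.pair x l' = 0 → (∃ p ∈ S, Q.pair p l = 1) →
        (∃ p ∈ S, Q.pair p l' = 1) → ∃ g, Q.act g x = x ∧ Q.act' g l = l') ∧
      (∀ P : Submodule K2 E, x ∈ P → (∀ g, Q.act g x = x → ∀ p ∈ P, Q.act g p ∈ P) →
        (∃ p ∈ P, Ind2 x p) → S ≤ P) := by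
  classical
  obtain ⟨y₀, hy₀, k, hk, hcard⟩ := hQ.exists_odd_orbit hx
  let O : Set E := {z | ∃ g, Q.act g x = x ∧ Q.act g y₀ = z}
  have hOg : ∀ g, Q.act g x = x → ∀ z ∈ O, Q.act g z ∈ O := by
    rintro g hg z ⟨h, h1, rfl⟩
    exact ⟨g * h, by rw [Q.act_mul, h1, hg], Q.act_mul g h y₀⟩
  have hO2 : ∀ z ∈ O, Ind2 x z := by
    rintro z ⟨g, hg, rfl⟩
    have := Q.ind2_act hy₀ g
    rwa [hg] at this
  have hOx : ∀ z ∈ O, z + x ∈ O := by
    rintro z ⟨g, hg, rfl⟩
    obtain ⟨h, h1, h2⟩ := hQ.mv x y₀ hy₀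
    exact ⟨g * h, by rw [Q.act_mul, h1, hg], by rw [Q.act_mul, h2, map_add, hg, add_comm]⟩
  -- pairs (point of the orbit, functional) with values (1, 0)
  let A : Type _ := {l : E' // Q.pair x l = 1}
  obtain ⟨d, hd, hA⟩ : ∃ d, 1 ≤ d ∧ Nat.card A = 2 ^ d := by
    have hker := Q.flip.card_ker (l := x) hx
    simp only [flip_pair] at hker
    have hc : Nat.card A + Nat.card {l : E' // Q.pair x l = 0} = Nat.card E' := by
      have e : {l : E' // Q.pair x l = 0} ≃ {l : E' // ¬ Q.pair x l = 1} :=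
        Equiv.subtypeEquivRight fun l => by
          generalize Q.pair x l = a
          revert a; decide
      rw [Nat.card_congr e, ← Nat.card_sum]
      exact Nat.card_congr (Equiv.sumCompl _)
    haveI : Module.Finite K2 E' := Module.Finite.of_finite
    have hE : Nat.card E' = 2 ^ Module.finrank K2 E' := by
      rw [Module.natCard_eq_pow_finrank (K := K2) (V := E'), Nat.card_zmod]
    have h8 := hQ.big
    rw [← Q.card_eq, hE] at h8
    have h3 : 3 ≤ Module.finrank K2 E' := by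
      by_contra hlt
      have : 2 ^ Module.finrank K2 E' ≤ 2 ^ 2 := Nat.pow_le_pow_right (by omega) (by omega)
      omega
    refine ⟨Module.finrank K2 E' - 1, by omega, ?_⟩
    have : 2 ^ Module.finrank K2 E' = 2 * 2 ^ (Module.finrank K2 E' - 1) := by
      rw [← pow_succ']; congr 1; omega
    omega
  have hpair : ∀ z ∈ O, ∀ z' ∈ O, ∀ l l', Q.pair x l = 1 → Q.pair x l' = 1 → Q.pair z l = 0 →
      Q.pair z' l' = 0 → ∃ g, Q.act g x = x ∧ Q.act g z = z' ∧ Q.act' g l = l' := by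
    intro z hz z' hz' l l' hl hl' hzl hzl'
    letI : MulAction (Q.stab x) E := MulAction.compHom E (Q.act.comp (Q.stab x).subtype)
    letI : MulAction (Q.stab x) E' := MulAction.compHom E' (Q.act'.comp (Q.stab x).subtype)
    let C : Set (E × E') := {p | p.1 ∈ O ∧ Q.pair x p.2 = 1 ∧ Q.pair p.1 p.2 = 0}
    have hsub : MulAction.orbit (Q.stab x) (z, l) ⊆ C := by
      rintro p ⟨⟨g, hg⟩, rfl⟩
      refine ⟨hOg g hg z hz, ?_, ?_⟩
      · show Q.pair x (Q.act' g l) = 1
        conv_lhs => rw [← show Q.act g x = x from hg]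
        rw [Q.inv]; exact hl
      · show Q.pair (Q.act g z) (Q.act' g l) = 0
        rw [Q.inv]; exact hzl
    have hz_orb : MulAction.orbit (Q.stab x) z = O := by
      obtain ⟨g₀, hg₀, rfl⟩ := hz
      ext w
      constructor
      · rintro ⟨⟨g, hg⟩, rfl⟩
        exact hOg g hg _ ⟨g₀, hg₀, rfl⟩
      · rintro ⟨g, hg, rfl⟩
        exact ⟨⟨g, hg⟩ * ⟨g₀, hg₀⟩⁻¹, by
          show Q.act (g * g₀⁻¹) (Q.act g₀ y₀) = Q.act g y₀
          rw [← Q.act_mul, inv_mul_cancel_right]⟩
    have hl_orb : MulAction.orbit (Q.stab x) l = {m : E' | Q.pair x m = 1} := by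
      ext m
      constructor
      · rintro ⟨⟨g, hg⟩, rfl⟩
        show Q.pair x (Q.act' g l) = 1
        conv_lhs => rw [← show Q.act g x = x from hg]
        rw [Q.inv]; exact hl
      · intro hm
        obtain ⟨g, hg, hgl⟩ := hQ.af x l m hl hm
        exact ⟨⟨g, hg⟩, hgl⟩
    have hge : k * 2 ^ d ≤ (MulAction.orbit (Q.stab x) (z, l)).ncard := by
      refine Nat.le_of_dvd ((Set.ncard_pos (Set.toFinite _)).2 ⟨_, MulAction.mem_orbit_self _⟩) ?_
      rw [← MulAction.index_stabilizer]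
      refine (Nat.Coprime.pow_right d ((Nat.prime_two.coprime_iff_not_dvd.2
        hk.not_two_dvd_nat).symm)).mul_dvd_of_dvd_of_dvd ?_ ?_
      · refine (Dvd.intro_left 2 rfl : k ∣ 2 * k).trans ?_
        rw [← hcard, show Nat.card {w : E // ∃ g, Q.act g x = x ∧ Q.act g y₀ = w} = O.ncard from
          Nat.card_coe_set_eq O, ← hz_orb, ← MulAction.index_stabilizer]
        exact Subgroup.index_dvd_of_le fun g hg => congrArg Prod.fst hg
      · rw [← hA, show Nat.card A = ({m : E' | Q.pair x m = 1}).ncard from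
          Nat.card_coe_set_eq _, ← hl_orb, ← MulAction.index_stabilizer]
        exact Subgroup.index_dvd_of_le fun g hg => congrArg Prod.snd hg
    have hle : 2 * C.ncard ≤ 2 * k * 2 ^ d := by
      suffices h : Nat.card (C × K2) ≤
          Nat.card ({w : E // ∃ g, Q.act g x = x ∧ Q.act g y₀ = w} × A) by
        rw [Nat.card_prod, Nat.card_prod, Nat.card_zmod, hA, hcard, Nat.card_coe_set_eq] at h
        omega
      refine Nat.card_le_card_of_injective (fun p : C × K2 =>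
        ((⟨p.1.1.1 + p.2 • x, ?_⟩ : {w : E // ∃ g, Q.act g x = x ∧ Q.act g y₀ = w}),
          (⟨p.1.1.2, p.1.2.2.1⟩ : A))) ?_
      · rcases (show p.2 = 0 ∨ p.2 = 1 by generalize p.2 = a; revert a; decide) with h | h
        · rw [h, zero_smul, add_zero]; exact p.1.2.1
        · rw [h, one_smul]; exact hOx _ p.1.2.1
      · rintro ⟨⟨⟨a, m⟩, ha⟩, u⟩ ⟨⟨⟨b, n⟩, hb⟩, v⟩ h
        simp only [Prod.mk.injEq, Subtype.mk.injEq] at h
        obtain ⟨h1, h2⟩ := h
        obtain rfl : m = n := congrArg Subtype.val h2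
        have h3 := congrArg (fun w => Q.pair w m) h1
        simp only [map_add, map_smul, LinearMap.add_apply, LinearMap.smul_apply, ha.2.1, ha.2.2,
          hb.2.2, smul_eq_mul, mul_one, zero_add] at h3
        subst h3
        have h4 := add_right_cancel h1
        subst h4
        rfl
    have heq : MulAction.orbit (Q.stab x) (z, l) = C :=
      Set.eq_of_subset_of_ncard_le hsub (by rw [mul_assoc] at hle; omega) (Set.toFinite _)
    obtain ⟨⟨g, hg⟩, hgz⟩ : (z', l') ∈ MulAction.orbit (Q.stab x) (z, l) := by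
      rw [heq]; exact ⟨hz', hl', hzl'⟩
    exact ⟨g, hg, congrArg Prod.fst hgz, congrArg Prod.snd hgz⟩
  -- traces on a line
  have htr : ∀ y ∈ O, ∀ l l', Q.pair x l = Q.pair x l' → Q.pair y l = Q.pair y l' →
      Q.pair y l = 1 → ∃ g, Q.act g x = x ∧ Q.act g y = y ∧ Q.act' g l = l' := by
    intro y hy l l' hxe hye hy1
    by_cases hx0 : Q.pair x l = 0
    · obtain ⟨s, hs1, hs2⟩ := hQ.sw x y (hO2 y hy)
      have v1 : Q.pair x (Q.act' s l) = 1 := by rw [← hs2, Q.inv]; exact hy1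
      have v2 : Q.pair x (Q.act' s l') = 1 := by rw [← hs2, Q.inv, ← hye]; exact hy1
      have w1 : Q.pair y (Q.act' s l) = 0 := by rw [← hs1, Q.inv]; exact hx0
      have w2 : Q.pair y (Q.act' s l') = 0 := by rw [← hs1, Q.inv, ← hxe]; exact hx0
      obtain ⟨g, g1, g2, g3⟩ := hpair y hy y hy _ _ v1 v2 w1 w2
      refine ⟨s⁻¹ * (g * s), ?_, ?_, ?_⟩
      · rw [Q.act_mul, Q.act_mul, hs1, g2, ← hs1, Q.act_inv_act]
      · rw [Q.act_mul, Q.act_mul, hs2, g1, ← hs2, Q.act_inv_act]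
      · rw [Q.act'_mul, Q.act'_mul, g3, Q.act'_inv_act]
    · have hx1 := k2_eq_one hx0
      obtain ⟨g, g1, g2, g3⟩ := hpair _ (hOx y hy) _ (hOx y hy) l l' hx1 (hxe ▸ hx1)
        (by simp [hx1, hy1]; rfl) (by simp [← hxe, ← hye, hx1, hy1]; rfl)
      refine ⟨g, g1, ?_, g3⟩
      rw [map_add, g1] at g2
      exact add_right_cancel g2
  have hclosed : ∀ y ∈ O, ∀ z ∈ O, z ∉ Submodule.span K2 ({x, y} : Set E) → z + y ∈ O := by
    intro y hy z hz hzy
    obtain ⟨g, hg, hgz⟩ := Q.coset_of_traces (Q.stab x ⊓ Q.stab y) (fun g hg => hg)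
      (fun l l' a b c => by
        obtain ⟨g, g1, g2, g3⟩ := htr y hy l l' a b c
        exact ⟨g, ⟨g1, g2⟩, g3⟩) hzy
    exact hgz ▸ hOg g hg.1 z hz
  let S : Submodule K2 E :=
    { carrier := {z | z = 0 ∨ z = x ∨ z ∈ O}
      zero_mem' := Or.inl rfl
      add_mem' := by
        intro a b ha hb
        rcases ha with ha | ha | ha
        · simpa [ha] using hb
        · rcases hb with hb | hb | hb
          · exact Or.inr (Or.inl (by rw [ha, hb, add_zero]))
          · exact Or.inl (by rw [ha, hb, vadd_self])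
          · exact Or.inr (Or.inr (by rw [ha, add_comm]; exact hOx b hb))
        · rcases hb with hb | hb | hb
          · exact Or.inr (Or.inr (by rw [hb, add_zero]; exact ha))
          · exact Or.inr (Or.inr (by rw [hb]; exact hOx a ha))
          · by_cases hab : a ∈ Submodule.span K2 ({x, b} : Set E)
            · rcases mem_span_two.1 hab with h | h | h | h
              · exact absurd h (hO2 a ha).2.1
              · exact absurd h.symm (hO2 a ha).2.2
              · exact Or.inl (by rw [h, vadd_self])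
              · exact Or.inr (Or.inl (by rw [h, add_add_cancel_right']))
            · exact Or.inr (Or.inr (hclosed b hb a ha hab))
      smul_mem' := by
        intro c z hz
        rcases k2_smul_cases c z with h | h <;> rw [h]
        · exact Or.inl rfl
        · exact hz }
  have hmemS : ∀ z, z ∈ S ↔ z = 0 ∨ z = x ∨ ∃ g, Q.act g x = x ∧ Q.act g y₀ = z := fun z => Iff.rfl
  have hSc : Nat.card S = 2 * k + 2 := by
    rw [← SetLike.coe_sort_coe, Nat.card_coe_set_eq,
      show (S : Set E) = insert 0 (insert x O) from rfl,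
      Set.ncard_insert_of_notMem ?_ (Set.toFinite _),
      Set.ncard_insert_of_notMem ?_ (Set.toFinite _), ← Nat.card_coe_set_eq]
    · exact congrArg (· + 1 + 1) hcard
    · exact fun h => (hO2 x h).2.2 rfl
    · rintro (h | h)
      · exact hx h.symm
      · exact (hO2 0 h).2.1 rfl
  refine ⟨y₀, hy₀, S, ?_⟩
  haveI : Module.Finite K2 S := Module.Finite.of_finite
  refine ⟨Module.finrank K2 S, ?_, by rw [Module.natCard_eq_pow_finrank (K := K2) (V := S),
    Nat.card_zmod], hmemS, ?_, ?_⟩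
  · rw [Module.natCard_eq_pow_finrank (K := K2) (V := S), Nat.card_zmod] at hSc
    by_contra hlt
    have : 2 ^ Module.finrank K2 S ≤ 2 ^ 1 := Nat.pow_le_pow_right (by omega) (by omega)
    have := hk.pos
    omega
  · intro l l' hl hl' hS hS'
    have aux : ∀ m, Q.pair x m = 0 → (∃ p ∈ S, Q.pair p m = 1) → ∃ p ∈ O, Q.pair p m = 1 := by
      rintro m hm ⟨p, (rfl | rfl | hp), h1⟩
      · simp at h1
      · rw [hm] at h1; exact absurd h1 (by decide)
      · exact ⟨p, hp, h1⟩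
    obtain ⟨p, hp, hp1⟩ := aux l hl hS
    obtain ⟨p', hp', hp1'⟩ := aux l' hl' hS'
    obtain ⟨g₁, a1, rfl⟩ := hp
    obtain ⟨g₂, b1, rfl⟩ := hp'
    have hg : Q.act (g₂ * g₁⁻¹) x = x := by
      rw [Q.act_mul]
      conv_lhs => arg 2; arg 2; rw [← a1]
      rw [Q.act_inv_act, b1]
    have hgy : Q.act (g₂ * g₁⁻¹) (Q.act g₁ y₀) = Q.act g₂ y₀ := by
      rw [← Q.act_mul, inv_mul_cancel_right]
    obtain ⟨h, h1, -, h3⟩ := htr _ ⟨g₂, b1, rfl⟩ (Q.act' (g₂ * g₁⁻¹) l) l'
      (by conv_lhs => rw [← hg]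
          rw [Q.inv, hl, hl'])
      (by conv_lhs => rw [← hgy]
          rw [Q.inv, hp1, hp1'])
      (by conv_lhs => rw [← hgy]
          rw [Q.inv, hp1])
    exact ⟨h * (g₂ * g₁⁻¹), by rw [Q.act_mul, hg, h1], by rw [Q.act'_mul, h3]⟩
  · intro P hxP hinv hP
    obtain ⟨p₂, hp₂, hp₂x⟩ := hP
    intro z hz
    by_contra hzP
    obtain ⟨l₁, hl₁, hl₁z⟩ := Q.exists_fun hzP
    obtain ⟨μ, hμ, hμp⟩ := Q.exists_fun ((ind2_iff hx).1 hp₂x)
    have hμx : Q.pair x μ = 0 := hμ x (Submodule.mem_span_singleton_self x)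
    obtain ⟨l₂, hl₂x, hl₂p, hl₂S⟩ : ∃ l₂, Q.pair x l₂ = 0 ∧ Q.pair p₂ l₂ = 1 ∧
        ∃ p ∈ S, Q.pair p l₂ = 1 := by
      by_cases hS : ∃ p ∈ S, Q.pair p μ = 1
      · exact ⟨μ, hμx, hμp, hS⟩
      · push Not at hS
        refine ⟨μ + l₁, by simp [hμx, hl₁ x hxP], by simp [hμp, hl₁ p₂ hp₂], z, hz, ?_⟩
        have : Q.pair z μ = 0 := by
          by_contra hne
          exact hS z hz (k2_eq_one hne)
        simp [this, hl₁z]
    have aux : ∀ m, Q.pair x m = 0 → (∃ p ∈ S, Q.pair p m = 1) → ∃ p ∈ O, Q.pair p m = 1 := by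
      rintro m hm ⟨p, (rfl | rfl | hp), h1⟩
      · simp at h1
      · rw [hm] at h1; exact absurd h1 (by decide)
      · exact ⟨p, hp, h1⟩
    obtain ⟨a, ⟨g₁, a1, ha⟩, ha1⟩ := aux l₁ (hl₁ x hxP) ⟨z, hz, hl₁z⟩
    obtain ⟨b, ⟨g₂, b1, hb⟩, hb1⟩ := aux l₂ hl₂x hl₂S
    have hg : Q.act (g₂ * g₁⁻¹) x = x := by
      rw [Q.act_mul]
      conv_lhs => arg 2; arg 2; rw [← a1]
      rw [Q.act_inv_act, b1]
    have hgy : Q.act (g₂ * g₁⁻¹) a = b := by
      rw [← ha, ← hb, ← Q.act_mul, inv_mul_cancel_right]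
    obtain ⟨h, h1, -, h3⟩ := htr b ⟨g₂, b1, hb⟩ (Q.act' (g₂ * g₁⁻¹) l₁) l₂
      (by conv_lhs => rw [← hg]
          rw [Q.inv, hl₁ x hxP, hl₂x])
      (by conv_lhs => rw [← hgy]
          rw [Q.inv, ha1, hb1])
      (by conv_lhs => rw [← hgy]
          rw [Q.inv, ha1])
    have key := hinv (h * (g₂ * g₁⁻¹))⁻¹ (by
      conv_lhs => arg 2; rw [← show Q.act (h * (g₂ * g₁⁻¹)) x = x by rw [Q.act_mul, hg, h1]]
      exact Q.act_inv_act _ x) p₂ hp₂
    have h5 := hl₁ _ key
    rw [← Q.pair_act_right, Q.act'_mul, h3, hl₂p] at h5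
    exact one_ne_zero h5

end Duo

end CfsgLib.LinTwo
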