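import Cfsg.Agent.Lib.LinTwo.Closed

/-!
# Groups of linear maps over the field with two elements transitive on independent pairs

Such a group is the whole linear group, or the dimension is four and the order is 2520.
-/

namespace CfsgLib.LinTwo

universe u

section Transvection

variable {V : Type*} [AddCommGroup V] [Module K2 V]

/-- The transvection `v ↦ v + l v • c`. -/
def tv (c : V) (l : Module.Dual K2 V) (h : l c = 0) : V ≃ₗ[K2] V :=
  LinearEquiv.ofInvolutive (LinearMap.id + l.smulRight c) fun v => by
    simp [h, add_assoc, vadd_self]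

@[simp] lemma tv_apply (c : V) (l : Module.Dual K2 V) (h : l c = 0) (v : V) :
    tv c l h v = v + l v • c := rfl

lemma tv_mul_same_l {c c' : V} {l : Module.Dual K2 V} (h : l c = 0) (h' : l c' = 0) :
    tv c l h * tv c' l h' = tv (c + c') l (by simp [h, h']) := by
  ext v
  simp [LinearEquiv.mul_apply, h', smul_add, add_assoc, add_comm (l v • c')]

lemma tv_mul_same_c {c : V} {l l' : Module.Dual K2 V} (h : l c = 0) (h' : l' c = 0) :
    tv c l h * tv c l' h' = tv c (l + l') (by simp [h, h']) := by
  ext v
  simp [LinearEquiv.mul_apply, h, add_smul, add_assoc, add_comm (l' v • c)]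

variable [Finite V]

instance instFiniteAut : Finite (V ≃ₗ[K2] V) :=
  Finite.of_injective (fun f => (f : V → V)) DFunLike.coe_injective

lemma eq_top_of_tv (G : Subgroup (V ≃ₗ[K2] V))
    (h : ∀ (c : V) (l : Module.Dual K2 V) (hc : l c = 0), c ≠ 0 → l ≠ 0 → tv c l hc ∈ G) :
    G = ⊤ := by
  rw [Subgroup.eq_top_iff']
  suffices ∀ (k : ℕ) (f : V ≃ₗ[K2] V),
      Nat.card V - Nat.card {v : V // f v = v} ≤ k → f ∈ G from fun f => this _ f le_rfl
  intro k
  induction k with
  | zero =>
    intro f hk
    have hle : Nat.card {v : V // f v = v} = Nat.card V :=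
      le_antisymm (Finite.card_subtype_le _) (by omega)
    have : f = 1 := by
      ext v
      by_contra hv
      have := Finite.card_subtype_lt (p := fun v => f v = v) hv
      omega
    rw [this]; exact G.one_mem
  | succ k ih =>
    intro f hk
    by_cases hf : ∀ v, f v = v
    · rw [show f = 1 from LinearEquiv.ext hf]; exact G.one_mem
    push Not at hf
    obtain ⟨v, hv⟩ := hf
    set P := LinearMap.eqLocus (f : V →ₗ[K2] V) LinearMap.id
    have hP : ∀ p, p ∈ P ↔ f p = p := fun p => Iff.rfl
    have huP : f v ∉ P := fun e => hv (f.injective ((hP _).1 e))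
    have hvP : v ∉ P := fun e => hv ((hP v).1 e)
    have hvu : f v ∉ P ⊔ Submodule.span K2 {f v + v} := by
      intro e
      obtain ⟨a, ha, b, hb, e⟩ := Submodule.mem_sup.1 e
      rcases mem_span_one.1 hb with rfl | rfl
      · rw [add_zero] at e; exact huP (e ▸ ha)
      · refine hvP ?_
        have : a + v = 0 := by
          have h2 := congrArg (· + f v) e
          simpa [show a + (f v + v) + f v = a + v + (f v + f v) by abel, vadd_self] using h2
        exact add_eq_zero_iff_eq'.1 this ▸ ha
    obtain ⟨φ, hφ, hφP⟩ := Submodule.exists_dual_map_eq_bot_of_notMem hvu inferInstance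
    have h0 : ∀ p ∈ P ⊔ Submodule.span K2 {f v + v}, φ p = 0 := fun p hp => by
      have : φ p ∈ (P ⊔ Submodule.span K2 {f v + v}).map φ := Submodule.mem_map_of_mem hp
      rwa [hφP, Submodule.mem_bot] at this
    have hc : φ (f v + v) = 0 :=
      h0 _ (Submodule.mem_sup_right (Submodule.mem_span_singleton_self _))
    have ht := h (f v + v) φ hc (fun e => hv (add_eq_zero_iff_eq'.1 e))
      (fun e => hφ (by rw [e]; rfl))
    set t := tv (f v + v) φ hc
    have htv : t (f v) = v := by
      rw [tv_apply, k2_eq_one hφ, one_smul, add_add_cancel_left']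
    have htf : t * f ∈ G := by
      refine ih _ ?_
      have : Nat.card {w : V // f w = w} < Nat.card {w : V // (t * f) w = w} := by
        refine Set.ncard_lt_ncard (s := {w : V | f w = w}) (t := {w : V | (t * f) w = w})
          (Set.ssubset_iff_of_subset ?_ |>.2 ⟨v, ?_, hv⟩) (Set.toFinite _)
        · intro w hw
          show t (f w) = w
          rw [show f w = w from hw, tv_apply, h0 w (Submodule.mem_sup_left ((hP w).2 hw)),
            zero_smul, add_zero]
        · exact htv
      omega
    simpa using G.mul_mem (G.inv_mem ht) htf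

end Transvection

section Natural

variable {V : Type*} [AddCommGroup V] [Module K2 V] [Finite V]

/-- The natural dual pair of a group of linear maps. -/
def natural (G : Subgroup (V ≃ₗ[K2] V)) : Duo G V (Module.Dual K2 V) where
  act := G.subtype
  act' :=
    { toFun := fun g => (g.1.symm).dualMap
      map_one' := by ext l v; rfl
      map_mul' := fun g h => by ext l v; rfl }
  pair := Module.Dual.eval K2 V
  inv g z l := by simp [LinearEquiv.dualMap_apply]
  nd z h := (Module.forall_dual_apply_eq_zero_iff K2 z).1 h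
  nd' l h := LinearMap.ext h

instance instFiniteDual : Finite (Module.Dual K2 V) :=
  Finite.of_injective (fun f => (f : V → K2)) DFunLike.coe_injective

lemma natural_act (G : Subgroup (V ≃ₗ[K2] V)) (g : G) (v : V) : (natural G).act g v = g.1 v := rfl

lemma natural_act' (G : Subgroup (V ≃ₗ[K2] V)) (g : G) (l : Module.Dual K2 V) (v : V) :
    (natural G).act' g l v = l (g.1.symm v) := rfl

lemma natural_pair (G : Subgroup (V ≃ₗ[K2] V)) (l : Module.Dual K2 V) (v : V) :
    (natural G).pair v l = l v := rfl

/-- One transvection in a two-transitive group gives all of them. -/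
lemma eq_top_of_exists_tv (G : Subgroup (V ≃ₗ[K2] V)) (hD : (natural G).TT) {g : V ≃ₗ[K2] V}
    (hg : g ∈ G) (hg1 : g ≠ 1) {l : Module.Dual K2 V} (hl : l ≠ 0)
    (hfix : ∀ v, l v = 0 → g v = v) : G = ⊤ := by
  obtain ⟨u, hu⟩ : ∃ u, l u = 1 := by
    by_contra hne
    push Not at hne
    exact hl (LinearMap.ext fun v => by
      by_contra h1
      exact hne v (k2_eq_one h1))
  set c := g u + u with hcdef
  have hform : ∀ v, g v = v + l v • c := by
    intro v
    rcases (show l v = 0 ∨ l v = 1 by generalize l v = a; revert a; decide) with h | h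
    · rw [h, zero_smul, add_zero, hfix v h]
    · have h0 : l (v + u) = 0 := by rw [map_add, h, hu]; rfl
      have h1 := hfix _ h0
      rw [map_add] at h1
      rw [h, one_smul, hcdef]
      calc g v = g v + g u + g u := (add_add_cancel_right' _ _).symm
        _ = v + u + g u := by rw [h1]
        _ = v + (g u + u) := by abel
  have hc : c ≠ 0 := fun h0 => hg1 (LinearEquiv.ext fun v => by rw [hform, h0, smul_zero, add_zero]; rfl)
  have hlc : l c = 0 := by
    by_contra hne
    have h1 := k2_eq_one hne
    have h2 : g c = 0 := by rw [hform, h1, one_smul, vadd_self]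
    exact hc (g.injective (h2.trans (map_zero g).symm))
  refine eq_top_of_tv G fun c' l' hc' hc'0 hl'0 => ?_
  obtain ⟨h, h1, h2⟩ := hD.inc_trans (x := c) (l := l) (x' := c') (l' := l') ⟨hc, hl, hlc⟩
    ⟨hc'0, hl'0, hc'⟩
  have : tv c' l' hc' = h.1 * g * h.1⁻¹ := by
    ext v
    simp only [tv_apply, LinearEquiv.mul_apply, hform, map_add, map_smul]
    rw [← h1, ← h2, natural_act, natural_act']
    simp [LinearEquiv.coe_inv]
  rw [this]
  exact G.mul_mem (G.mul_mem h.2 hg) (G.inv_mem h.2)

lemma card_orbit_mul {G : Subgroup (V ≃ₗ[K2] V)} (hD : (natural G).TT) {l : Module.Dual K2 V}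
    (hl : l ≠ 0) :
    Nat.card G = (Nat.card V - 1) * Nat.card ((natural G).flip.stab l) := by
  set D := natural G
  letI : MulAction G (Module.Dual K2 V) := MulAction.compHom _ D.act'
  have horb : MulAction.orbit G l = {m | m ≠ 0} := by
    ext m
    constructor
    · rintro ⟨g, rfl⟩
      exact (LinearEquiv.map_ne_zero_iff _).2 hl
    · intro hm
      obtain ⟨g, hg⟩ := hD.point' hl hm
      exact ⟨g, hg⟩
  have hst : MulAction.stabilizer G l = D.flip.stab l := rfl
  rw [← hst, ← Subgroup.index_mul_card (MulAction.stabilizer G l), MulAction.index_stabilizer, horb,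
    show {m : Module.Dual K2 V | m ≠ 0} = ({0} : Set (Module.Dual K2 V))ᶜ from rfl,
    Set.ncard_compl, Set.ncard_singleton, D.card_eq]

end Natural

/-- The exceptional order does not occur one dimension higher. -/
lemma no_order_31_2520 {V : Type*} [AddCommGroup V] [Module K2 V] [Finite V]
    (hV : Nat.card V = 32) (G : Subgroup (V ≃ₗ[K2] V)) : Nat.card G ≠ 31 * 2520 := by
  intro hG
  classical
  haveI : Fact (Nat.Prime 31) := ⟨by norm_num⟩
  obtain ⟨P⟩ : Nonempty (Sylow 31 G) := inferInstance
  have hPc : Nat.card P = 31 := by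
    rw [P.card_eq_multiplicity, hG, Nat.factorization_mul (by norm_num) (by norm_num),
      Finsupp.add_apply, Nat.Prime.factorization_self (by norm_num),
      Nat.factorization_eq_zero_of_not_dvd (by norm_num)]
    rfl
  haveI : IsCyclic P := isCyclic_of_prime_card hPc
  obtain ⟨⟨g, hgP⟩, hgen⟩ := IsCyclic.exists_generator (α := P)
  have hord : orderOf g = 31 :=
    (Subgroup.orderOf_mk g hgP).symm.trans ((orderOf_eq_card_of_forall_mem_zpowers hgen).trans hPc)
  -- `g` is transitive on nonzero vectors
  have htrans : ∀ v w : V, v ≠ 0 → w ≠ 0 → ∃ k : ℤ, (g ^ k).1 v = w := by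
    intro v w hv hw
    have hsize : ∀ z : V, (MulAction.orbit (Subgroup.zpowers g) z).ncard = 1 ∨
        (MulAction.orbit (Subgroup.zpowers g) z).ncard = 31 := by
      intro z
      rw [← MulAction.index_stabilizer (Subgroup.zpowers g) z]
      refine (Nat.dvd_prime (by norm_num)).1 ?_
      have := Subgroup.index_dvd_card (MulAction.stabilizer (Subgroup.zpowers g) z)
      rwa [Nat.card_zpowers, hord] at this
    have hmove : ∀ z : V, z ≠ 0 → (MulAction.orbit (Subgroup.zpowers g) z).ncard = 31 := by
      intro z hz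
      refine (hsize z).resolve_left fun h1 => ?_
      -- a fixed vector forces everything to be fixed
      have hfix : g.1 z = z := by
        obtain ⟨a, ha⟩ := Set.ncard_eq_one.1 h1
        have m1 : g.1 z ∈ MulAction.orbit (Subgroup.zpowers g) z :=
          ⟨⟨g, Subgroup.mem_zpowers g⟩, rfl⟩
        have m2 : z ∈ MulAction.orbit (Subgroup.zpowers g) z := MulAction.mem_orbit_self z
        rw [ha, Set.mem_singleton_iff] at m1 m2
        exact m1.trans m2.symm
      have hall : ∀ t : V, g.1 t = t := by
        intro t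
        by_contra ht
        have h31 := (hsize t).resolve_left fun h1' => ht (by
          obtain ⟨a, ha⟩ := Set.ncard_eq_one.1 h1'
          have m1 : g.1 t ∈ MulAction.orbit (Subgroup.zpowers g) t :=
            ⟨⟨g, Subgroup.mem_zpowers g⟩, rfl⟩
          have m2 : t ∈ MulAction.orbit (Subgroup.zpowers g) t := MulAction.mem_orbit_self t
          rw [ha, Set.mem_singleton_iff] at m1 m2
          exact m1.trans m2.symm)
        have hsub : MulAction.orbit (Subgroup.zpowers g) t ⊆ ({0, z} : Set V)ᶜ := by
          rintro s ⟨⟨k, hk⟩, rfl⟩ hs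
          obtain ⟨i, rfl⟩ := Subgroup.mem_zpowers_iff.1 hk
          have hfs : g.1 ((g ^ i).1 t) = (g ^ i).1 t := by
            rcases hs with hs | hs <;>
            · rw [show (g ^ i).1 t = _ from hs]
              first | exact map_zero _ | exact hfix
          rw [← LinearEquiv.mul_apply, ← Subgroup.coe_mul, (Commute.self_zpow g i).eq,
            Subgroup.coe_mul, LinearEquiv.mul_apply] at hfs
          exact ht ((g ^ i).1.injective hfs)
        have := Set.ncard_le_ncard hsub (Set.toFinite _)
        rw [h31, Set.ncard_compl, Set.ncard_pair (Ne.symm hz), hV] at this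
        omega
      have hg1 : g = 1 := Subtype.ext (LinearEquiv.ext hall)
      rw [hg1, orderOf_one] at hord
      exact absurd hord (by norm_num)
    have heq : MulAction.orbit (Subgroup.zpowers g) v = ({0} : Set V)ᶜ := by
      refine Set.eq_of_subset_of_ncard_le ?_ ?_ (Set.toFinite _)
      · rintro s ⟨k, rfl⟩
        exact (LinearEquiv.map_ne_zero_iff k.1.1).2 hv
      · rw [hmove v hv, Set.ncard_compl, Set.ncard_singleton, hV]
    obtain ⟨⟨k, hk⟩, hkv⟩ : w ∈ MulAction.orbit (Subgroup.zpowers g) v := by rw [heq]; exact hw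
    obtain ⟨i, rfl⟩ := Subgroup.mem_zpowers_iff.1 hk
    exact ⟨i, hkv⟩
  -- the centraliser is `P`
  have hcent : Subgroup.centralizer ((P : Subgroup G) : Set G) ≤ (P : Subgroup G) := by
    intro h hh
    obtain ⟨v, hv⟩ : ∃ v : V, v ≠ 0 := by
      by_contra hne
      push Not at hne
      haveI : Subsingleton V := ⟨fun a b => (hne a).trans (hne b).symm⟩
      rw [Nat.card_unique (α := V)] at hV
      omega
    obtain ⟨k, hk⟩ := htrans v (h.1 v) hv (by simpa using hv)
    suffices h = g ^ k by rw [this]; exact Subgroup.zpow_mem _ hgP k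
    refine Subtype.ext (LinearEquiv.ext fun w => ?_)
    by_cases hw : w = 0
    · simp [hw]
    obtain ⟨i, rfl⟩ := htrans v w hv hw
    have hc : g ^ i * h = h * g ^ i := hh _ (Subgroup.zpow_mem _ hgP i)
    rw [← LinearEquiv.mul_apply, ← Subgroup.coe_mul, ← hc, Subgroup.coe_mul,
      LinearEquiv.mul_apply, ← hk, ← LinearEquiv.mul_apply, ← LinearEquiv.mul_apply,
      ← Subgroup.coe_mul, ← Subgroup.coe_mul, ← zpow_add, ← zpow_add, add_comm]
  set N := Subgroup.normalizer ((P : Subgroup G) : Set G)
  have hker : (P : Subgroup G).normalizerMonoidHom.ker =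
      (Subgroup.centralizer ((P : Subgroup G) : Set G)).subgroupOf N :=
    Subgroup.normalizerMonoidHom_ker _
  have hC : Subgroup.centralizer ((P : Subgroup G) : Set G) = (P : Subgroup G) := by
    refine le_antisymm hcent fun a ha => Subgroup.mem_centralizer_iff.2 fun b hb => ?_
    haveI : IsMulCommutative P := IsCyclic.isMulCommutative
    exact congrArg Subtype.val (mul_comm' (⟨b, hb⟩ : P) ⟨a, ha⟩)
  have hN : Nat.card N ∣ 31 * 30 := by
    have h1 := Subgroup.index_mul_card (P : Subgroup G).normalizerMonoidHom.ker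
    rw [Subgroup.index_ker, hker, hC, Nat.card_congr (Subgroup.subgroupOfEquivOfLe
      (Subgroup.le_normalizer : (P : Subgroup G) ≤ N)).toEquiv, hPc] at h1
    rw [← h1, mul_comm]
    refine Nat.mul_dvd_mul_left 31 ?_
    have h2 := Subgroup.card_subgroup_dvd_card (P : Subgroup G).normalizerMonoidHom.range
    rwa [IsCyclic.card_mulAut P, hPc, Nat.totient_prime (by norm_num)] at h2
  have hP31 : 31 ∣ Nat.card N := hPc ▸ Subgroup.card_dvd_of_le Subgroup.le_normalizer
  obtain ⟨d, hd⟩ := hP31
  have hd30 : d ∣ 30 := Nat.dvd_of_mul_dvd_mul_left (by norm_num) (hd ▸ hN)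
  have hmod := card_sylow_modEq_one 31 G
  rw [P.card_eq_index_normalizer] at hmod
  have hidx : N.index * d = 2520 := by
    have := Subgroup.index_mul_card N
    rw [hG, hd, mul_left_comm] at this
    exact Nat.eq_of_mul_eq_mul_left (by norm_num) this
  have hdb : d ∈ Nat.divisors 30 := Nat.mem_divisors.2 ⟨hd30, by norm_num⟩
  have : N.index = 2520 / d := by
    rw [← hidx, Nat.mul_div_cancel]
    exact Nat.pos_of_mem_divisors hdb
  replace hmod : N.index ≡ 1 [MOD 31] := hmod
  rw [this] at hmod
  revert hmod
  rw [show Nat.divisors 30 = {1, 2, 3, 5, 6, 10, 15, 30} by decide] at hdb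
  simp only [Finset.mem_insert, Finset.mem_singleton] at hdb
  rcases hdb with rfl | rfl | rfl | rfl | rfl | rfl | rfl | rfl <;> decide

/-- A lift of the whole linear group of a hyperplane would fix a vector outside it. -/
lemma no_lift {V : Type*} [AddCommGroup V] [Module K2 V] [Finite V]
    (G : Subgroup (V ≃ₗ[K2] V)) (hD : (natural G).TT) (h32 : 32 ≤ Nat.card V)
    {l : Module.Dual K2 V} (hl : l ≠ 0)
    (hinj : Function.Injective ((natural G).flip.quot l).act')
    (hsurj : Function.Surjective ((natural G).flip.quot l).act') : False := by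
  classical
  set D := natural G
  set W := D.flip.perp (Submodule.span K2 ({l} : Set (Module.Dual K2 V)))
  have memW : ∀ v, v ∈ W ↔ l v = 0 := fun v => D.flip.mem_perp_one
  set ρ : D.flip.stab l →* (W ≃ₗ[K2] W) := (D.flip.quot l).act'
  let e := MulEquiv.ofBijective ρ ⟨hinj, hsurj⟩
  let A : (W ≃ₗ[K2] W) → (V ≃ₗ[K2] V) := fun f => (e.symm f).1.1
  have hA : ∀ (f : W ≃ₗ[K2] W) (w : W), A f w.1 = (f w).1 := by
    intro f w
    conv_rhs => rw [← e.apply_symm_apply f]
    rfl
  have hAm : ∀ f f', A (f * f') = A f * A f' := fun f f' => by simp [A]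
  have hA1 : A 1 = 1 := by simp [A]
  obtain ⟨u₀, hu₀⟩ : ∃ u, l u = 1 := D.flip.exists_pair_one hl
  have hd : ∀ f, A f u₀ + u₀ ∈ W := by
    intro f
    rw [memW, map_add, hu₀]
    have h1 : D.act' (e.symm f).1 l = l := (e.symm f).2
    have h2 := LinearMap.congr_fun h1 (A f u₀)
    rw [natural_act'] at h2
    rw [← h2]
    show l ((A f).symm (A f u₀)) + 1 = 0
    rw [LinearEquiv.symm_apply_apply, hu₀]
    rfl
  let d : (W ≃ₗ[K2] W) → W := fun f => ⟨A f u₀ + u₀, hd f⟩
  have hcoc : ∀ f f', d (f * f') = d f + f (d f') := by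
    intro f f'
    refine Subtype.ext ?_
    rw [Submodule.coe_add, ← hA]
    show A (f * f') u₀ + u₀ = A f u₀ + u₀ + A f (A f' u₀ + u₀)
    rw [hAm, LinearEquiv.mul_apply, map_add,
      show A f u₀ + u₀ + (A f (A f' u₀) + A f u₀) =
        (A f u₀ + A f u₀) + (A f (A f' u₀) + u₀) by abel, vadd_self, zero_add]
  have hd1 : d 1 = 0 := Subtype.ext (by
    show A 1 u₀ + u₀ = 0
    rw [hA1]; exact vadd_self u₀)
  have hW16 : 16 ≤ Nat.card W := by
    have h : Nat.card W * _ = _ := D.flip.card_perp (Submodule.span K2 ({l} : Set (Module.Dual K2 V)))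
    rw [Duo.card_span_one hl, D.card_eq] at h
    omega
  have hexact : ∀ (c : W) (α : Module.Dual K2 W) (h : α c = 0), α (d (tv c α h)) = 0 ∨ c = 0 := by
    intro c α h
    have hsq : tv c α h * tv c α h = 1 := by
      ext v; simp [LinearEquiv.mul_apply, h, add_assoc, vadd_self]
    have := hcoc (tv c α h) (tv c α h)
    rw [hsq, hd1, tv_apply, ← add_assoc, vadd_self, zero_add] at this
    rcases (show α (d (tv c α h)) = 0 ∨ α (d (tv c α h)) = 1 by
      generalize α (d (tv c α h)) = a; revert a; decide) with h0 | h0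
    · exact Or.inl h0
    · rw [h0, one_smul] at this; exact Or.inr this.symm
  haveI : Module.Finite K2 W := Module.Finite.of_finite
  let ev := Module.Dual.eval K2 W
  have hspan : ∀ (c : W) (α : Module.Dual K2 W) (h : α c = 0), c ≠ 0 →
      d (tv c α h) ∈ Submodule.span K2 ({c} : Set W) := by
    intro c α h hc
    by_contra hne
    obtain ⟨β, hβ, hβc⟩ := Submodule.exists_dual_map_eq_bot_of_notMem hne inferInstance
    have hβ0 : β c = 0 := by
      have : β c ∈ (Submodule.span K2 ({c} : Set W)).map β :=
        Submodule.mem_map_of_mem (Submodule.mem_span_singleton_self c)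
      rwa [hβc, Submodule.mem_bot] at this
    -- a vector killed by both, outside the line of `c`
    obtain ⟨c', hc', hcc'⟩ := exists_ind2_mem hc
      (P := LinearMap.ker α ⊓ LinearMap.ker β) (by
        have hk : ∀ γ : Module.Dual K2 W, Nat.card W ≤ 2 * Nat.card (LinearMap.ker γ) := by
          intro γ
          have h1 := Submodule.card_eq_card_quotient_mul_card (LinearMap.ker γ)
          have h2 : Nat.card (W ⧸ LinearMap.ker γ) ≤ 2 := by
            rw [Nat.card_congr γ.quotKerEquivRange.toEquiv]
            exact (Nat.card_le_card_of_injective (Subtype.val) Subtype.val_injective).trans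
              (Nat.card_zmod 2).le
          rw [h1, mul_comm]
          exact Nat.mul_le_mul_right _ h2
        have h3 := card_sup_mul_inf (LinearMap.ker α) (LinearMap.ker β)
        have h4 : Nat.card ↥(LinearMap.ker α ⊔ LinearMap.ker β) ≤ Nat.card W :=
          Nat.card_le_card_of_injective (Subtype.val) Subtype.val_injective
        have h5 := Nat.mul_le_mul (hk α) (hk β)
        rw [mul_mul_mul_comm, ← h3, mul_left_comm] at h5
        have h6 := h5.trans (Nat.mul_le_mul_right _ h4)
        have h7 := Nat.le_of_mul_le_mul_left h6 Nat.card_pos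
        omega)
    have hαc' : α c' = 0 := hc'.1
    have hβc' : β c' = 0 := hc'.2
    have hcomm : tv c α h * tv c' β hβc' = tv c' β hβc' * tv c α h := by
      ext v
      simp [LinearEquiv.mul_apply, hαc', hβ0, add_assoc, add_comm (β v • c'.1)]
    have := congrArg d hcomm
    rw [hcoc, hcoc, tv_apply, tv_apply,
      show d (tv c α h) + (d (tv c' β hβc') + α (d (tv c' β hβc')) • c) =
        (d (tv c α h) + d (tv c' β hβc')) + α (d (tv c' β hβc')) • c by abel,
      show d (tv c' β hβc') + (d (tv c α h) + β (d (tv c α h)) • c') =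
        (d (tv c α h) + d (tv c' β hβc')) + β (d (tv c α h)) • c' by abel,
      add_left_cancel_iff, k2_eq_one hβ, one_smul] at this
    rcases k2_smul_cases (α (d (tv c' β hβc'))) c with e0 | e0 <;> rw [e0] at this
    · exact hcc'.2.1 this.symm
    · exact hcc'.2.2 this
  -- the coefficient
  let ε : W → Module.Dual K2 W → K2 := fun c α =>
    if h : α c = 0 then (if d (tv c α h) = 0 then 0 else 1) else 0
  have hε : ∀ c α (h : α c = 0), c ≠ 0 → d (tv c α h) = ε c α • c := by
    intro c α h hc
    simp only [ε, dif_pos h]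
    rcases mem_span_one.1 (hspan c α h hc) with e0 | e0 <;> rw [e0]
    · simp
    · rw [if_neg hc, one_smul]
  have hsame : ∀ α c c', α c = 0 → α c' = 0 → c ≠ 0 → c' ≠ 0 → ε c α = ε c' α := by
    intro α c c' h h' hc hc'
    by_cases e0 : c = c'
    · rw [e0]
    have h'' : α (c + c') = 0 := by simp [h, h']
    have hs : c + c' ≠ 0 := fun hh => e0 (add_eq_zero_iff_eq'.1 hh)
    have := congrArg d (tv_mul_same_l h h')
    rw [hcoc, tv_apply, (hexact c' α h').resolve_right hc', zero_smul, add_zero, hε c α h hc,
      hε c' α h' hc', hε _ α h'' hs] at this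
    rcases (show ∀ a : K2, a = 0 ∨ a = 1 by decide) (ε c α) with a | a <;>
      rcases (show ∀ a : K2, a = 0 ∨ a = 1 by decide) (ε c' α) with b | b <;>
      rcases (show ∀ a : K2, a = 0 ∨ a = 1 by decide) (ε (c + c') α) with k | k <;>
      simp [a, b, k] at this ⊢ <;>
      first | exact hs this | exact hs this.symm | exact hc this | exact hc' this |
        exact hc this.symm | exact hc' this.symm
  have hcom : ∀ α β : Module.Dual K2 W, ∃ c : W, c ≠ 0 ∧ α c = 0 ∧ β c = 0 := by
    intro α β
    by_contra hne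
    push Not at hne
    have hinj' : Function.Injective (α.prod β) := by
      rw [injective_iff_map_eq_zero]
      intro c hc
      by_contra hc0
      exact hne c hc0 (congrArg Prod.fst hc) (congrArg Prod.snd hc)
    have := Nat.card_le_card_of_injective _ hinj'
    rw [Nat.card_prod, Nat.card_zmod] at this
    omega
  let cf : Module.Dual K2 W → W := fun α => (hcom α α).choose
  have hcf : ∀ α, cf α ≠ 0 ∧ α (cf α) = 0 := fun α =>
    ⟨(hcom α α).choose_spec.1, (hcom α α).choose_spec.2.1⟩
  let η : Module.Dual K2 W →ₗ[K2] K2 := (AddMonoidHom.mk' (fun α => ε (cf α) α) (fun α β => by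
    obtain ⟨c, hc, hα, hβ⟩ := hcom α β
    have hs : (α + β) c = 0 := by simp [hα, hβ]
    rw [hsame α (cf α) c (hcf α).2 hα (hcf α).1 hc, hsame β (cf β) c (hcf β).2 hβ (hcf β).1 hc,
      hsame (α + β) (cf (α + β)) c (hcf _).2 hs (hcf _).1 hc]
    have := congrArg d (tv_mul_same_c hα hβ)
    rw [hcoc, hε c α hα hc, hε c β hβ hc, hε c _ hs hc, tv_apply, map_smul, hα, smul_zero,
      zero_smul, add_zero, ← add_smul] at this
    exact (smul_left_injective K2 hc this).symm)).toZModLinearMap 2
  obtain ⟨v₀, hv₀⟩ := (Module.evalEquiv K2 W).surjective η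
  set u := u₀ + v₀.1
  have hfixu : ∀ (c : W) (α : Module.Dual K2 W) (h : α c = 0), c ≠ 0 → A (tv c α h) u = u := by
    intro c α h hc
    have h1 : A (tv c α h) u₀ = u₀ + (ε c α • c).1 := by
      rw [← hε c α h hc]
      show _ = u₀ + (A (tv c α h) u₀ + u₀)
      rw [add_comm (A (tv c α h) u₀) u₀, add_add_cancel_left']
    have h2 : α v₀ = ε c α := by
      have := LinearMap.congr_fun hv₀ α
      rw [Module.evalEquiv_apply, Module.Dual.eval_apply] at this
      rw [this]
      exact hsame α (cf α) c (hcf α).2 h (hcf α).1 hc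
    rw [map_add, h1, hA, tv_apply, h2, Submodule.coe_add]
    rw [show u₀ + (ε c α • c).1 + (v₀.1 + (ε c α • c).1) =
      u₀ + v₀.1 + ((ε c α • c).1 + (ε c α • c).1) by abel, vadd_self, add_zero]
  let F : Subgroup (W ≃ₗ[K2] W) :=
    { carrier := {f | A f u = u}
      mul_mem' := fun {a b} ha hb => by
        show A (a * b) u = u
        rw [hAm, LinearEquiv.mul_apply, show A b u = u from hb, show A a u = u from ha]
      one_mem' := by show A 1 u = u; rw [hA1]; rfl
      inv_mem' := fun {a} ha => by
        show A a⁻¹ u = u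
        conv_lhs => rw [← show A a u = u from ha]
        rw [← LinearEquiv.mul_apply, ← hAm, inv_mul_cancel, hA1]
        rfl }
  have hF : F = ⊤ := eq_top_of_tv F fun c α h hc _ => hfixu c α h hc
  -- but the stabiliser of `l` moves `u`
  obtain ⟨w, hw, hw0⟩ := exists_not_mem_sub (P := (⊥ : Submodule K2 V)) (Q := W) (by
    rw [show Nat.card (⊥ : Submodule K2 V) = 1 from Nat.card_unique]; omega)
  rw [Submodule.mem_bot] at hw0
  have hu : l u = 1 := by rw [map_add, hu₀, (memW _).1 v₀.2, add_zero]
  obtain ⟨g, -, g2, g3⟩ := hD.affine (x := w) (l := l) hw0 hl ((memW w).1 hw) (z := u)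
    (z' := u + w) hu (by show l (u + w) = 1; rw [map_add, hu, (memW w).1 hw, add_zero])
  have : A (ρ ⟨g, g2⟩) u = u := by
    have : ρ ⟨g, g2⟩ ∈ F := hF ▸ Subgroup.mem_top _
    exact this
  rw [show A (ρ ⟨g, g2⟩) = g.1 by
    show (e.symm (e ⟨g, g2⟩)).1.1 = g.1
    rw [e.symm_apply_apply]] at this
  rw [natural_act, this] at g3
  exact hw0 (by simpa using g3)

lemma card_aut_three {V : Type*} [AddCommGroup V] [Module K2 V] [Finite V]
    (hn : Module.finrank K2 V = 3) : Nat.card (V ≃ₗ[K2] V) = 168 := by
  haveI : Module.Finite K2 V := Module.Finite.of_finite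
  let b := Module.finBasisOfFinrankEq K2 V hn
  rw [← Nat.card_congr (LinearMap.GeneralLinearGroup.generalLinearEquiv K2 V).toEquiv,
    ← Nat.card_congr (Units.mapEquiv (LinearMap.toMatrixAlgEquiv b).toMulEquiv).toEquiv.symm]
  rw [show (Matrix (Fin 3) (Fin 3) K2)ˣ = GL (Fin 3) K2 from rfl, Matrix.card_GL_field]
  simp [Fin.prod_univ_three]

/-- A group of linear maps over the field with two elements, transitive on pairs of independent
vectors in dimension at least three, is the whole group or has order 2520 in dimension four. -/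
theorem eq_top_or_order_2520 (n : ℕ) : ∀ {V : Type u} [AddCommGroup V] [Module K2 V] [Finite V],
    Module.finrank K2 V = n → 3 ≤ n → ∀ G : Subgroup (V ≃ₗ[K2] V),
      (∀ x y x' y' : V, Ind2 x y → Ind2 x' y' → ∃ g ∈ G, g x = x' ∧ g y = y') →
        G = ⊤ ∨ (n = 4 ∧ Nat.card G = 2520) := by
  induction n with
  | zero => intro V _ _ _ _ h3; omega
  | succ m ih =>
    intro V _ _ _ hn h3 G hG
    classical
    haveI : Module.Finite K2 V := Module.Finite.of_finite
    set D := natural G
    have hV : Nat.card V = 2 ^ (m + 1) := by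
      rw [Module.natCard_eq_pow_finrank (K := K2) (V := V), Nat.card_zmod, hn]
    have hD : D.TT := ⟨fun x y x' y' h h' => by
      obtain ⟨g, hg, g1, g2⟩ := hG x y x' y' h h'
      exact ⟨⟨g, hg⟩, g1, g2⟩, by
      rw [hV]; exact (show 8 = 2 ^ 3 by norm_num) ▸ Nat.pow_le_pow_right (by omega) h3⟩
    obtain ⟨x, hx⟩ := Duo.exists_not_mem_of_card (P := (⊥ : Submodule K2 V)) (by
      rw [show Nat.card (⊥ : Submodule K2 V) = 1 from Nat.card_unique]
      have := hD.big
      omega)
    rw [Submodule.mem_bot] at hx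
    obtain ⟨y, hxy⟩ := hD.exists_ind2 hx
    obtain ⟨l, hlP, -⟩ := D.exists_fun ((ind2_iff hx).1 hxy)
    obtain ⟨l₁, hl₁⟩ := D.exists_pair_one hx
    by_cases htv : ∃ g ∈ G, g ≠ 1 ∧ ∃ k : Module.Dual K2 V, k ≠ 0 ∧ ∀ v, k v = 0 → g v = v
    · obtain ⟨g, hg, hg1, k, hk, hfix⟩ := htv
      exact Or.inl (eq_top_of_exists_tv G hD hg hg1 hk hfix)
    push Not at htv
    have hm3 : 3 ≤ m := by
      by_contra hlt
      -- in dimension three a colour is a transvection
      obtain ⟨z, hz⟩ := Duo.exists_not_mem_of_card (P := Submodule.span K2 ({x, y} : Set V)) (by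
        rw [Duo.card_span_two hxy]; have := hD.big; omega)
      obtain ⟨g, g1, g2, g3⟩ := hD.colour ((ind3_iff hxy).2 hz)
      obtain ⟨k, hk, hkz⟩ := D.exists_fun hz
      have hg1 : g.1 ≠ 1 := fun e => hxy.2.1 (by
        rw [natural_act, e] at g3
        simpa using g3)
      obtain ⟨v, hv, hvg⟩ := htv g.1 g.2 hg1 k (fun e => by rw [e] at hkz; simp at hkz)
      refine hvg ?_
      have e : Submodule.span K2 ({x, y} : Set V) ⊔ Submodule.span K2 {z} = ⊤ := by
        refine eq_of_le_of_card le_top ?_
        rw [card_top_submodule, hV, card_sup_one hz, Duo.card_span_two hxy,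
          show m + 1 = 3 by omega]
        norm_num
      have hv' : v ∈ Submodule.span K2 ({x, y} : Set V) ⊔ Submodule.span K2 {z} :=
        e ▸ Submodule.mem_top
      rcases mem_sup_one.1 hv' with hh | hh
      · rcases mem_span_two.1 hh with rfl | rfl | rfl | rfl
        · simp
        · exact g1
        · exact g2
        · rw [map_add]; exact congrArg₂ (· + ·) g1 g2
      · have := hk _ hh
        rw [map_add, LinearMap.add_apply, hkz, natural_pair, hv] at this
        simp at this
    have h16 : 16 ≤ Nat.card V := by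
      rw [hV]; exact (show 16 = 2 ^ 4 by norm_num) ▸ Nat.pow_le_pow_right (by omega) (by omega)
    have hl : l₁ ≠ 0 := by rintro rfl; simp at hl₁
    set W := D.flip.perp (Submodule.span K2 ({l₁} : Set (Module.Dual K2 V)))
    set ρ : D.flip.stab l₁ →* (W ≃ₗ[K2] W) := (D.flip.quot l₁).act'
    have hinj : Function.Injective ρ := by
      rw [injective_iff_map_eq_one]
      intro g hg
      by_contra hne
      obtain ⟨v, hv, hvg⟩ := htv g.1.1 g.1.2 (fun e => hne (Subtype.ext (Subtype.ext e))) l₁ hl
      refine hvg ?_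
      have := LinearEquiv.congr_fun hg (⟨v, D.flip.mem_perp_one.2 hv⟩ : W)
      exact congrArg Subtype.val this
    haveI : Module.Finite K2 W := Module.Finite.of_finite
    have hWn : Module.finrank K2 W = m := by
      have h := D.flip.card_perp (Submodule.span K2 ({l₁} : Set (Module.Dual K2 V)))
      rw [Duo.card_span_one hl, D.card_eq, hV, Module.natCard_eq_pow_finrank (K := K2) (V := W),
        Nat.card_zmod, ← pow_succ] at h
      have := Nat.pow_right_injective le_rfl h
      omega
    have hR : ∀ a b a' b' : W, Ind2 a b → Ind2 a' b' →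
        ∃ f ∈ ρ.range, f a = a' ∧ f b = b' := by
      intro a b a' b' h h'
      have i1 : Ind2 a.1 b.1 := ⟨fun e => h.1 (Subtype.ext e), fun e => h.2.1 (Subtype.ext e),
        fun e => h.2.2 (Subtype.ext e)⟩
      have i2 : Ind2 a'.1 b'.1 := ⟨fun e => h'.1 (Subtype.ext e), fun e => h'.2.1 (Subtype.ext e),
        fun e => h'.2.2 (Subtype.ext e)⟩
      obtain ⟨g, g1, g2⟩ := hD.tt a.1 b.1 a'.1 b'.1 i1 i2
      obtain ⟨k, ⟨k1, k2⟩, k3⟩ := D.trans_dual_of_trans (D.stab a'.1 ⊓ D.stab b'.1)
        (Submodule.span K2 ({a'.1, b'.1} : Set V))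
        (fun z w hz hw => by
          obtain ⟨k, k1, k2, k3⟩ := hD.outside_line h16 ((ind3_iff i2).2 hz) ((ind3_iff i2).2 hw)
          exact ⟨k, ⟨k1, k2⟩, k3⟩)
        (m := D.act' g l₁) (m' := l₁) (by simpa using hl) hl (by
          intro p hp
          have e1 : D.pair a'.1 (D.act' g l₁) = 0 := by
            rw [← g1, D.inv]; exact D.flip.mem_perp_one.1 a.2
          have e2 : D.pair b'.1 (D.act' g l₁) = 0 := by
            rw [← g2, D.inv]; exact D.flip.mem_perp_one.1 b.2
          have e3 : D.pair a'.1 l₁ = 0 := D.flip.mem_perp_one.1 a'.2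
          have e4 : D.pair b'.1 l₁ = 0 := D.flip.mem_perp_one.1 b'.2
          rcases mem_span_two.1 hp with rfl | rfl | rfl | rfl <;> simp [e1, e2, e3, e4])
      refine ⟨ρ ⟨k * g, by show D.act' (k * g) l₁ = l₁; rw [D.act'_mul, k3]⟩, ⟨_, rfl⟩,
        Subtype.ext ?_, Subtype.ext ?_⟩
      · show D.act (k * g) a.1 = a'.1
        rw [D.act_mul, g1]; exact k1
      · show D.act (k * g) b.1 = b'.1
        rw [D.act_mul, g2]; exact k2
    have hcardρ : Nat.card ρ.range = Nat.card (D.flip.stab l₁) :=
      (Nat.card_congr (MonoidHom.ofInjective hinj).toEquiv).symm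
    have hGc := card_orbit_mul hD hl
    rw [hV, ← hcardρ] at hGc
    rcases ih hWn hm3 ρ.range hR with htop | ⟨rfl, hc⟩
    · by_cases hm : m = 3
      · subst hm
        right
        refine ⟨rfl, ?_⟩
        rw [hGc, htop, Nat.card_congr Subgroup.topEquiv.toEquiv, card_aut_three hWn]
        norm_num
      · refine (no_lift G hD ?_ hl hinj (MonoidHom.range_eq_top.1 htop)).elim
        rw [hV]; exact (show 32 = 2 ^ 5 by norm_num) ▸ Nat.pow_le_pow_right (by omega) (by omega)
    · refine (no_order_31_2520 (by rw [hV]; norm_num) G ?_).elim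
      rw [hGc, hc]; norm_num

end CfsgLib.LinTwo
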