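import Cfsg.Agent.Lib.LinTwo.Count

/-!
# Consequences of the numerical identities
-/

namespace CfsgLib.LinTwo

open scoped Classical in
lemma card_ind2 {V : Type*} [AddCommGroup V] [Module K2 V] [Fintype V] {P : Submodule K2 V} {v : V}
    (hv : v ∈ P) (hv0 : v ≠ 0) :
    (Finset.univ.filter fun u => u ∈ P ∧ Ind2 v u).card + 2 = Nat.card P := by
  have e : (Finset.univ.filter fun u => u ∈ P) =
      insert 0 (insert v (Finset.univ.filter fun u => u ∈ P ∧ Ind2 v u)) := by
    ext u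
    simp only [Finset.mem_insert, Finset.mem_filter, Finset.mem_univ, true_and]
    constructor
    · intro hu
      by_cases h0 : u = 0
      · exact Or.inl h0
      by_cases h1 : u = v
      · exact Or.inr (Or.inl h1)
      exact Or.inr (Or.inr ⟨hu, hv0, h0, Ne.symm h1⟩)
    · rintro (rfl | rfl | h)
      · exact zero_mem _
      · exact hv
      · exact h.1
  rw [Nat.card_eq_fintype_card, Fintype.card_subtype, e, Finset.card_insert_of_notMem,
    Finset.card_insert_of_notMem]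
  · simp only [Finset.mem_filter]
    exact fun h => h.2.2.2.2 rfl
  · simp only [Finset.mem_insert, Finset.mem_filter, not_or]
    exact ⟨hv0.symm, fun h => h.2.2.2.1 rfl⟩

namespace Duo
namespace Sys

variable {G E E' : Type*} [Group G] [AddCommGroup E] [Module K2 E] [AddCommGroup E'] [Module K2 E']
variable [Finite G] [Finite E] [Finite E'] {D : Duo G E E'}
variable (Y : D.Sys) {x y z w : E} {l μ ν : E'}

lemma adj (hz : D.Inc z l) (hw : D.Inc w l) (hμ : μ ∈ Y.H'.S l z) (hlμ : Ind2 l μ)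
    (hS : ∀ p ∈ Y.H.S w l, D.pair p μ = 0) : w ∈ Y.Z z l := by
  by_contra hne
  have hzw : z ∉ Y.Z w l := fun h => hne (Y.Z_symm hw hz h)
  obtain ⟨n, hn4, hn, han⟩ := Y.exists_dim
  have h2 := Y.card_S_inf hw hz.2.2 hzw
  have hsup := card_sup_mul_inf (Y.H.S w l) (Y.Z z l)
  rw [h2, Y.card_S hw, Y.card_Z_eq hn (by omega) hz, ← pow_add] at hsup
  set W := D.flip.perp (Submodule.span K2 ({l} : Set E'))
  have hW : Nat.card W = 2 ^ (n - 1) := card_W hn (by omega) hz.2.1
  have hle : Y.H.S w l ⊔ Y.Z z l ≤ W := sup_le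
    (fun u hu => D.flip.mem_perp_one.2 (Y.H.S_perp hw hu))
    (fun u hu => D.flip.mem_perp_one.2 (Y.Z_perp hz hu))
  have heq : Y.H.S w l ⊔ Y.Z z l = W := eq_of_le_of_card hle (by
    have e : 2 ^ (Y.H.a + (n - Y.H.a)) = 2 ^ (n - 1) * 2 := by
      rw [← pow_succ]; congr 1; omega
    omega)
  have hμW : μ ∈ D.perp W := by
    rw [← heq, D.perp_sup]
    exact ⟨hS, fun p hp => Y.mem_Z.1 hp μ hμ⟩
  rw [show D.perp W = Submodule.span K2 ({l} : Set E') from D.flip.perp_perp _] at hμW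
  exact (ind2_iff hlμ.1).1 hlμ hμW

lemma S_le_U (h : D.Inc x l) (hy : y ∈ Y.H.S x l) (hxy : Ind2 x y) :
    Y.H.S x l ≤ Y.H.U x y := by
  intro y' hy'
  by_contra hne
  obtain ⟨ν, hν, hν1⟩ := D.exists_fun hne
  have hν0 : ν ≠ 0 := by rintro rfl; simp at hν1
  have hxν : D.Inc x ν := ⟨h.1, hν0, hν x (Y.H.memU_left hxy)⟩
  have hyZ : y ∈ Y.Z x ν :=
    ((Y.key hxν).1 y hxy (hν y (Y.H.memU_right hxy))).2 hν
  have := Y.flip.adj h.flip hxν.flip (μ := y) hy hxy fun p hp => Y.mem_Z.1 hyZ p hp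
  exact zero_ne_one ((this y' hy').symm.trans hν1)

lemma card_S'_inf (h : D.Inc x l) (hy : y ∈ Y.H.S x l) (hxy : Ind2 x y) :
    2 * Nat.card ↥(Y.H'.S l x ⊓ Y.H'.S l y) = 2 ^ Y.H.a := by
  have hy' : D.Inc y l := ⟨hxy.2.1, h.2.1, Y.H.S_perp h hy⟩
  rw [Y.S'_eq h, Y.S'_eq hy', ← D.perp_sup]
  obtain ⟨n, hn4, hn, han⟩ := Y.exists_dim
  have h1 := Y.card_Z_inf h hy hxy
  have h2 := card_sup_mul_inf (Y.Z x l) (Y.Z y l)
  have h3 := D.card_perp (Y.Z x l ⊔ Y.Z y l)
  rw [Y.card_Z_eq hn (by omega) h] at h1 h2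
  rw [Y.card_Z_eq hn (by omega) hy'] at h2
  rw [hn] at h3
  have hq : 0 < 2 ^ (n - Y.H.a) := by positivity
  have h4 : Nat.card ↥(Y.Z x l ⊔ Y.Z y l) = 2 * 2 ^ (n - Y.H.a) := by
    refine Nat.eq_of_mul_eq_mul_right (m := Nat.card ↥(Y.Z x l ⊓ Y.Z y l)) ?_ ?_
    · omega
    · rw [h2, mul_assoc, mul_comm (2 ^ (n - Y.H.a)) (Nat.card _), ← mul_assoc, h1]
  rw [h4, show 2 ^ n = 2 ^ Y.H.a * 2 ^ (n - Y.H.a) by rw [← pow_add]; congr 1; omega,
    ← mul_assoc, mul_comm _ 2] at h3
  exact Nat.eq_of_mul_eq_mul_right hq h3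

open scoped Classical in
lemma card_J [Fintype E] (hlμ : Ind2 l μ) :
    (Finset.univ.filter fun z => D.Inc z l ∧ μ ∈ Y.H'.S l z).card + 1 = 2 ^ (Y.H.a - 1) := by
  letI := Fintype.ofFinite E'
  obtain ⟨n, hn4, hn, han⟩ := Y.exists_dim
  let P : Finset E := Finset.univ.filter fun z => D.Inc z l
  let M : Finset E' := Finset.univ.filter fun ν => Ind2 l ν
  have hsum := Finset.sum_card_bipartiteAbove_eq_sum_card_bipartiteBelow
    (fun z ν => ν ∈ Y.H'.S l z) (s := P) (t := M)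
  have hM : M.card + 2 = 2 ^ n := by
    rw [← hn, ← D.card_eq, ← card_top_submodule, ← card_ind2 (Submodule.mem_top (x := l)) hlμ.1]
    simp [M]
  have hP : P.card + 1 = 2 ^ (n - 1) := by
    have e : (Finset.univ.filter fun z => z ∈ D.flip.perp (Submodule.span K2 ({l} : Set E'))) =
        insert 0 P := by
      ext z
      simp only [Finset.mem_insert, Finset.mem_filter, Finset.mem_univ, true_and, P,
        D.flip.mem_perp_one, flip_pair]
      constructor
      · intro hh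
        by_cases hz : z = 0
        · exact Or.inl hz
        · exact Or.inr ⟨hz, hlμ.1, hh⟩
      · rintro (rfl | hh)
        · simp
        · exact hh.2.2
    rw [← card_W (D := D) hn (by omega) hlμ.1, Nat.card_eq_fintype_card, Fintype.card_subtype, e,
      Finset.card_insert_of_notMem (fun h0 => (Finset.mem_filter.1 h0).2.1 rfl)]
  have hcol : ∀ z ∈ P, (M.bipartiteAbove (fun z ν => ν ∈ Y.H'.S l z) z).card + 2 = 2 ^ Y.H.a := by
    intro z hz
    simp only [P, Finset.mem_filter, Finset.mem_univ, true_and] at hz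
    rw [← Y.card_S' hz, ← card_ind2 (Y.H'.memS hz.flip) hlμ.1]
    congr 2
    ext ν
    simp [M, Finset.mem_bipartiteAbove, and_comm]
  have hrow : ∀ ν ∈ M, (P.bipartiteBelow (fun z ν => ν ∈ Y.H'.S l z) ν).card =
      (Finset.univ.filter fun z => D.Inc z l ∧ μ ∈ Y.H'.S l z).card := by
    intro ν hν
    simp only [M, Finset.mem_filter, Finset.mem_univ, true_and] at hν
    obtain ⟨g, g1, g2⟩ := Y.tt.flip.tt l ν l μ hν hlμ
    simp only [flip_act] at g1 g2
    refine Finset.card_bij (fun z _ => D.act g z) ?_ (fun _ _ _ _ e => (D.act g).injective e) ?_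
    · intro z hz
      simp only [P, Finset.mem_bipartiteBelow, Finset.mem_filter, Finset.mem_univ, true_and] at hz
      simp only [Finset.mem_filter, Finset.mem_univ, true_and]
      refine ⟨g1 ▸ D.inc_act hz.1 g, ?_⟩
      have := Y.H'.S_act g hz.1.flip hz.2
      simp only [flip_act, flip_act', g1, g2] at this
      exact this
    · intro z hz
      simp only [Finset.mem_filter, Finset.mem_univ, true_and] at hz
      have e1 : D.act' g⁻¹ l = l := by conv_lhs => rw [← g1, D.act'_inv_act]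
      have e2 : D.act' g⁻¹ μ = ν := by rw [← g2, D.act'_inv_act]
      refine ⟨D.act g⁻¹ z, ?_, D.act_act_inv g z⟩
      simp only [P, Finset.mem_bipartiteBelow, Finset.mem_filter, Finset.mem_univ, true_and]
      refine ⟨e1 ▸ D.inc_act hz.1 g⁻¹, ?_⟩
      have := Y.H'.S_act g⁻¹ hz.1.flip hz.2
      simp only [flip_act, flip_act', e1, e2] at this
      exact this
  rw [Finset.sum_congr rfl hrow, Finset.sum_const, smul_eq_mul,
    Finset.sum_congr rfl (g := fun _ => 2 ^ Y.H.a - 2) (fun z hz => by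
      have := hcol z hz; omega), Finset.sum_const, smul_eq_mul] at hsum
  have ha := Y.three_le_a
  have e1 : 2 ^ n = 2 * 2 ^ (n - 1) := by rw [← pow_succ']; congr 1; omega
  have e2 : 2 ^ Y.H.a = 2 * 2 ^ (Y.H.a - 1) := by rw [← pow_succ']; congr 1; omega
  rw [show M.card = 2 * P.card by omega,
    show 2 ^ Y.H.a - 2 = 2 * (2 ^ (Y.H.a - 1) - 1) by omega,
    ← mul_assoc, mul_comm P.card 2] at hsum
  have hP0 : 0 < P.card := by
    have : 2 ^ 1 ≤ 2 ^ (n - 1) := Nat.pow_le_pow_right (by omega) (by omega)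
    omega
  have := Nat.eq_of_mul_eq_mul_left (by omega) hsum
  have := Nat.one_le_two_pow (n := Y.H.a - 1)
  omega

lemma mem_S_of_J (hx : D.Inc x l) (hz : D.Inc z l) (hμ : μ ∈ Y.H'.S l x) (hμ' : μ ∈ Y.H'.S l z)
    (hlμ : Ind2 l μ) : z ∈ Y.H.S x l := by
  classical
  by_cases hzx : z = x
  · subst hzx; exact Y.H.memS hx
  letI := Fintype.ofFinite E
  letI := Fintype.ofFinite E'
  let O : Finset E := Finset.univ.filter fun y => y ∈ Y.H.S x l ∧ Ind2 x y
  let M : Finset E' := Finset.univ.filter fun ν => ν ∈ Y.H'.S l x ∧ Ind2 l ν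
  let J : E' → Finset E := fun ν => Finset.univ.filter fun u => D.Inc u l ∧ ν ∈ Y.H'.S l u
  have hpair : ∀ (P : Submodule K2 E') , l ∈ P →
      (Finset.univ.filter fun ν => ν ∈ P ∧ Ind2 l ν).card + 2 = Nat.card P := by
    intro P hP
    exact card_ind2 hP hlμ.1
  have hO : O.card + 2 = 2 ^ Y.H.a := by
    rw [← Y.card_S hx, ← card_ind2 (Y.H.memS hx) hx.1]
  have hM : M.card + 2 = 2 ^ Y.H.a := by
    rw [← Y.card_S' hx]; exact hpair _ (Y.H'.memS hx.flip)
  have hsum := Finset.sum_card_bipartiteAbove_eq_sum_card_bipartiteBelow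
    (fun ν y => D.Inc y l ∧ ν ∈ Y.H'.S l y) (s := M) (t := O)
  have e2 : 2 ^ Y.H.a = 2 * 2 ^ (Y.H.a - 1) := by
    rw [← pow_succ']; congr 1; have := Y.three_le_a; omega
  have hb : ∀ y ∈ O, (M.bipartiteBelow (fun ν y => D.Inc y l ∧ ν ∈ Y.H'.S l y) y).card =
      2 ^ (Y.H.a - 1) - 2 := by
    intro y hy
    simp only [O, Finset.mem_filter, Finset.mem_univ, true_and] at hy
    have hy' : D.Inc y l := ⟨hy.2.2.1, hx.2.1, Y.H.S_perp hx hy.1⟩
    have h1 := Y.card_S'_inf hx hy.1 hy.2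
    have h2 := hpair (Y.H'.S l x ⊓ Y.H'.S l y) ⟨Y.H'.memS hx.flip, Y.H'.memS hy'.flip⟩
    rw [show M.bipartiteBelow (fun ν y => D.Inc y l ∧ ν ∈ Y.H'.S l y) y =
        Finset.univ.filter fun ν => ν ∈ Y.H'.S l x ⊓ Y.H'.S l y ∧ Ind2 l ν by
      ext ν
      simp [M, Finset.mem_bipartiteBelow, hy', and_assoc, and_comm, and_left_comm]]
    omega
  rw [Finset.sum_congr rfl hb, Finset.sum_const, smul_eq_mul] at hsum
  have hle : ∀ ν ∈ M, O.bipartiteAbove (fun ν y => D.Inc y l ∧ ν ∈ Y.H'.S l y) ν ⊆ (J ν).erase x := by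
    intro ν _ u hu
    simp only [O, J, Finset.mem_bipartiteAbove, Finset.mem_filter, Finset.mem_univ, true_and,
      Finset.mem_erase] at hu ⊢
    exact ⟨hu.1.2.2.2.symm, hu.2⟩
  have hJ : ∀ ν ∈ M, ((J ν).erase x).card = 2 ^ (Y.H.a - 1) - 2 := by
    intro ν hν
    simp only [M, Finset.mem_filter, Finset.mem_univ, true_and] at hν
    have h1 := Y.card_J hν.2
    rw [Finset.card_erase_of_mem (by simp [J, hx, hν.1])]
    show (J ν).card - 1 = _
    simp only [J]
    omega
  have hall := (Finset.sum_eq_sum_iff_of_le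
    (f := fun ν => (O.bipartiteAbove (fun ν y => D.Inc y l ∧ ν ∈ Y.H'.S l y) ν).card)
    (g := fun ν => ((J ν).erase x).card) fun ν hν => Finset.card_le_card (hle ν hν)).1 (by
      rw [hsum, Finset.sum_congr rfl hJ, Finset.sum_const, smul_eq_mul,
        show O.card = M.card by omega]) μ (by simp [M, hμ, hlμ])
  have := Finset.eq_of_subset_of_card_le (hle μ (by simp [M, hμ, hlμ])) hall.ge
  have hz' : z ∈ (J μ).erase x := by simp [J, hz, hμ', hzx]
  rw [← this] at hz'
  simp only [O, Finset.mem_bipartiteAbove, Finset.mem_filter, Finset.mem_univ, true_and] at hz'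
  exact hz'.1.1

lemma Z_inj (hx : D.Inc x l) (hz : D.Inc z l) (e : Y.Z z l = Y.Z x l) : z = x := by
  by_contra hne
  have hcard : ∀ {u v : E}, D.Inc u l → D.Inc v l → Nat.card (Y.Z u l) = Nat.card (Y.Z v l) := by
    intro u v hu hv
    obtain ⟨n, hn4, hn, han⟩ := Y.exists_dim
    rw [Y.card_Z_eq hn (by omega) hu, Y.card_Z_eq hn (by omega) hv]
  let P : Submodule K2 E :=
    { carrier := {u | u = 0 ∨ (D.Inc u l ∧ Y.Z u l = Y.Z x l)}
      zero_mem' := Or.inl rfl
      add_mem' := by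
        intro u v hu hv
        rcases hu with rfl | ⟨hu, eu⟩
        · rwa [zero_add]
        rcases hv with rfl | ⟨hv, ev⟩
        · rw [add_zero]; exact Or.inr ⟨hu, eu⟩
        by_cases huv : u = v
        · exact Or.inl (by rw [huv, vadd_self])
        have hs : D.Inc (u + v) l := ⟨fun h => huv (add_eq_zero_iff_eq'.1 h), hu.2.1,
          by simp [hu.2.2, hv.2.2]⟩
        refine Or.inr ⟨hs, (eq_of_le_of_card (fun w hw => ?_) (hcard hs hx).le).symm⟩
        exact Y.Z_add hu hv huv (eu.symm ▸ hw) (ev.symm ▸ hw)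
      smul_mem' := by
        intro c u hu
        rcases k2_smul_cases c u with h | h <;> rw [h]
        · exact Or.inl rfl
        · exact hu }
  have hxP : x ∈ P := Or.inr ⟨hx, rfl⟩
  have hS := Y.H.S_min P hx (fun p hp => ?_) hxP (fun g g1 g2 p hp => ?_)
    ⟨z, Or.inr ⟨hz, e⟩, hx.1, hz.1, Ne.symm hne⟩
  · obtain ⟨y, hy, hxy⟩ := exists_ind2_mem hx.1 (P := Y.H.S x l) (by
      rw [Y.card_S hx]
      exact (show 4 = 2 ^ 2 by norm_num) ▸ Nat.pow_le_pow_right (by omega) Y.H.two_le_a)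
    rcases hS hy with h | ⟨hy', ey⟩
    · exact hxy.2.1 h
    · have h1 := Y.card_Z_inf hx hy hxy
      rw [ey, inf_idem] at h1
      have : 0 < Nat.card (Y.Z x l) := Nat.card_pos
      omega
  · rcases hp with rfl | ⟨hp, -⟩
    · simp
    · exact hp.2.2
  · rcases hp with rfl | ⟨hp, ep⟩
    · exact Or.inl (map_zero _)
    · have hp' : D.Inc (D.act g p) l := by simpa [g2] using D.inc_act hp g
      refine Or.inr ⟨hp', (eq_of_le_of_card (fun w hw => ?_) (hcard hp' hx).le).symm⟩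
      have h1 := Y.Z_act g⁻¹ hx hw
      rw [show D.act g⁻¹ x = x by conv_lhs => rw [← g1, D.act_inv_act],
        show D.act' g⁻¹ l = l by conv_lhs => rw [← g2, D.act'_inv_act], ← ep] at h1
      have h2 := Y.Z_act g hp h1
      rwa [D.act_act_inv, g2] at h2

theorem hyper_surj (hxy : Ind2 x y) (hxν : D.pair x ν = 0) (hyν : D.pair y ν = 0)
    (hU : ∃ p ∈ Y.H.U x y, D.pair p ν = 1) :
    ∃ m, D.Inc x m ∧ y ∈ Y.H.S x m ∧ ∀ p ∈ Y.H.U x y, D.pair p ν = 0 → p ∈ Y.H.S x m := by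
  classical
  letI := Fintype.ofFinite E
  letI := Fintype.ofFinite E'
  obtain ⟨n, hn4, hn, han⟩ := Y.exists_dim
  let Lset : Finset E' := Finset.univ.filter fun m => D.flip.Inc m x ∧ y ∈ Y.H.S x m
  have hL : Lset.card + 1 = 2 ^ (Y.H.a - 1) := by
    have := Y.flip.card_J (l := x) (μ := y) hxy
    rw [show Y.flip.H.a = Y.H.a from Y.a'_eq.trans Y.b_eq] at this
    exact this
  let R : Finset E' := Finset.univ.filter fun m =>
    m ∈ D.perp (Submodule.span K2 ({x, y} : Set E)) ∧ m ∉ D.perp (Y.H.U x y)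
  let F : E' → Finset E' := fun m => Finset.univ.filter fun k =>
    k ∈ D.perp (Y.H.S x m) ∧ k ∉ D.perp (Y.H.U x y)
  have hLs : ∀ m ∈ Lset, D.Inc x m ∧ y ∈ Y.H.S x m := by
    intro m hm
    simp only [Lset, Finset.mem_filter, Finset.mem_univ, true_and] at hm
    exact ⟨hm.1.flip, hm.2⟩
  have hline : Submodule.span K2 ({x, y} : Set E) ≤ Y.H.U x y := Submodule.span_le.2 (by
    simp [Set.insert_subset_iff, Y.H.memU_left hxy, Y.H.memU_right hxy])
  have hcd : ∀ P : Submodule K2 E, P ≤ Y.H.U x y →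
      (Finset.univ.filter fun k => k ∈ D.perp P ∧ k ∉ D.perp (Y.H.U x y)).card +
        Nat.card (D.perp (Y.H.U x y)) = Nat.card (D.perp P) := by
    intro P hP
    rw [Nat.card_eq_fintype_card, Nat.card_eq_fintype_card, Fintype.card_subtype,
      Fintype.card_subtype, ← Finset.card_union_of_disjoint]
    · congr 1
      ext k
      simp only [Finset.mem_union, Finset.mem_filter, Finset.mem_univ, true_and]
      have : k ∈ D.perp (Y.H.U x y) → k ∈ D.perp P := fun h => D.perp_anti hP h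
      tauto
    · simp only [Finset.disjoint_left, Finset.mem_filter, Finset.mem_univ, true_and]
      tauto
  have cU : Nat.card (D.perp (Y.H.U x y)) = 2 ^ (n - Y.H.a - 1) := by
    have h := D.card_perp (Y.H.U x y)
    rw [Y.H.cardU hxy, hn, show 2 ^ n = 2 ^ (n - Y.H.a - 1) * 2 ^ (Y.H.a + 1) by
      rw [← pow_add]; congr 1; omega] at h
    exact Nat.eq_of_mul_eq_mul_right (by positivity) h
  have cL : Nat.card (D.perp (Submodule.span K2 ({x, y} : Set E))) = 2 ^ (n - 2) := by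
    have h := D.card_perp (Submodule.span K2 ({x, y} : Set E))
    rw [card_span_two hxy, hn, show 2 ^ n = 2 ^ (n - 2) * 4 by
      rw [show (4 : ℕ) = 2 ^ 2 by norm_num, ← pow_add]; congr 1; omega] at h
    exact Nat.eq_of_mul_eq_mul_right (by norm_num) h
  have hsplit : 2 ^ (n - Y.H.a) = 2 * 2 ^ (n - Y.H.a - 1) := by
    rw [← pow_succ']; congr 1; omega
  have hF : ∀ m ∈ Lset, (F m).card = 2 ^ (n - Y.H.a - 1) := by
    intro m hm
    obtain ⟨hi, hym⟩ := hLs m hm
    have h := hcd _ (Y.S_le_U hi hym hxy)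
    have hS := D.card_perp (Y.H.S x m)
    rw [Y.card_S hi, hn, show 2 ^ n = 2 ^ (n - Y.H.a) * 2 ^ Y.H.a by
      rw [← pow_add]; congr 1; omega] at hS
    rw [Nat.eq_of_mul_eq_mul_right (by positivity) hS, cU] at h
    simp only [F]
    omega
  have hker : ∀ m ∈ Lset, ∀ k ∈ F m,
      Y.H.S x m = Y.H.U x y ⊓ D.flip.perp (Submodule.span K2 ({k} : Set E')) := by
    intro m hm k hk
    obtain ⟨hi, hym⟩ := hLs m hm
    simp only [F, Finset.mem_filter, Finset.mem_univ, true_and] at hk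
    refine eq_of_le_of_card (le_inf (Y.S_le_U hi hym hxy)
      fun p hp => D.flip.mem_perp_one.2 (hk.1 p hp)) ?_
    have hlt : Y.H.U x y ⊓ D.flip.perp (Submodule.span K2 ({k} : Set E')) < Y.H.U x y := by
      refine lt_of_le_of_ne inf_le_left fun he => hk.2 fun p hp => ?_
      rw [← he] at hp
      exact D.flip.mem_perp_one.1 hp.2
    have := two_mul_card_le hlt
    rw [Y.H.cardU hxy, pow_succ'] at this
    rw [Y.card_S hi]
    omega
  have hdisj : (Lset : Set E').PairwiseDisjoint F := by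
    intro m hm m' hm' hne
    refine Finset.disjoint_left.2 fun k hk hk' => hne ?_
    have e : Y.H.S x m = Y.H.S x m' := (hker m hm k hk).trans (hker m' hm' k hk').symm
    have h1 : Y.flip.Z m x = Y.flip.Z m' x := congrArg D.perp e
    exact Y.flip.Z_inj (hLs m' hm').1.flip (hLs m hm).1.flip h1
  have hsub : Lset.biUnion F ⊆ R := by
    intro k hk
    obtain ⟨m, hm, hk⟩ := Finset.mem_biUnion.1 hk
    obtain ⟨hi, hym⟩ := hLs m hm
    simp only [F, R, Finset.mem_filter, Finset.mem_univ, true_and] at hk ⊢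
    refine ⟨D.perp_anti (Submodule.span_le.2 ?_) hk.1, hk.2⟩
    simp [Set.insert_subset_iff, Y.H.memS hi, hym]
  have heq : Lset.biUnion F = R := by
    refine Finset.eq_of_subset_of_card_le hsub ?_
    rw [Finset.card_biUnion hdisj, Finset.sum_congr rfl hF, Finset.sum_const, smul_eq_mul]
    have h := hcd _ hline
    rw [cU, cL] at h
    have e : 2 ^ (n - 2) = 2 ^ (Y.H.a - 1) * 2 ^ (n - Y.H.a - 1) := by
      rw [← pow_add]; congr 1; have := Y.three_le_a; omega
    rw [e, ← hL, add_mul, one_mul] at h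
    simp only [R]
    omega
  have hν : ν ∈ R := by
    simp only [R, Finset.mem_filter, Finset.mem_univ, true_and]
    refine ⟨fun p hp => ?_, fun h => ?_⟩
    · rcases mem_span_two.1 hp with rfl | rfl | rfl | rfl <;> simp [hxν, hyν]
    · obtain ⟨p, hp, hp1⟩ := hU
      exact zero_ne_one ((h p hp).symm.trans hp1)
  rw [← heq] at hν
  obtain ⟨m, hm, hν⟩ := Finset.mem_biUnion.1 hν
  refine ⟨m, (hLs m hm).1, (hLs m hm).2, fun p hp hpν => ?_⟩
  rw [hker m hm ν hν]
  exact ⟨hp, D.flip.mem_perp_one.2 hpν⟩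

end Sys
end Duo
end CfsgLib.LinTwo
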