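import Cfsg.Agent.Lib.LinTwo.Half

/-!
# Both halves together: the subspace `Z x l`
-/

namespace CfsgLib.LinTwo

variable {G E E' : Type*} [Group G] [AddCommGroup E] [Module K2 E] [AddCommGroup E'] [Module K2 E']

namespace Duo

variable {D : Duo G E E'}

/-- The data attached to both members of a dual pair. -/
structure Sys (D : Duo G E E') where
  tt : D.TT
  H : D.Half
  H' : D.flip.Half

variable [Finite G] [Finite E] [Finite E']

lemma TwoPlanes.flip (hD : D.TT) (h16 : 16 ≤ Nat.card E) (hne : D.TwoPlanes) :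
    D.flip.TwoPlanes := by
  intro hp
  apply hne
  intro x y z z' hz hz'
  have hF := hD.flip
  haveI : Finite (E ⧸ Submodule.span K2 ({x} : Set E)) :=
    Finite.of_surjective _ (Submodule.Quotient.mk_surjective _)
  have hx : x ≠ 0 := hz.1
  -- transitivity on pairs of functionals vanishing at `x`
  have hQ : (D.quot x).flip.TT := by
    refine ⟨fun l m l' m' hlm hlm' => ?_, ?_⟩
    · have i1 : Ind2 l.1 m.1 := ⟨fun e => hlm.1 (Subtype.ext e), fun e => hlm.2.1 (Subtype.ext e),
        fun e => hlm.2.2 (Subtype.ext e)⟩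
      have i2 : Ind2 l'.1 m'.1 := ⟨fun e => hlm'.1 (Subtype.ext e),
        fun e => hlm'.2.1 (Subtype.ext e), fun e => hlm'.2.2 (Subtype.ext e)⟩
      obtain ⟨g, g1, g2⟩ := hF.tt l.1 m.1 l'.1 m'.1 i1 i2
      simp only [flip_act] at g1 g2
      have key : ∃ k ∈ D.flip.stab l'.1 ⊓ D.flip.stab m'.1, D.act k (D.act g x) = x := by
        refine D.flip.trans_dual_of_trans _ (Submodule.span K2 ({l'.1, m'.1} : Set E'))
          (fun μ ν hμ hν => ?_) (by simpa using hx) hx ?_
        · obtain ⟨k, k1, k2, k3⟩ := hp l'.1 m'.1 μ ν ((ind3_iff i2).2 hμ) ((ind3_iff i2).2 hν)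
          exact ⟨k, ⟨k1, k2⟩, k3⟩
        · intro p hp'
          have e1 : D.pair (D.act g x) l'.1 = 0 := by
            rw [← g1, D.inv]; exact D.mem_perp_one.1 l.2
          have e2 : D.pair (D.act g x) m'.1 = 0 := by
            rw [← g2, D.inv]; exact D.mem_perp_one.1 m.2
          have e3 := D.mem_perp_one.1 l'.2
          have e4 := D.mem_perp_one.1 m'.2
          simp only [flip_pair]
          rcases mem_span_two.1 hp' with rfl | rfl | rfl | rfl <;> simp [e1, e2, e3, e4]
      obtain ⟨k, ⟨k1, k2⟩, k3⟩ := key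
      refine ⟨⟨k * g, by show D.act (k * g) x = x; rw [D.act_mul, k3]⟩, Subtype.ext ?_, Subtype.ext ?_⟩
      · show D.act' (k * g) l.1 = l'.1
        rw [D.act'_mul, g1]; exact k1
      · show D.act' (k * g) m.1 = m'.1
        rw [D.act'_mul, g2]; exact k2
    · have h := D.card_perp (Submodule.span K2 ({x} : Set E))
      rw [card_span_one hx] at h
      omega
  obtain ⟨⟨g, hg⟩, gy, gz⟩ := hQ.flip_tt ((ind2_mk hx).2 hz) ((ind2_mk hx).2 hz')
  simp only [flip_act', quot_act, mk_eq_mk_iff] at gy gz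
  obtain ⟨k, k1, k2, k3⟩ : ∃ k, D.act k x = x ∧ D.act k y = y ∧ D.act k z = D.act g z := by
    rcases gy with gy | gy
    · exact ⟨g, hg, gy, rfl⟩
    · have h' : Ind3 x (y + x) (D.act g z) := by
        have := D.ind3_act hz g
        rwa [show D.act g x = x from hg, gy] at this
      obtain ⟨h, h1, h2, h3⟩ := hD.colour' h'.swap23
      exact ⟨h * g, by rw [D.act_mul, show D.act g x = x from hg, h1],
        by rw [D.act_mul, gy, h3, add_add_cancel_right'], by rw [D.act_mul, h2]⟩
  rcases gz with gz | gz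
  · exact ⟨k, k1, k2, k3.trans gz⟩
  · have h' : Ind3 x y (D.act k z) := by
      have := D.ind3_act hz k
      rwa [k1, k2] at this
    obtain ⟨h, h1, h2, h3⟩ := hD.colour' h'
    exact ⟨h * k, by rw [D.act_mul, k1, h1], by rw [D.act_mul, k2, h2],
      by rw [D.act_mul, h3, k3, gz, add_add_cancel_right']⟩

lemma TT.exists_sys (hD : D.TT) (h16 : 16 ≤ Nat.card E) (hne : D.TwoPlanes) :
    Nonempty D.Sys := by
  obtain ⟨H⟩ := hD.exists_half h16 hne
  obtain ⟨H'⟩ := hD.flip.exists_half (by rw [D.card_eq]; exact h16) (hne.flip hD h16)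
  exact ⟨⟨hD, H, H'⟩⟩

namespace Sys

/-- The system of the flipped pair. -/
def flip (Y : D.Sys) : D.flip.Sys where
  tt := Y.tt.flip
  H := Y.H'
  H' := Y.H

/-- Points of `l⊥` orthogonal to `S'` of the flag. -/
def Z (Y : D.Sys) (x : E) (l : E') : Submodule K2 E := D.flip.perp (Y.H'.S l x)

variable (Y : D.Sys) {x z : E} {l : E'}

lemma mem_Z : z ∈ Y.Z x l ↔ ∀ μ ∈ Y.H'.S l x, D.pair z μ = 0 := Iff.rfl

lemma Z_perp (h : D.Inc x l) (hz : z ∈ Y.Z x l) : D.pair z l = 0 :=
  Y.mem_Z.1 hz l (Y.H'.memS h.flip)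

lemma self_mem_Z (h : D.Inc x l) : x ∈ Y.Z x l := Y.mem_Z.2 fun _ hμ => Y.H'.S_perp h.flip hμ

lemma Z_act (g : G) (h : D.Inc x l) (hz : z ∈ Y.Z x l) :
    D.act g z ∈ Y.Z (D.act g x) (D.act' g l) := by
  refine Y.mem_Z.2 fun μ hμ => ?_
  have := Y.H'.S_act g⁻¹ (D.inc_act h g).flip hμ
  simp only [flip_act, flip_act', D.act_inv_act, D.act'_inv_act] at this
  rw [D.pair_act_left]
  exact Y.mem_Z.1 hz _ this

lemma card_Z (h : D.Inc x l) : Nat.card (Y.Z x l) * 2 ^ Y.H'.b = Nat.card E := by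
  rw [← Y.H'.cardS h.flip, ← D.card_eq]
  exact D.flip.card_perp _

lemma exists_dim : ∃ n, 4 ≤ n + 0 ∧ Nat.card E = 2 ^ n ∧ Y.H.a + 2 ≤ n := by
  haveI : Module.Finite K2 E := Module.Finite.of_finite
  obtain ⟨x, hx⟩ := exists_not_mem_of_card (P := (⊥ : Submodule K2 E)) (by
    have h : Nat.card (⊥ : Submodule K2 E) = 1 := Nat.card_unique
    have := Y.tt.big
    omega)
  obtain ⟨y, hy⟩ := Y.tt.exists_ind2 (x := x) (by simpa using hx)
  have hlt : Nat.card (Y.H.U x y) < Nat.card E := by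
    by_contra hle
    refine Y.H.U_ne_top hy (SetLike.coe_injective ?_)
    refine (Set.eq_of_subset_of_ncard_le (Set.subset_univ _) ?_ (Set.toFinite _)).trans rfl
    rw [Set.ncard_univ, ← Nat.card_coe_set_eq]
    exact not_lt.1 hle
  rw [Y.H.cardU hy] at hlt
  have hn : Nat.card E = 2 ^ Module.finrank K2 E := by
    rw [Module.natCard_eq_pow_finrank (K := K2) (V := E), Nat.card_zmod]
  refine ⟨Module.finrank K2 E, ?_, hn, ?_⟩ <;>
  · rw [hn] at hlt
    have := (Nat.pow_lt_pow_iff_right one_lt_two).1 hlt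
    have := Y.H.two_le_a
    omega

open scoped Classical in
/-- The two big orbits in `l⊥` coincide: `Z x l` is described by the subspaces `U`. -/
theorem key (h : D.Inc x l) :
    (∀ z, Ind2 x z → D.pair z l = 0 →
      (z ∈ Y.Z x l ↔ ∀ p ∈ Y.H.U x z, D.pair p l = 0)) ∧ Y.H'.b = Y.H.a := by
  letI := Fintype.ofFinite E
  letI := Fintype.ofFinite E'
  obtain ⟨n, hn4, hN, han⟩ := Y.exists_dim
  have hD := Y.tt
  let B₁ : E' → Finset E := fun m => Finset.univ.filter fun z =>
    Ind2 x z ∧ D.pair z m = 0 ∧ ∃ p ∈ Y.H.U x z, D.pair p m = 1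
  let B₂ : Finset E := Finset.univ.filter fun z => D.pair z l = 0 ∧ z ∉ Y.Z x l
  have hW : (Finset.univ.filter fun z => D.pair z l = 0).card = 2 ^ (n - 1) := by
    have := D.card_ker h.2.1
    rw [Nat.card_eq_fintype_card, Fintype.card_subtype, hN] at this
    have e : 2 ^ n = 2 ^ (n - 1) * 2 := by rw [← pow_succ]; congr 1; omega
    omega
  -- count of `B₁`
  have hB₁ : (B₁ l).card + 2 ^ (n - Y.H.a) = 2 ^ (n - 1) := by
    let L : Finset E' := Finset.univ.filter fun m => D.pair x m = 0 ∧ m ≠ 0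
    let Z₁ : Finset E := Finset.univ.filter fun z => Ind2 x z
    have hconst : ∀ m ∈ L, (B₁ m).card = (B₁ l).card := by
      intro m hm
      simp only [L, Finset.mem_filter, Finset.mem_univ, true_and] at hm
      obtain ⟨g, hg, hgm⟩ := hD.fix_point h.1 h.2.1 hm.2 (h.2.2.trans hm.1.symm)
      symm
      refine Finset.card_bij (fun z _ => D.act g z) ?_ (fun _ _ _ _ e => (D.act g).injective e) ?_
      · intro z hz
        simp only [B₁, Finset.mem_filter, Finset.mem_univ, true_and] at hz ⊢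
        obtain ⟨hz1, hz2, p, hp, hp1⟩ := hz
        refine ⟨by rw [← hg]; exact D.ind2_act hz1 g, by rw [← hgm, D.inv]; exact hz2,
          D.act g p, ?_, by rw [← hgm, D.inv]; exact hp1⟩
        have := Y.H.U_act g hz1 hp
        rwa [hg] at this
      · intro z hz
        refine ⟨D.act g⁻¹ z, ?_, D.act_act_inv g z⟩
        simp only [B₁, Finset.mem_filter, Finset.mem_univ, true_and] at hz ⊢
        obtain ⟨hz1, hz2, p, hp, hp1⟩ := hz
        have hx' : D.act g⁻¹ x = x := by conv_lhs => rw [← hg, D.act_inv_act]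
        have hl' : D.act' g⁻¹ m = l := by rw [← hgm, D.act'_inv_act]
        refine ⟨by rw [← hx']; exact D.ind2_act hz1 _, by rw [← hl', D.inv]; exact hz2,
          D.act g⁻¹ p, ?_, by rw [← hl', D.inv]; exact hp1⟩
        have := Y.H.U_act g⁻¹ hz1 hp
        rwa [hx'] at this
    have h1 : ∑ z ∈ Z₁, (L.filter fun m => D.pair z m = 0 ∧ ∃ p ∈ Y.H.U x z, D.pair p m = 1).card =
        L.card * (B₁ l).card := by
      rw [← smul_eq_mul, ← Finset.sum_const, ← Finset.sum_congr rfl hconst]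
      simp only [Finset.card_eq_sum_ones, Finset.sum_filter]
      rw [Finset.sum_comm]
      refine Finset.sum_congr rfl fun m _ => ?_
      simp only [B₁, Finset.sum_filter, Z₁, ← ite_and]
    have h2 : ∀ z ∈ Z₁,
        (L.filter fun m => D.pair z m = 0 ∧ ∃ p ∈ Y.H.U x z, D.pair p m = 1).card +
          2 ^ (n - Y.H.a - 1) = 2 ^ (n - 2) := by
      intro z hz
      simp only [Z₁, Finset.mem_filter, Finset.mem_univ, true_and] at hz
      have c1 := D.card_perp (Y.H.U x z)
      have c2 := D.card_perp (Submodule.span K2 ({x, z} : Set E))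
      rw [Y.H.cardU hz, hN] at c1
      rw [card_span_two hz, hN] at c2
      have e1 : 2 ^ n = 2 ^ (n - Y.H.a - 1) * 2 ^ (Y.H.a + 1) := by
        rw [← pow_add]; congr 1; omega
      have e2 : 2 ^ n = 2 ^ (n - 2) * 4 := by
        rw [show (4 : ℕ) = 2 ^ 2 by rfl, ← pow_add]; congr 1; omega
      have d1 : Nat.card (D.perp (Y.H.U x z)) = 2 ^ (n - Y.H.a - 1) :=
        Nat.eq_of_mul_eq_mul_right (by positivity) (c1.trans e1)
      have d2 : Nat.card (D.perp (Submodule.span K2 ({x, z} : Set E))) = 2 ^ (n - 2) :=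
        Nat.eq_of_mul_eq_mul_right (by norm_num) (c2.trans e2)
      rw [← d1, ← d2, Nat.card_eq_fintype_card, Nat.card_eq_fintype_card, Fintype.card_subtype,
        Fintype.card_subtype, ← Finset.card_union_of_disjoint]
      · congr 1
        ext m
        simp only [Finset.mem_union, Finset.mem_filter, Finset.mem_univ, true_and, L, mem_perp]
        constructor
        · rintro (⟨⟨hxm, -⟩, hzm, -⟩ | hm) p hp
          · rcases mem_span_two.1 hp with rfl | rfl | rfl | rfl <;> simp [hxm, hzm]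
          · refine hm p (?_ : p ∈ Y.H.U x z)
            rcases mem_span_two.1 hp with rfl | rfl | rfl | rfl
            · exact zero_mem _
            · exact Y.H.memU_left hz
            · exact Y.H.memU_right hz
            · exact add_mem (Y.H.memU_left hz) (Y.H.memU_right hz)
        · intro hm
          by_cases hU : ∃ p ∈ Y.H.U x z, D.pair p m = 1
          · refine Or.inl ⟨⟨hm x (Submodule.subset_span (by simp)), ?_⟩,
              hm z (Submodule.subset_span (by simp)), hU⟩
            rintro rfl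
            obtain ⟨p, -, hp⟩ := hU
            simp at hp
          · push Not at hU
            exact Or.inr fun p hp => by
              by_contra hne
              exact hU p hp (k2_eq_one hne)
      · rw [Finset.disjoint_left]
        intro m hm hm'
        simp only [Finset.mem_filter, Finset.mem_univ, true_and, mem_perp] at hm hm'
        obtain ⟨p, hp, hp1⟩ := hm.2.2
        rw [hm' p hp] at hp1
        exact zero_ne_one hp1
    have hL : L.card + 1 = 2 ^ (n - 1) := by
      have hk := D.flip.card_ker (l := x) h.1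
      rw [Nat.card_eq_fintype_card, Fintype.card_subtype, D.card_eq, hN] at hk
      simp only [flip_pair] at hk
      have e : 2 ^ n = 2 ^ (n - 1) * 2 := by rw [← pow_succ]; congr 1; omega
      have : (Finset.univ.filter fun m : E' => D.pair x m = 0).card = L.card + 1 := by
        rw [show (Finset.univ.filter fun m : E' => D.pair x m = 0) = insert 0 L by
          ext m; by_cases hm : m = 0 <;> simp [L, hm],
          Finset.card_insert_of_notMem (by simp [L])]
      have hk' : (Finset.univ.filter fun m : E' => D.pair x m = 0).card * 2 = 2 ^ n := by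
        convert hk using 3; ext m; exact Iff.intro (fun hh => Finset.mem_filter.2 ⟨Finset.mem_univ _, (Finset.mem_filter.1 hh).2⟩) (fun hh => Finset.mem_filter.2 ⟨Finset.mem_univ _, (Finset.mem_filter.1 hh).2⟩)
      omega
    have hZ₁ : Z₁.card + 2 = 2 ^ n := by
      have e : (Finset.univ : Finset E) = insert 0 (insert x Z₁) := by
        ext z
        simp only [Finset.mem_univ, Finset.mem_insert, Z₁, Finset.mem_filter, true_and, true_iff]
        by_cases h0 : z = 0
        · exact Or.inl h0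
        · by_cases h1 : z = x
          · exact Or.inr (Or.inl h1)
          · exact Or.inr (Or.inr ⟨h.1, h0, Ne.symm h1⟩)
      rw [← hN, Nat.card_eq_fintype_card, ← Finset.card_univ, e,
        Finset.card_insert_of_notMem (by
          simp only [Z₁, Finset.mem_insert, Finset.mem_filter, not_or]
          exact ⟨Ne.symm h.1, fun hh => hh.2.2.1 rfl⟩),
        Finset.card_insert_of_notMem (by
          simp only [Z₁, Finset.mem_filter]
          exact fun hh => hh.2.2.2 rfl)]
    have h3 : ∑ z ∈ Z₁, (L.filter fun m => D.pair z m = 0 ∧ ∃ p ∈ Y.H.U x z, D.pair p m = 1).card =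
        Z₁.card * (2 ^ (n - 2) - 2 ^ (n - Y.H.a - 1)) := by
      rw [← smul_eq_mul, ← Finset.sum_const]
      exact Finset.sum_congr rfl fun z hz => by have := h2 z hz; omega
    rw [h1, show Z₁.card = 2 * L.card by
      have e : 2 ^ n = 2 ^ (n - 1) * 2 := by rw [← pow_succ]; congr 1; omega
      omega, mul_comm 2, mul_assoc] at h3
    have hL0 : 0 < L.card := by
      have : 2 ^ 1 ≤ 2 ^ (n - 1) := Nat.pow_le_pow_right (by omega) (by omega)
      omega
    have h4 := Nat.eq_of_mul_eq_mul_left hL0 h3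
    have e3 : 2 ^ (n - 1) = 2 * 2 ^ (n - 2) := by rw [← pow_succ']; congr 1; omega
    have e4 : 2 ^ (n - Y.H.a) = 2 * 2 ^ (n - Y.H.a - 1) := by rw [← pow_succ']; congr 1; omega
    have : 2 ^ (n - Y.H.a - 1) ≤ 2 ^ (n - 2) :=
      Nat.pow_le_pow_right (by omega) (by have := Y.H.two_le_a; omega)
    omega
  have hB₂ : B₂.card + Nat.card (Y.Z x l) = 2 ^ (n - 1) := by
    rw [Nat.card_eq_fintype_card, Fintype.card_subtype, ← hW, ← Finset.card_union_of_disjoint]
    · congr 1
      ext z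
      simp only [B₂, Finset.mem_union, Finset.mem_filter, Finset.mem_univ, true_and]
      exact ⟨fun hh => hh.elim (·.1) (Y.Z_perp h), fun hh => (em (z ∈ Y.Z x l)).symm.imp
        (fun hn => ⟨hh, hn⟩) id⟩
    · rw [Finset.disjoint_left]
      intro z hz hz'
      simp only [B₂, Finset.mem_filter, Finset.mem_univ, true_and] at hz hz'
      exact hz.2 hz'
  have hinv : ∀ g, D.act g x = x → D.act' g l = l → ∀ z,
      (z ∈ B₁ l → D.act g z ∈ B₁ l) ∧ (z ∈ B₂ → D.act g z ∈ B₂) := by
    intro g hg hgl z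
    constructor
    · simp only [B₁, Finset.mem_filter, Finset.mem_univ, true_and]
      rintro ⟨hz1, hz2, p, hp, hp1⟩
      refine ⟨by rw [← hg]; exact D.ind2_act hz1 g, by rw [← hgl, D.inv]; exact hz2,
        D.act g p, ?_, by rw [← hgl, D.inv]; exact hp1⟩
      have := Y.H.U_act g hz1 hp
      rwa [hg] at this
    · simp only [B₂, Finset.mem_filter, Finset.mem_univ, true_and]
      rintro ⟨hz1, hz2⟩
      refine ⟨by rw [← hgl, D.inv]; exact hz1, fun hh => hz2 ?_⟩
      have := Y.Z_act g⁻¹ h hh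
      rwa [D.act_inv_act, show D.act g⁻¹ x = x by conv_lhs => rw [← hg, D.act_inv_act],
        show D.act' g⁻¹ l = l by conv_lhs => rw [← hgl, D.act'_inv_act]] at this
  have hfixmv : ∀ {z' : E}, Ind2 x z' → D.pair z' l = 0 → ∀ w, (w = z' ∨ w = z' + x) →
      ∃ g, D.act g x = x ∧ D.act' g l = l ∧ D.act g w = z' := by
    intro z' hz' hz'l w hw
    rcases hw with rfl | rfl
    · exact ⟨1, D.act_one x, D.act'_one l, D.act_one _⟩
    · obtain ⟨g, g1, g2, g3⟩ := hD.line_mv hz' h.2.2 hz'l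
      exact ⟨g, g1, g3, by rw [map_add, g2, g1, add_comm x z', add_add_cancel_right']⟩
  have ht₁ : ∀ z ∈ B₁ l, ∀ z' ∈ B₁ l, ∃ g, D.act g x = x ∧ D.act' g l = l ∧ D.act g z = z' := by
    simp only [B₁, Finset.mem_filter, Finset.mem_univ, true_and]
    rintro z ⟨hz1, hz2, p, hp, hp1⟩ z' ⟨hz1', hz2', p', hp', hp1'⟩
    obtain ⟨g, g1, g2⟩ := hD.tt x z x z' hz1 hz1'
    obtain ⟨k, k1, k2, k3⟩ := Y.H.U_trans (l := D.act' g l) (l' := l) hz1'
      (by conv_lhs => rw [← g1, D.inv, h.2.2]) (by rw [← g2, D.inv, hz2]) h.2.2 hz2'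
      ⟨D.act g p, by have := Y.H.U_act g hz1 hp; rwa [g1, g2] at this, by rw [D.inv]; exact hp1⟩
      ⟨p', hp', hp1'⟩
    obtain ⟨m, m1, m2, m3⟩ := hfixmv hz1' hz2' (D.act k z') k2
    exact ⟨m * (k * g), by rw [D.act_mul, D.act_mul, g1, k1, m1],
      by rw [D.act'_mul, D.act'_mul, k3, m2], by rw [D.act_mul, D.act_mul, g2, m3]⟩
  have ht₂ : ∀ z ∈ B₂, ∀ z' ∈ B₂, ∃ g, D.act g x = x ∧ D.act' g l = l ∧ D.act g z = z' := by
    simp only [B₂, Finset.mem_filter, Finset.mem_univ, true_and]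
    rintro z ⟨hz1, hz2⟩ z' ⟨hz1', hz2'⟩
    have hz' : Ind2 x z' := ⟨h.1, fun e => hz2' (e ▸ zero_mem _),
      fun e => hz2' (e ▸ Y.self_mem_Z h)⟩
    have aux : ∀ w : E, w ∉ Y.Z x l → ∃ μ ∈ Y.H'.S l x, D.pair w μ = 1 := by
      intro w hw
      rw [Y.mem_Z] at hw
      push Not at hw
      obtain ⟨μ, hμ, hμ1⟩ := hw
      exact ⟨μ, hμ, k2_eq_one hμ1⟩
    obtain ⟨g, g1, g2, g3⟩ := Y.H'.S_dual (μ := z) (μ' := z') h.flip hz1 hz1' (aux z hz2) (aux z' hz2')
    obtain ⟨m, m1, m2, m3⟩ := hfixmv hz' hz1' (D.act g z) g3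
    exact ⟨m * g, by rw [D.act_mul, show D.act g x = x from g2, m1],
      by rw [D.act'_mul, show D.act' g l = l from g1, m2], by rw [D.act_mul, m3]⟩
  have hTsub : ∀ z, z ∈ B₁ l ∨ z ∈ B₂ →
      z ∈ Finset.univ.filter (fun z => D.pair z l = 0) \ {0, x} := by
    intro z hz
    simp only [B₁, B₂, Finset.mem_filter, Finset.mem_univ, true_and] at hz
    simp only [Finset.mem_sdiff, Finset.mem_filter, Finset.mem_univ, true_and, Finset.mem_insert,
      Finset.mem_singleton, not_or]
    rcases hz with ⟨hz1, hz2, -⟩ | ⟨hz1, hz2⟩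
    · exact ⟨hz2, hz1.2.1, hz1.2.2.symm⟩
    · exact ⟨hz1, fun e => hz2 (by rw [e]; exact zero_mem _),
        fun e => hz2 (by rw [e]; exact Y.self_mem_Z h)⟩
  have hmeet : ∃ z, z ∈ B₁ l ∧ z ∈ B₂ := by
    by_contra hne
    push Not at hne
    have hd : Disjoint (B₁ l) B₂ := Finset.disjoint_left.2 hne
    have h1 := Finset.card_le_card (fun z hz => hTsub z (Finset.mem_union.1 hz) :
      B₁ l ∪ B₂ ⊆ _)
    rw [Finset.card_union_of_disjoint hd, Finset.card_sdiff_of_subset (by
      simp [Finset.insert_subset_iff, h.2.2]), hW,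
      Finset.card_pair (Ne.symm h.1)] at h1
    have hZ := Y.card_Z h
    rw [hN] at hZ
    have : 4 * Nat.card (Y.Z x l) ≤ 2 ^ n := by
      rw [← hZ, mul_comm 4]
      refine Nat.mul_le_mul_left _ ?_
      exact (Nat.pow_le_pow_right (n := 2) (by omega) Y.H'.two_le_b)
    have e1 : 2 ^ n = 2 ^ (n - 1) * 2 := by rw [← pow_succ]; congr 1; omega
    have e2 : 2 ^ (n - 1) = 2 * 2 ^ (n - 2) := by rw [← pow_succ']; congr 1; omega
    have : 2 ^ (n - Y.H.a) ≤ 2 ^ (n - 2) :=
      Nat.pow_le_pow_right (by omega) (by have := Y.H.two_le_a; omega)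
    have : 2 ^ 1 ≤ 2 ^ (n - 2) := Nat.pow_le_pow_right (by omega) (by omega)
    omega
  obtain ⟨z₀, hz₀₁, hz₀₂⟩ := hmeet
  have heq : ∀ z, z ∈ B₁ l ↔ z ∈ B₂ := by
    intro z
    constructor
    · intro hz
      obtain ⟨g, g1, g2, rfl⟩ := ht₁ z₀ hz₀₁ z hz
      exact (hinv g g1 g2 z₀).2 hz₀₂
    · intro hz
      obtain ⟨g, g1, g2, rfl⟩ := ht₂ z₀ hz₀₂ z hz
      exact (hinv g g1 g2 z₀).1 hz₀₁
  refine ⟨fun z hz hzl => ?_, ?_⟩
  · have := heq z
    simp only [B₁, B₂, Finset.mem_filter, Finset.mem_univ, true_and, hz, hzl] at this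
    rw [← not_iff_not]
    refine this.symm.trans ⟨fun ⟨p, hp, hp1⟩ hall => ?_, fun hh => ?_⟩
    · rw [hall p hp] at hp1; exact zero_ne_one hp1
    · push Not at hh
      obtain ⟨p, hp, hp1⟩ := hh
      exact ⟨p, hp, k2_eq_one hp1⟩
  · have hcard : (B₁ l).card = B₂.card := congrArg Finset.card (Finset.ext heq)
    have hZ : Nat.card (Y.Z x l) = 2 ^ (n - Y.H.a) := by omega
    have := Y.card_Z h
    rw [hZ, hN, ← pow_add] at this
    have := Nat.pow_right_injective le_rfl this
    omega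

end Sys

end Duo

end CfsgLib.LinTwo
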