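import Cfsg.Agent.Lib.LinTwo.Basic

/-!
# Two-transitive actions on a dual pair

Transitivity of point stabilisers on functionals, the colour lemma and the two derived pairs
(quotient by a point, hyperplane).
-/

namespace CfsgLib.LinTwo

variable {G E E' : Type*} [Group G] [AddCommGroup E] [Module K2 E] [AddCommGroup E'] [Module K2 E']

/-- Two independent vectors. -/
def Ind2 (x y : E) : Prop := x ≠ 0 ∧ y ≠ 0 ∧ x ≠ y

/-- Three independent vectors. -/
def Ind3 (x y z : E) : Prop :=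
  x ≠ 0 ∧ y ≠ 0 ∧ z ≠ 0 ∧ x ≠ y ∧ x ≠ z ∧ y ≠ z ∧ x + y ≠ z

lemma add_eq_swap {x y z : E} : x + y = z ↔ x + z = y :=
  ⟨fun h => by rw [← h, add_add_cancel_left'], fun h => by rw [← h, add_add_cancel_left']⟩

lemma Ind2.symm {x y : E} (h : Ind2 x y) : Ind2 y x := ⟨h.2.1, h.1, h.2.2.symm⟩

lemma Ind2.add_ne_zero {x y : E} (h : Ind2 x y) : x + y ≠ 0 := fun e =>
  h.2.2 (add_eq_zero_iff_eq'.1 e)

lemma Ind2.add_right {x y : E} (h : Ind2 x y) : Ind2 x (x + y) :=
  ⟨h.1, h.add_ne_zero, fun e => h.2.1 (by simpa using e)⟩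

lemma ind2_iff {x y : E} (hx : x ≠ 0) : Ind2 x y ↔ y ∉ Submodule.span K2 ({x} : Set E) := by
  rw [mem_span_one, not_or]
  exact ⟨fun h => ⟨h.2.1, h.2.2.symm⟩, fun h => ⟨hx, h.1, Ne.symm h.2⟩⟩

lemma ind3_iff {x y z : E} (h : Ind2 x y) :
    Ind3 x y z ↔ z ∉ Submodule.span K2 ({x, y} : Set E) := by
  simp only [mem_span_two, not_or]
  exact ⟨fun k => ⟨k.2.2.1, k.2.2.2.2.1.symm, k.2.2.2.2.2.1.symm, k.2.2.2.2.2.2.symm⟩,
    fun k => ⟨h.1, h.2.1, k.1, h.2.2, Ne.symm k.2.1, Ne.symm k.2.2.1, Ne.symm k.2.2.2⟩⟩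

namespace Ind3

variable {x y z : E} (h : Ind3 x y z)
include h

lemma ind2 : Ind2 x y := ⟨h.1, h.2.1, h.2.2.2.1⟩
lemma ind2' : Ind2 x z := ⟨h.1, h.2.2.1, h.2.2.2.2.1⟩
lemma ind2'' : Ind2 y z := ⟨h.2.1, h.2.2.1, h.2.2.2.2.2.1⟩

lemma swap12 : Ind3 y x z :=
  ⟨h.2.1, h.1, h.2.2.1, h.2.2.2.1.symm, h.2.2.2.2.2.1, h.2.2.2.2.1, by
    rw [add_comm]; exact h.2.2.2.2.2.2⟩

lemma swap23 : Ind3 x z y :=
  ⟨h.1, h.2.2.1, h.2.1, h.2.2.2.2.1, h.2.2.2.1, h.2.2.2.2.2.1.symm, fun e =>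
    h.2.2.2.2.2.2 (add_eq_swap.1 e)⟩

lemma rot : Ind3 y z x := h.swap12.swap23

lemma add3 : Ind3 x y (z + x) := by
  obtain ⟨a, b, c, d, e, f, g⟩ := h
  refine ⟨a, b, fun k => e (add_eq_zero_iff_eq'.1 k).symm, d, fun k => c ?_, fun k => ?_, fun k => ?_⟩
  · have := congrArg (· + x) k
    simpa [vadd_self, add_add_cancel_right'] using this.symm
  · exact g (by rw [k, add_comm z x, add_add_cancel_left'])
  · rw [add_comm z x] at k
    exact f (add_left_cancel k)

lemma add2 : Ind3 x (y + x) z := h.swap23.add3.swap23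

lemma add1 : Ind3 (x + y) y z := h.swap12.add2.swap12

end Ind3

namespace Duo

variable (D : Duo G E E')

/-- The hypotheses of the main theorem: transitive on ordered pairs of independent vectors. -/
structure TT : Prop where
  tt : ∀ x y x' y' : E, Ind2 x y → Ind2 x' y' → ∃ g, D.act g x = x' ∧ D.act g y = y'
  big : 8 ≤ Nat.card E

lemma ind2_act {x y : E} (h : Ind2 x y) (g : G) : Ind2 (D.act g x) (D.act g y) :=
  ⟨by simpa using h.1, by simpa using h.2.1, fun e => h.2.2 ((D.act g).injective e)⟩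

lemma ind3_act {x y z : E} (h : Ind3 x y z) (g : G) :
    Ind3 (D.act g x) (D.act g y) (D.act g z) := by
  obtain ⟨a, b, c, d, e, f, k⟩ := h
  exact ⟨by simpa using a, by simpa using b, by simpa using c, fun h => d ((D.act g).injective h),
    fun h => e ((D.act g).injective h), fun h => f ((D.act g).injective h),
    fun h => k ((D.act g).injective (by rw [map_add]; exact h))⟩

variable {D}
variable [Finite E] [Finite E']

lemma card_span_one {x : E} (hx : x ≠ 0) :
    Nat.card (Submodule.span K2 ({x} : Set E)) = 2 := by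
  rw [← Nat.card_congr (LinearEquiv.toSpanNonzeroSingleton K2 E x hx).toEquiv, Nat.card_zmod]

lemma card_span_two {x y : E} (h : Ind2 x y) :
    Nat.card (Submodule.span K2 ({x, y} : Set E)) = 4 := by
  have e : ((Submodule.span K2 ({x, y} : Set E)) : Set E) = ({0, x, y, x + y} : Set E) := by
    ext z; simp [mem_span_two]
  rw [← SetLike.coe_sort_coe, e, Nat.card_coe_set_eq]
  rw [Set.ncard_insert_of_notMem (by simp [h.1.symm, h.2.1.symm, h.add_ne_zero.symm]) (Set.toFinite _),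
    Set.ncard_insert_of_notMem (by simp [h.2.2, h.2.1]) (Set.toFinite _),
    Set.ncard_pair (by simpa using h.1)]

lemma exists_not_mem_of_card {P : Submodule K2 E} (h : Nat.card P < Nat.card E) : ∃ z, z ∉ P := by
  by_contra hne
  push Not at hne
  rw [Submodule.eq_top_iff'.2 hne, card_top_submodule] at h
  exact lt_irrefl _ h

variable (hD : D.TT)
include hD

lemma TT.exists_ind2 {x : E} (hx : x ≠ 0) : ∃ y, Ind2 x y := by
  obtain ⟨y, hy⟩ := exists_not_mem_of_card (P := Submodule.span K2 ({x} : Set E))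
    (by rw [card_span_one hx]; have := hD.big; omega)
  exact ⟨y, (ind2_iff hx).2 hy⟩

lemma TT.point {x x' : E} (hx : x ≠ 0) (hx' : x' ≠ 0) : ∃ g, D.act g x = x' := by
  obtain ⟨y, hy⟩ := hD.exists_ind2 hx
  obtain ⟨y', hy'⟩ := hD.exists_ind2 hx'
  obtain ⟨g, hg, -⟩ := hD.tt x y x' y' hy hy'
  exact ⟨g, hg⟩

lemma TT.fix_point {x l l'} (hx : x ≠ 0) (hl : l ≠ 0) (hl' : l' ≠ 0)
    (h : D.pair x l = D.pair x l') : ∃ g, D.act g x = x ∧ D.act' g l = l' := by
  refine D.trans_dual_of_trans (D.stab x) (Submodule.span K2 {x}) (fun z w hz hw => ?_) hl hl' ?_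
  · obtain ⟨g, h1, h2⟩ := hD.tt x z x w ((ind2_iff hx).2 hz) ((ind2_iff hx).2 hw)
    exact ⟨g, h1, h2⟩
  · intro p hp
    rcases mem_span_one.1 hp with rfl | rfl
    · simp
    · exact h

lemma TT.fix_functional {x x' : E} {l : E'} (hx : x ≠ 0) (hx' : x' ≠ 0) (hl : l ≠ 0)
    (h : D.pair x l = D.pair x' l) : ∃ g, D.act g x = x' ∧ D.act' g l = l := by
  obtain ⟨g, hg⟩ := hD.point hx hx'
  obtain ⟨k, hk, hk'⟩ := hD.fix_point (l := D.act' g l) hx' (by simpa using hl) hl
    (by rw [← h, ← hg, D.inv])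
  exact ⟨k * g, by rw [D.act_mul, hg, hk], by rw [D.act'_mul, hk']⟩

omit hD in
lemma exists_common {l l' : E'} (hl : l ≠ 0) (hl' : l' ≠ 0) :
    ∃ z, D.pair z l = 1 ∧ D.pair z l' = 1 := by
  obtain ⟨z, hz, hzl⟩ := D.flip.exists_fun (P := Submodule.span K2 {l + l'}) (z := l) (by
    rw [mem_span_one]
    rintro (h | h)
    · exact hl h
    · exact hl' (by simpa using h))
  refine ⟨z, hzl, ?_⟩
  have := hz (l + l') (Submodule.mem_span_singleton_self _)
  rw [map_add, LinearMap.add_apply, flip_pair, flip_pair] at this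
  rw [flip_pair] at hzl
  rw [hzl] at this
  revert this
  generalize D.pair z l' = a
  revert a; decide

lemma TT.point' {l l' : E'} (hl : l ≠ 0) (hl' : l' ≠ 0) : ∃ g, D.act' g l = l' := by
  obtain ⟨z, h1, h2⟩ := D.exists_common hl hl'
  have hz : z ≠ 0 := by rintro rfl; simp at h1
  obtain ⟨g, -, hg⟩ := hD.fix_point hz hl hl' (h1.trans h2.symm)
  exact ⟨g, hg⟩

lemma TT.flip_tt {l m l' m' : E'} (h : Ind2 l m) (h' : Ind2 l' m') :
    ∃ g, D.act' g l = l' ∧ D.act' g m = m' := by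
  classical
  letI := Fintype.ofFinite E
  letI := Fintype.ofFinite E'
  obtain ⟨g₀, hg₀⟩ := hD.point' h.1 h'.1
  -- the stabiliser of `l'` is transitive on the other functionals
  set m₀ := D.act' g₀ m
  have hm₀ : Ind2 l' m₀ := hg₀ ▸ D.flip.ind2_act h g₀
  let f : E' → ℤ := fun w => if ∃ g, D.act' g l' = l' ∧ D.act' g m₀ = w then 1 else 0
  have hf : ∀ k, D.act' k l' = l' → ∀ w, f (D.act' k w) = f w := by
    intro k hk w
    simp only [f]
    refine if_congr ⟨?_, ?_⟩ rfl rfl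
    · rintro ⟨a, ha, e⟩
      exact ⟨k⁻¹ * a, by rw [D.act'_mul, ha]; nth_rw 1 [← hk]; rw [D.act'_inv_act],
        by rw [D.act'_mul, e, D.act'_inv_act]⟩
    · rintro ⟨a, ha, rfl⟩
      exact ⟨k * a, by rw [D.act'_mul, ha, hk], D.act'_mul k a m₀⟩
  have hcls : ∀ z w : E, z ≠ 0 → w ≠ 0 → D.pair z l' = D.pair w l' → D.hat f z = D.hat f w := by
    intro z w hz hw hzw
    obtain ⟨g, hg, hgl⟩ := hD.fix_functional hz hw h'.1 hzw
    rw [← hg]
    exact (D.hat_act f g (hf g hgl) z).symm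
  have key : ∀ w, Ind2 l' w → ∀ z₀ z₁ : E, z₀ ≠ 0 → D.pair z₀ l' = 0 → D.pair z₁ l' = 1 →
      2 * ((Fintype.card E : ℤ) * f w) = 2 * (D.hat f 0 - D.hat f z₀) := by
    intro w hw z₀ z₁ hz₀ hz₀l hz₁l
    have hz₁ : z₁ ≠ 0 := by rintro rfl; simp at hz₁l
    have e : ∀ z : E, 2 * (D.hat f z * sgn (D.pair z w)) =
        (D.hat f z₀ + D.hat f z₁) * sgn (D.pair z w) +
        (D.hat f z₀ - D.hat f z₁) * sgn (D.pair z (l' + w)) +
        (if z = 0 then 2 * (D.hat f 0 - D.hat f z₀) else 0) := by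
      intro z
      rw [map_add, sgn_add]
      by_cases hz : z = 0
      · subst hz; simp [sgn_zero]; ring
      · rw [if_neg hz]
        by_cases hzl : D.pair z l' = 0
        · rw [hzl, sgn_zero, hcls z z₀ hz hz₀ (hzl.trans hz₀l.symm)]; ring
        · rw [k2_eq_one hzl, sgn_one, hcls z z₁ hz hz₁ ((k2_eq_one hzl).trans hz₁l.symm)]; ring
    rw [← D.inversion f w, Finset.mul_sum]
    simp only [e, Finset.sum_add_distrib, ← Finset.mul_sum]
    have s1 := D.flip.sum_sgn hw.2.1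
    have s2 := D.flip.sum_sgn (z := l' + w) hw.add_ne_zero
    simp only [flip_pair] at s1 s2
    rw [s1, s2]
    simp
  obtain ⟨z₁, hz₁⟩ := D.flip.exists_pair_one h'.1
  obtain ⟨z₀, hz₀, hz₀l⟩ : ∃ z₀ : E, z₀ ≠ 0 ∧ D.pair z₀ l' = 0 := by
    obtain ⟨z₂, hz₂⟩ := exists_not_mem_of_card (P := Submodule.span K2 ({z₁} : Set E))
      (by rw [card_span_one (by rintro rfl; simp at hz₁)]; have := hD.big; omega)
    rw [mem_span_one, not_or] at hz₂
    by_cases hc : D.pair z₂ l' = 0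
    · exact ⟨z₂, hz₂.1, hc⟩
    · refine ⟨z₂ + z₁, fun e => hz₂.2 (add_eq_zero_iff_eq'.1 e), ?_⟩
      simp only [map_add, LinearMap.add_apply, k2_eq_one hc]
      simp only [flip_pair] at hz₁
      rw [hz₁]; rfl
  have e1 := key m₀ hm₀ z₀ z₁ hz₀ hz₀l hz₁
  have e2 := key m' h' z₀ z₁ hz₀ hz₀l hz₁
  have h1 : f m₀ = 1 := if_pos ⟨1, D.act'_one l', D.act'_one m₀⟩
  have h2 : f m' = 1 := by
    rw [← e1, h1] at e2
    exact mul_left_cancel₀ (by exact_mod_cast Fintype.card_ne_zero)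
      (mul_left_cancel₀ two_ne_zero e2)
  by_contra hne
  have : f m' = 0 := if_neg fun ⟨g, hg, hg'⟩ =>
    hne ⟨g * g₀, by rw [D.act'_mul, hg₀, hg], by rw [D.act'_mul]; exact hg'⟩
  omega

lemma TT.flip : D.flip.TT :=
  ⟨fun _ _ _ _ h h' => hD.flip_tt h h', by rw [D.card_eq]; exact hD.big⟩

omit hD in
lemma card_ker {l : E'} (hl : l ≠ 0) :
    Nat.card {z : E // D.pair z l = 0} * 2 = Nat.card E := by
  have h := D.flip.card_perp (Submodule.span K2 {l})
  rw [card_span_one hl, D.card_eq] at h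
  rw [← h]
  congr 1
  refine Nat.card_congr (Equiv.subtypeEquivRight fun z => ?_)
  constructor
  · intro h p hp
    rcases mem_span_one.1 hp with rfl | rfl
    · simp
    · simpa using h
  · intro h
    simpa using h l (Submodule.mem_span_singleton_self l)

lemma TT.affine [Finite G] {x : E} {l : E'} (hx : x ≠ 0) (hl : l ≠ 0) (hxl : D.pair x l = 0)
    {z z' : E} (hz : D.pair z l = 1) (hz' : D.pair z' l = 1) :
    ∃ g, D.act g x = x ∧ D.act' g l = l ∧ D.act g z = z' := by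
  classical
  let K := D.flip.stab l
  letI : MulAction K E := MulAction.compHom E (D.act.comp K.subtype)
  have horb : ∀ w : E, w ≠ 0 →
      MulAction.orbit K w = {u | u ≠ 0 ∧ D.pair u l = D.pair w l} := by
    intro w hw
    ext u
    constructor
    · rintro ⟨⟨g, hg⟩, rfl⟩
      refine ⟨(LinearEquiv.map_ne_zero_iff _).2 hw, ?_⟩
      show D.pair (D.act g w) l = D.pair w l
      conv_lhs => rw [← show D.act' g l = l from hg]
      exact D.inv g w l
    · rintro ⟨hu, hul⟩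
      obtain ⟨g, hg, hgl⟩ := hD.fix_functional hw hu hl hul.symm
      exact ⟨⟨g, hgl⟩, hg⟩
  have hz0 : z ≠ 0 := by rintro rfl; simp at hz
  have hz'0 : z' ≠ 0 := by rintro rfl; simp at hz'
  obtain ⟨d, hd⟩ : ∃ d, Nat.card {u : E // D.pair u l = 0} = 2 ^ d := by
    haveI : Module.Finite K2 E := Module.Finite.of_finite
    let P : Submodule K2 E := LinearMap.ker (D.pair.flip l)
    haveI : Module.Finite K2 P := Module.Finite.of_finite
    refine ⟨Module.finrank K2 P, ?_⟩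
    have := Module.natCard_eq_pow_finrank (K := K2) (V := P)
    rw [Nat.card_zmod] at this
    rw [← this]
    exact Nat.card_congr (Equiv.subtypeEquivRight fun u => by simp [P])
  have hk := D.card_ker hl
  have c1 : Nat.card {u : E | u ≠ 0 ∧ D.pair u l = 0} + 1 = 2 ^ d := by
    rw [← hd, Nat.card_coe_set_eq,
      show Nat.card {u : E // D.pair u l = 0} = ({u : E | D.pair u l = 0}).ncard from
        Nat.card_coe_set_eq _]
    have : {u : E | D.pair u l = 0} = insert 0 {u : E | u ≠ 0 ∧ D.pair u l = 0} := by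
      ext u
      by_cases h : u = 0 <;> simp [h]
    rw [show ({u : E | D.pair u l = 0} : Set E) = _ from this,
      Set.ncard_insert_of_notMem (by simp) (Set.toFinite _)]
  have c2 : Nat.card {u : E | u ≠ 0 ∧ D.pair u l = 1} = 2 ^ d := by
    have e : {u : E | u ≠ 0 ∧ D.pair u l = 1} = {u : E | D.pair u l = 0}ᶜ := by
      ext u
      constructor
      · rintro ⟨-, h⟩ h0
        simp [show D.pair u l = 0 from h0] at h
      · intro h
        exact ⟨by rintro rfl; exact h (by simp), k2_eq_one h⟩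
    rw [e, Nat.card_coe_set_eq, Set.ncard_compl, ← Nat.card_coe_set_eq]
    simp only [Set.coe_setOf]
    omega
  have hd1 : 1 ≤ d := by
    rcases d with _ | d
    · have := hD.big; omega
    · omega
  have hc : (Nat.card (MulAction.orbit K x)).Coprime (Nat.card (MulAction.orbit K z)) := by
    rw [horb x hx, horb z hz0, hxl, hz, c2]
    refine Nat.Coprime.pow_right _ ((Nat.prime_two.coprime_iff_not_dvd.2 ?_).symm)
    rintro ⟨c, hc⟩
    have : 2 ∣ 2 ^ d := dvd_pow_self 2 (by omega)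
    omega
  obtain ⟨k, hk1, hk2⟩ := coprime_move (K := K) x hc (b' := z') (by
    rw [horb z hz0]; exact ⟨hz'0, hz'.trans hz.symm⟩)
  exact ⟨k.1, hk1, k.2, hk2⟩

lemma TT.trace01 [Finite G] {x y : E} {l l' : E'} (h : Ind2 x y) (hxl : D.pair x l = 0)
    (hxl' : D.pair x l' = 0) (hyl : D.pair y l = 1) (hyl' : D.pair y l' = 1) :
    ∃ g, D.act g x = x ∧ D.act g y = y ∧ D.act' g l = l' := by
  have hl : l ≠ 0 := by rintro rfl; simp at hyl
  have hl' : l' ≠ 0 := by rintro rfl; simp at hyl'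
  obtain ⟨g, hg, hgl⟩ := hD.fix_point h.1 hl hl' (hxl.trans hxl'.symm)
  obtain ⟨k, hk, hkl, hky⟩ := hD.affine (z := D.act g y) (z' := y) h.1 hl' hxl'
    (by rw [← hgl, D.inv]; exact hyl) hyl'
  exact ⟨k * g, by rw [D.act_mul, hg, hk], by rw [D.act_mul, hky], by rw [D.act'_mul, hgl, hkl]⟩

/-- Colour lemma: outside a line, the orbit of the pointwise stabiliser of the line is closed
under adding a point of the line. -/
lemma TT.colour [Finite G] {x y z : E} (h : Ind3 x y z) :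
    ∃ g, D.act g x = x ∧ D.act g y = y ∧ D.act g z = z + y := by
  have htr : ∀ l l' : E', D.pair x l = D.pair x l' → D.pair y l = D.pair y l' →
      D.pair y l = 1 → ∃ k ∈ D.stab x ⊓ D.stab y, D.act' k l = l' := by
    intro l l' hx hy hy1
    by_cases hx0 : D.pair x l = 0
    · obtain ⟨g, g1, g2, g3⟩ := hD.trace01 h.ind2 hx0 (hx ▸ hx0) hy1 (hy ▸ hy1)
      exact ⟨g, ⟨g1, g2⟩, g3⟩
    · have hx1 := k2_eq_one hx0
      obtain ⟨g, g1, g2, g3⟩ := hD.trace01 (x := x + y) (y := x) (l := l) (l' := l')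
        h.ind2.add_right.symm
        (by simp [hx1, hy1]; rfl) (by simp [← hx, ← hy, hx1, hy1]; rfl) hx1 (hx ▸ hx1)
      refine ⟨g, ⟨g2, ?_⟩, g3⟩
      show D.act g y = y
      have := g1
      rw [map_add, g2] at this
      exact add_left_cancel this
  obtain ⟨k, hk, hkz⟩ := D.coset_of_traces (D.stab x ⊓ D.stab y) (fun k hk => hk)
    htr ((ind3_iff h.ind2).1 h)
  exact ⟨k, hk.1, hk.2, hkz⟩

lemma TT.colour' [Finite G] {x y z : E} (h : Ind3 x y z) :
    ∃ g, D.act g x = x ∧ D.act g y = y ∧ D.act g z = z + x := by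
  obtain ⟨g, h1, h2, h3⟩ := hD.colour h.swap12
  exact ⟨g, h2, h1, h3⟩

/-- Swapping two of three independent vectors. -/
lemma TT.swap [Finite G] {x y z : E} (h : Ind3 x y z) :
    ∃ g, D.act g x = x ∧ D.act g y = z ∧ D.act g z = y := by
  obtain ⟨g₁, a1, a2, a3⟩ := hD.colour h.swap23
  have h2 : Ind3 x (y + z) z := by
    have := D.ind3_act h g₁
    rwa [a1, a3, a2] at this
  obtain ⟨g₂, b1, b2, b3⟩ := hD.colour h2
  have b3' : D.act g₂ z = y := by rw [b3, add_comm y z, add_add_cancel_left']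
  have h3 : Ind3 x y (y + z) := by
    have := (D.ind3_act h2 g₂).swap23
    rwa [b1, b3', b2] at this
  obtain ⟨g₃, c1, c2, c3⟩ := hD.colour h3
  have c3' : D.act g₃ (y + z) = z := by rw [c3, add_comm y z, add_add_cancel_right']
  refine ⟨g₃ * (g₂ * g₁), ?_, ?_, ?_⟩
  · rw [act_mul, act_mul, a1, b1, c1]
  · rw [act_mul, act_mul, a3, b2, c3']
  · rw [act_mul, act_mul, a2, b3', c2]

end Duo

end CfsgLib.LinTwo
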